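import Cfsg.Agent.H11.ElDefs
import Cfsg.Agent.S0111
import Cfsg.Agent.S0112
import Cfsg.Agent.S0113

/-!
# Project EL, piece TW: a non-square involution with a small centralizer
-/

set_option autoImplicit false

namespace Cfsg.Agent.H32.ElTw

open Subgroup Cfsg.Agent.H11.EL

universe u

theorem exists_sq {C : Type*} [Group C] [Finite C] [IsCyclic C] (h : 4 ∣ Nat.card C) {y : C}
    (hy : y ^ 2 = 1) : ∃ x : C, x * x = y := by
  obtain ⟨g, hg⟩ := IsCyclic.exists_monoid_generator (α := C)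
  obtain ⟨k, rfl⟩ := hg y
  have h1 : orderOf g = Nat.card C := orderOf_eq_card_of_forall_mem_powers hg
  have h2 : 4 ∣ k * 2 := by
    refine h.trans ?_
    rw [← h1, orderOf_dvd_iff_pow_eq_one, pow_mul]
    exact hy
  obtain ⟨m, rfl⟩ : ∃ m, k = m + m := ⟨k / 2, by omega⟩
  exact ⟨g ^ m, (pow_add g m m).symm⟩

theorem exists_cyclic {X : Type*} [Group X] [Finite X] (hX : IsPGroup 2 X) {y u : X}
    (hy : orderOf y = 2) (hs : ∀ x : X, x * x ≠ y)
    (h8 : ¬ 8 ∣ Nat.card (centralizer ({y} : Set X))) (hu : orderOf u = 4) :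
    ∃ C : Subgroup X, IsCyclic C ∧ C.index = 2 ∧ 4 ∣ Nat.card C := by
  classical
  obtain ⟨n, hn⟩ := IsPGroup.iff_card.1 hX
  have h4 : 4 ∣ Nat.card X := hu ▸ orderOf_dvd_natCard u
  have hy2 : y ^ 2 = 1 := hy ▸ pow_orderOf_eq_one y
  have hn3 : 3 ≤ n := by
    by_contra h
    have h5 : Nat.card X = 4 := by
      have : n ≤ 2 := by omega
      interval_cases n <;> simp_all
    have : IsCyclic X := isCyclic_of_orderOf_eq_card u (hu.trans h5.symm)
    obtain ⟨x, hx⟩ := exists_sq h4 hy2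
    exact hs x hx
  have hy1 : y ≠ 1 := by rintro rfl; simp at hy
  have : Nontrivial X := ⟨y, 1, hy1⟩
  have hyC : y ∈ centralizer ({y} : Set X) := mem_centralizer_singleton_iff.2 rfl
  have := hX.center_nontrivial
  obtain ⟨⟨z, hz⟩, hz1⟩ := exists_ne (1 : center X)
  have hzy : z ∉ zpowers y := by
    intro h
    have h1 : z = y := by
      rw [mem_zpowers_iff_mem_range_orderOf, hy] at h
      obtain ⟨i, hi, rfl⟩ := Finset.mem_image.1 h
      have := Finset.mem_range.1 hi
      interval_cases i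
      · exact absurd (Subtype.ext (pow_zero y)) hz1
      · exact pow_one y
    subst h1
    have h2 : centralizer ({z} : Set X) = ⊤ :=
      eq_top_iff.2 fun g _ => mem_centralizer_singleton_iff.2 (mem_center_iff.1 hz g)
    rw [h2, card_top, hn] at h8
    exact h8 (pow_dvd_pow 2 hn3)
  obtain ⟨k, hk⟩ := IsPGroup.iff_card.1 (hX.to_subgroup (centralizer ({y} : Set X)))
  have h1 : zpowers y < centralizer ({y} : Set X) :=
    lt_of_le_of_ne (zpowers_le.2 hyC) fun h => hzy
      (h ▸ mem_centralizer_singleton_iff.2 (mem_center_iff.1 hz y).symm)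
  have h2 : 2 < Nat.card (centralizer ({y} : Set X)) := by
    have h3 := card_le_of_le h1.le
    rw [Nat.card_zpowers, hy] at h3
    refine lt_of_le_of_ne h3 fun h => h1.ne (eq_of_le_of_card_ge h1.le ?_)
    rw [Nat.card_zpowers, hy, ← h]
  have hk2 : k = 2 := by
    rw [hk] at h2 h8
    have h3 : k < 3 := by
      by_contra h
      exact h8 (pow_dvd_pow 2 (not_lt.1 h))
    interval_cases k <;> simp_all
  subst hk2
  have hc := IsPGroup.isMulCommutative_of_card_eq_prime_sq (p := 2) hk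
  have h3 : centralizer ((centralizer ({y} : Set X) : Subgroup X) : Set X) =
      centralizer ({y} : Set X) := by
    refine le_antisymm (fun g hg => mem_centralizer_singleton_iff.2 (hg y hyC).symm)
      fun g hg h hh => ?_
    exact congrArg Subtype.val (hc.is_comm.comm (⟨h, hh⟩ : centralizer ({y} : Set X)) ⟨g, hg⟩)
  obtain ⟨C, h5, h6⟩ := S0113.result n hn3 hn (S0112.result n hn _ hk h3)
  refine ⟨C, h5, h6, ?_⟩
  have h7 := C.card_mul_index
  have h9 : 8 ∣ Nat.card X := hn ▸ pow_dvd_pow 2 hn3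
  rw [h6] at h7
  omega

theorem tw : TWStmt.{u} := by
  intro G _ _ _ y u _ hy hs h8 hu
  have hp : ∀ {g : G} {k : ℕ}, orderOf g = 2 ^ k → IsPGroup 2 (zpowers g) := fun h =>
    IsPGroup.of_card (by rw [Nat.card_zpowers, h])
  obtain ⟨S, hS⟩ := (hp (k := 1) hy).exists_le_sylow
  obtain ⟨T, hT⟩ := (hp (k := 2) hu).exists_le_sylow
  have hyS := hS (mem_zpowers y)
  let v : S := T.equiv S ⟨u, hT (mem_zpowers u)⟩
  have hv : orderOf v = 4 := by
    rw [MulEquiv.orderOf_eq, ← orderOf_coe]; exact hu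
  obtain ⟨C, h1, h2, h3⟩ := exists_cyclic S.isPGroup' (y := ⟨y, hyS⟩) (u := v)
    (by rw [← orderOf_coe]; exact hy) (fun x hx => hs x (congrArg Subtype.val hx))
    (fun h => h8 (h.trans (by
      rw [← card_map_of_injective (S : Subgroup G).subtype_injective]
      refine card_dvd_of_le ?_
      rintro _ ⟨g, hg, rfl⟩
      exact mem_centralizer_singleton_iff.2
        (congrArg Subtype.val (mem_centralizer_singleton_iff.1 hg))))) hv
  have h4 : ∀ g ∈ C.map (S : Subgroup G).subtype, g ^ 2 = 1 → ∃ x : G, x * x = g := by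
    rintro _ ⟨g, hg, rfl⟩ h
    obtain ⟨x, hx⟩ := exists_sq h3 (y := ⟨g, hg⟩) (Subtype.ext (Subtype.ext h))
    exact ⟨x, congrArg (fun t : C => ((t : S) : G)) hx⟩
  have hy2 : y ^ 2 = 1 := hy ▸ pow_orderOf_eq_one y
  rcases S0111.result S (C.map (S : Subgroup G).subtype) (map_subtype_le C) (by
      rw [relIndex, subgroupOf, comap_map_eq_self_of_injective (S : Subgroup G).subtype_injective,
        h2]) y hy hyS (fun h => (h4 y h hy2).elim hs) with ⟨M, hM, h5, -⟩ | ⟨g, hg⟩
  · rcases hM.eq_bot_or_eq_top with rfl | rfl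
    · have := orderOf_dvd_natCard u
      rw [index_bot] at h5
      rw [hu, h5] at this
      omega
    · simp at h5
  · obtain ⟨x, hx⟩ := h4 _ hg (by rw [conj_pow, hy2]; simp)
    exact hs (g⁻¹ * x * g) (by
      rw [show g⁻¹ * x * g * (g⁻¹ * x * g) = g⁻¹ * (x * x) * g by group, hx]; group)

end Cfsg.Agent.H32.ElTw
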