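import Cfsg.Agent.Lead.T3Defs

/-! T3-COM: commutator relations in the windows of rank two. -/

set_option autoImplicit false

namespace Cfsg.Agent.H32.T3C

open Cfsg.Agent.H35 Cfsg.Agent.Lead.T3 Equiv

universe u

variable {I W : Type} [Group W] {X : Cox I W} {C : Type u} {B : Bld X C} {σ : W → C} {J K : Set I}
  {a b g : Perm C} {v w : W} {i j k : I}

theorem s_mem (h : i ∈ J) : X.s i ∈ X.WJ J := Subgroup.subset_closure ⟨i, h, rfl⟩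

theorem WJ_mono (h : J ⊆ K) : X.WJ J ≤ X.WJ K := Subgroup.closure_mono (Set.image_mono h)

theorem apt_mem (hσ : B.Apt σ) (hw : w ∈ X.WJ K) : σ w ∈ B.res K (σ 1) := by
  change B.δ _ _ ∈ X.WJ K
  rw [hσ]
  simpa using hw

theorem pan_mem (hσ : B.Apt σ) (hw : w ∈ X.WJ K) (hk : k ∈ K) {x : C} (hx : x ∈ B.pan (σ w) k) :
    x ∈ B.res K (σ 1) := by
  have h := B.step k x (σ w) (σ 1) (by rw [B.symm, show B.δ (σ w) x = _ from hx, X.inv_s])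
  change B.δ _ _ ∈ X.WJ K
  rw [B.symm, inv_mem_iff]
  rw [hσ, mul_one] at h
  rcases h with h | h <;> rw [h]
  exacts [mul_mem (s_mem hk) (inv_mem hw), inv_mem hw]

theorem pan_map (hσ : B.Apt σ) (hg : g ∈ B.Aut K (σ 1)) (hw : w ∈ X.WJ K) (hk : k ∈ K)
    (e : g (σ w) = σ w) {x : C} (hx : x ∈ B.pan (σ w) k) : g x ∈ B.pan (σ w) k := by
  have := hg.2 _ (apt_mem hσ hw) _ (pan_mem hσ hw hk hx)
  rw [e] at this
  exact this.trans hx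

theorem apt_pan (hσ : B.Apt σ) : σ (w * X.s k) ∈ B.pan (σ w) k := by
  change B.δ _ _ = _
  rw [hσ, inv_mul_cancel_left]

/-- A commutator fixes a panel fixed pointwise by one factor and stabilised by the other. -/
theorem com_pan (hσ : B.Apt σ) (hb : b ∈ B.Aut K (σ 1)) (hw : w ∈ X.WJ K) (hk : k ∈ K)
    (e : b (σ w) = σ w) (ha : ∀ x ∈ B.pan (σ w) k, a x = x) {x : C} (hx : x ∈ B.pan (σ w) k) :
    (a * b * a⁻¹ * b⁻¹) x = x ∧ (b * a * b⁻¹ * a⁻¹) x = x := by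
  have h := ha _ (pan_map hσ (inv_mem hb) hw hk (Perm.inv_eq_iff_eq.2 e.symm) hx)
  have h1 : (a * b * a⁻¹ * b⁻¹) x = x := by
    simp only [Perm.mul_apply]
    rw [Perm.inv_eq_iff_eq.2 h.symm, show b (b⁻¹ x) = x from b.apply_symm_apply x, ha x hx]
  refine ⟨h1, ?_⟩
  rw [show b * a * b⁻¹ * a⁻¹ = (a * b * a⁻¹ * b⁻¹)⁻¹ by group]
  exact Perm.inv_eq_iff_eq.2 h1.symm

theorem com_fix {x : C} (h : a x = x) (h' : b x = x) : (a * b * a⁻¹ * b⁻¹) x = x := by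
  simp only [Perm.mul_apply]
  rw [Perm.inv_eq_iff_eq.2 h'.symm, Perm.inv_eq_iff_eq.2 h.symm, h', h]

theorem fix_inv_mul {x : C} (h : a x = x) (h' : b x = x) : (a⁻¹ * b) x = x := by
  rw [Perm.mul_apply, h', Perm.inv_eq_iff_eq, h]

/-- The automorphisms fixing the panels of the base chamber and the chamber `σ e`. -/
def Gd (B : Bld X C) (σ : W → C) (K : Set I) (e : W) : Subgroup (Perm C) :=
  B.Aut K (σ 1) ⊓ fixingSubgroup (Perm C) {x | x = σ 1 ∨ x = σ e ∨ ∃ k ∈ K, x ∈ B.pan (σ 1) k}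

theorem mem_Gd : g ∈ Gd B σ K w ↔ g ∈ B.Aut K (σ 1) ∧ g (σ 1) = σ 1 ∧ g (σ w) = σ w ∧
    ∀ k ∈ K, ∀ x ∈ B.pan (σ 1) k, g x = x :=
  and_congr_right fun _ => (mem_fixingSubgroup_iff _).trans ⟨fun h => ⟨h _ (.inl rfl),
    h _ (.inr (.inl rfl)), fun k hk x hx => h _ (.inr (.inr ⟨k, hk, hx⟩))⟩, by
      rintro ⟨h1, h2, h3⟩ _ (rfl | rfl | ⟨k, hk, hx⟩)
      exacts [h1, h2, h3 k hk _ hx]⟩

theorem Gd_s (hσ : B.Apt σ) (hg : g ∈ Gd B σ K w) (hk : k ∈ K) : g (σ (X.s k)) = σ (X.s k) :=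
  (mem_Gd.1 hg).2.2.2 k hk _ (by simpa using apt_pan (w := 1) hσ)

theorem step (hσ : B.Apt σ) (hM : B.Mou K (σ 1)) (hg : g ∈ B.Aut K (σ 1)) (hv : v ∈ X.WJ K)
    (hk : k ∈ K) (e : g (σ v) = σ v) :
    ∃ x ∈ B.R σ K v k, (x⁻¹ * g) (σ (v * X.s k)) = σ (v * X.s k) := by
  obtain ⟨x, hx, h⟩ := hM σ hσ (apt_mem hσ (one_mem _)) v hv k hk _ (apt_pan hσ) _
    (pan_map hσ hg hv hk e (apt_pan hσ))
  exact ⟨x, hx, by rw [Perm.mul_apply, Perm.inv_eq_iff_eq, h]⟩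

variable [Finite W]

theorem wJ_mem : X.wJ J ∈ X.WJ J := (X.wJ_spec J).1

theorem win (hCx : CxStmt) (hRt : RtStmt) (hJ : J ⊆ K) (hv : v ∈ X.WJ J) (hi : i ∈ J)
    (h1 : 1 ∈ X.rt v i) (hg : g ∈ B.R σ K v i) : g (σ 1) = σ 1 ∧
      g (σ (X.wJ J * X.wJ K)) = σ (X.wJ J * X.wJ K) ∧
      ∀ k ∈ K, (k ∈ J → X.s k ∈ X.rt v i) → ∀ x ∈ B.pan (σ 1) k, g x = x := by
  obtain ⟨-, -, r3, -, -, -, r7⟩ := hRt X
  obtain ⟨-, -, -, -, c5, -⟩ := hCx X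
  refine ⟨hg.2.1 _ (one_mem _) h1, hg.2.1 _ (mul_mem (WJ_mono hJ wJ_mem) wJ_mem)
    ((r7 v i K (WJ_mono hJ hv) (hJ hi) _ (WJ_mono hJ wJ_mem)).2 fun h => ?_),
    fun k hk h => hg.2.2 _ (one_mem _) k hk h1 ?_⟩
  · exact (r7 v i J hv hi 1 (one_mem _)).1 (by rwa [one_mul]) h1
  · by_cases e : k ∈ J
    · simpa using h e
    · refine ((r3 v i 1 k).2 fun q => e ((c5 J k).1 ?_)).1 h1
      rw [show X.s k = X.rf v i by simpa [Cox.rf] using q]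
      exact mul_mem (mul_mem hv (s_mem hi)) (inv_mem hv)

theorem Gd_root (hCx : CxStmt) (hRt : RtStmt) (hJ : J ⊆ K) (hv : v ∈ X.WJ J) (hi : i ∈ J)
    (h1 : 1 ∈ X.rt v i) (hg : g ∈ B.R σ K v i) (h : ∀ k ∈ J, X.s k ∈ X.rt v i) :
    g ∈ Gd B σ K (X.wJ J * X.wJ K) :=
  have ⟨h1, h2, h3⟩ := win hCx hRt hJ hv hi h1 hg
  mem_Gd.2 ⟨hg.1, h1, h2, fun k hk => h3 k hk (h k)⟩

theorem Gd_com (hCx : CxStmt) (hRt : RtStmt) (hσ : B.Apt σ) (hJ : J ⊆ K) (hv : v ∈ X.WJ J)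
    (hw : w ∈ X.WJ J) (hi : i ∈ J) (hj : j ∈ J) (h1 : 1 ∈ X.rt v i) (h2 : 1 ∈ X.rt w j)
    (ha : a ∈ B.R σ K v i) (hb : b ∈ B.R σ K w j) (h : ∀ k ∈ J, X.s k ∈ X.rt v i ∨ X.s k ∈ X.rt w j) :
    a * b * a⁻¹ * b⁻¹ ∈ Gd B σ K (X.wJ J * X.wJ K) := by
  obtain ⟨a1, a2, a3⟩ := win hCx hRt hJ hv hi h1 ha
  obtain ⟨b1, b2, b3⟩ := win hCx hRt hJ hw hj h2 hb
  refine mem_Gd.2 ⟨mul_mem (mul_mem (mul_mem ha.1 hb.1) (inv_mem ha.1)) (inv_mem hb.1),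
    com_fix a1 b1, com_fix a2 b2, fun k hk x hx => ?_⟩
  by_cases e : k ∈ J → X.s k ∈ X.rt v i
  · exact (com_pan hσ hb.1 (one_mem _) hk b1 (a3 k hk e) hx).1
  · exact (com_pan hσ ha.1 (one_mem _) hk a1
      (b3 k hk fun q => (h k q).resolve_left fun r => e fun _ => r) hx).2

variable [Finite C]

theorem fin (hCx : CxStmt) (hB : Ba1Stmt.{u}) (hF : FreeStmt.{u}) (hσ : B.Apt σ) (hJ : J ⊆ K)
    (hg : g ∈ Gd B σ K (X.wJ J * X.wJ K)) (hv : v ∈ X.WJ J) (hw : w ∈ X.WJ J)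
    (h1 : X.len (v⁻¹ * w) = X.len (X.wJ J)) (h2 : X.len v + X.len w = X.len (X.wJ J))
    (e1 : g (σ v) = σ v) (e2 : g (σ w) = σ w) : g = 1 := by
  obtain ⟨c1, c2, -⟩ := hCx X
  obtain ⟨-, -, -, -, -, -, -, -, b9, -⟩ := hB B
  obtain ⟨-, -, f3, f4⟩ := hF B σ K hσ
  obtain ⟨g1, g2, g3, g4⟩ := mem_Gd.1 hg
  have m : X.wJ J ∈ X.WJ K := WJ_mono hJ wJ_mem
  have e : g (σ (X.wJ J)) = σ (X.wJ J) := (b9 (σ v) (σ w) _ _
    (by rw [← g1.2 _ (apt_mem hσ (WJ_mono hJ hv)) _ (apt_mem hσ m), e1])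
    (by rw [← g1.2 _ (apt_mem hσ m) _ (apt_mem hσ (WJ_mono hJ hw)), e2]) (by
      have p := (c2 J _ (inv_mem hv)).2
      have q := (c2 J _ hw).1
      rw [hσ, hσ, hσ, inv_eq_of_mul_eq_one_right (c1 J)]
      rw [X.len_inv] at p
      omega)).symm
  exact f3 g g1 _ (apt_mem hσ (one_mem _)) (σ (X.wJ K)) (by rw [hσ, inv_one, one_mul]) g2
    (by simpa using f4 g g1 _ m 1 (one_mem _) (by rwa [one_mul]) (by rwa [one_mul]) _ wJ_mem) g4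

theorem com1 (hCx : CxStmt) (hRt : RtStmt) (hB : Ba1Stmt.{u}) (hF : FreeStmt.{u}) (hσ : B.Apt σ)
    (hM : B.Mou K (σ 1)) (hi : i ∈ K) (hj : j ∈ K) :
    (X.m i j = 2 → ∀ a ∈ B.R σ K 1 i, ∀ b ∈ B.R σ K 1 j, a * b = b * a) ∧
    (X.m i j = 3 ∨ X.m i j = 4 → ∀ a ∈ B.R σ K 1 i, ∀ b ∈ B.R σ K (X.s i) j, a * b = b * a) ∧
    (X.m i j = 3 → ∀ a ∈ B.R σ K 1 i, ∀ b ∈ B.R σ K 1 j, a * b * a⁻¹ * b⁻¹ ∈ B.R σ K (X.s i) j) ∧
    (X.m i j = 4 → ∀ a ∈ B.R σ K 1 i, ∀ b ∈ B.R σ K (X.s i * X.s j) i,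
      a * b * a⁻¹ * b⁻¹ ∈ B.R σ K (X.s i) j) ∧
    (X.m i j = 4 → ∀ a ∈ B.R σ K 1 i, ∀ b ∈ B.R σ K 1 j, ∃ x ∈ B.R σ K (X.s i) j,
      ∃ y ∈ B.R σ K (X.s i * X.s j) i, a * b * a⁻¹ * b⁻¹ = x * y) := by
  by_cases ne : i = j
  · simp [ne, Cox.m, X.s_mul_s]
  obtain ⟨-, -, -, -, -, -, -, c8⟩ := hCx X
  obtain ⟨L, hw, -⟩ := c8 i j ne
  obtain ⟨L', -⟩ := c8 j i (Ne.symm ne)
  rw [show X.m j i = X.m i j by simp [Cox.m, ← orderOf_inv (X.s i * X.s j)]] at L'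
  have lw : X.len (X.wJ {i, j}) = X.m i j := by rw [hw, L _ le_rfl]
  have hJ : ({i, j} : Set I) ⊆ K := by rintro _ (rfl | rfl) <;> assumption
  have mi : i ∈ ({i, j} : Set I) := .inl rfl
  have mj : j ∈ ({i, j} : Set I) := .inr rfl
  have si : X.s i ∈ X.WJ {i, j} := s_mem mi
  have sj : X.s j ∈ X.WJ {i, j} := s_mem mj
  have o : (1 : W) ∈ X.WJ {i, j} := one_mem _
  have l1 := X.exch.len_s
  have cm : ∀ {a b : Perm C}, a * b * a⁻¹ * b⁻¹ = 1 → a * b = b * a := fun h =>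
    commutatorElement_eq_one_iff_mul_comm.1 h
  have F := fun g {v w} => fin (g := g) (v := v) (w := w) hCx hB hF hσ hJ
  have G := fun {a b v w i j} => Gd_com (a := a) (b := b) (v := v) (w := w) (i := i) (j := j) hCx hRt hσ hJ
  have up := @WJ_mono _ _ _ X _ _ hJ
  have l2 : 2 ≤ X.m i j → X.len (X.s i * X.s j) = 2 ∧ X.len (X.s j * X.s i) = 2 := fun h =>
    ⟨by simpa [InvGen.altw] using L 2 h, by simpa [InvGen.altw] using L' 2 h⟩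
  have l3 : 3 ≤ X.m i j → X.len (X.s i * (X.s j * X.s i)) = 3 ∧ X.len (X.s j * (X.s i * X.s j)) = 3 :=
    fun h => ⟨by simpa [InvGen.altw] using L 3 h, by simpa [InvGen.altw] using L' 3 h⟩
  have l4 : 4 ≤ X.m i j → X.len (X.s i * (X.s j * (X.s i * X.s j))) = 4 ∧
      X.len (X.s j * (X.s i * (X.s j * X.s i))) = 4 :=
    fun h => ⟨by simpa [InvGen.altw] using L 4 h, by simpa [InvGen.altw] using L' 4 h⟩
  have P : 3 ≤ X.m i j → ∀ a ∈ B.R σ K 1 i, ∀ b ∈ B.Aut K (σ 1), b (σ (X.s j)) = σ (X.s j) →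
      (a * b * a⁻¹ * b⁻¹) (σ (X.s j * X.s i)) = σ (X.s j * X.s i) := fun h a ha b hb e =>
    (com_pan hσ hb (up sj) hi e (ha.2.2 _ (up sj) i hi (by simp [Cox.rt, l1, l2 (by omega)])
      (by simp [Cox.rt, l2 (by omega), l3 h])) (apt_pan hσ)).1
  have S : 3 ≤ X.m i j → ∀ g ∈ Gd B σ K (X.wJ {i, j} * X.wJ K), ∃ x ∈ B.R σ K (X.s i) j,
      x⁻¹ * g ∈ Gd B σ K (X.wJ {i, j} * X.wJ K) ∧
      (x⁻¹ * g) (σ (X.s i * X.s j)) = σ (X.s i * X.s j) := fun h g hg => by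
    obtain ⟨x, hx, e⟩ := step hσ hM hg.1 (up si) hj (Gd_s hσ hg hi)
    refine ⟨x, hx, mul_mem (inv_mem (Gd_root hCx hRt hJ si mj ?_ hx ?_)) hg, e⟩
    · simp [Cox.rt, l1, l2 (by omega)]
    · rintro _ (rfl | rfl) <;> simp [Cox.rt, X.s_mul_s, l1, l2 (by omega), l3 h]
  refine ⟨fun h a ha b hb => ?_, fun h a ha b hb => ?_, fun h a ha b hb => ?_, fun h a ha b hb => ?_,
    fun h a ha b hb => ?_⟩
  · have p2 := l2 h.ge
    have hg := G o o mi mj (by simp [Cox.rt, l1]) (by simp [Cox.rt, l1]) ha hb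
      (by rintro _ (rfl | rfl) <;> simp [Cox.rt, l1, p2])
    exact cm (F _ hg si sj (by simp [p2, lw, h]) (by simp [l1, lw, h]) (Gd_s hσ hg hi) (Gd_s hσ hg hj))
  · have p2 := l2 (by omega)
    have p3 := l3 (by omega)
    have hg := G o si mi mj (by simp [Cox.rt, l1]) (by simp [Cox.rt, l1, p2]) ha hb
      (by rintro _ (rfl | rfl) <;> simp [Cox.rt, X.s_mul_s, l1, p2])
    rcases h with h | h
    · exact cm (F _ hg si (mul_mem sj si) (by simp [p3, lw, h]) (by simp [l1, p2, lw, h]) (Gd_s hσ hg hi)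
        (P h.ge a ha b hb.1 (hb.2.1 _ (up sj) (by simp [Cox.rt, p2, p3]))))
    · have p4 := l4 h.ge
      have m := mul_mem sj si
      exact cm (F _ hg si (mul_mem m sj) (by simp [mul_assoc, p4, lw, h])
        (by simp [mul_assoc, l1, p3, lw, h]) (Gd_s hσ hg hi)
        (com_pan hσ hb.1 (up m) hj (hb.2.1 _ (up m) (by simp [Cox.rt, p3, p4]))
          (ha.2.2 _ (up m) j hj (by simp [Cox.rt, p2, p3]) (by simp [Cox.rt, mul_assoc, p3, p4]))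
          (apt_pan hσ)).1)
  · have p2 := l2 (by omega)
    have p3 := l3 h.ge
    obtain ⟨x, hx, hg, e⟩ := S h.ge _ (G o o mi mj (by simp [Cox.rt, l1]) (by simp [Cox.rt, l1]) ha hb
      (by rintro _ (rfl | rfl) <;> simp [Cox.rt, l1, p2]))
    rwa [← inv_mul_eq_one.1 (F _ hg (mul_mem si sj) sj (by simp [mul_assoc, p3, lw, h])
      (by simp [l1, p2, lw, h]) e (Gd_s hσ hg hj))]
  · have p2 := l2 (by omega)
    have p3 := l3 (by omega)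
    have p4 := l4 h.ge
    obtain ⟨x, hx, hg, e⟩ := S (by omega) _ (G o (mul_mem si sj) mi mi (by simp [Cox.rt, l1])
      (by simp [Cox.rt, p2, p3]) ha hb (by rintro _ (rfl | rfl) <;> simp [Cox.rt, X.s_mul_s, mul_assoc, l1, p2]))
    rwa [← inv_mul_eq_one.1 (F _ hg (mul_mem si sj) (mul_mem sj si) (by simp [mul_assoc, p4, lw, h])
      (by simp [p2, lw, h]) e (fix_inv_mul (hx.2.1 _ (up (mul_mem sj si)) (by simp [Cox.rt, p3, p4]))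
        (P (by omega) a ha b hb.1 (hb.2.1 _ (up sj) (by simp [Cox.rt, mul_assoc, p3, p4])))))]
  · have p2 := l2 (by omega)
    have p3 := l3 (by omega)
    have p4 := l4 h.ge
    obtain ⟨x, hx, hg, e⟩ := S (by omega) _ (G o o mi mj (by simp [Cox.rt, l1]) (by simp [Cox.rt, l1])
      ha hb (by rintro _ (rfl | rfl) <;> simp [Cox.rt, l1, p2]))
    obtain ⟨y, hy, e'⟩ := step hσ hM hg.1 (up (mul_mem si sj)) hi e
    have hg' := mul_mem (inv_mem (Gd_root hCx hRt hJ (mul_mem si sj) mi (by simp [Cox.rt, p2, p3]) hy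
      (by rintro _ (rfl | rfl) <;> simp [Cox.rt, X.s_mul_s, mul_assoc, l1, p2, p3, p4]))) hg
    refine ⟨x, hx, y, hy, ?_⟩
    rw [inv_mul_eq_one.1 (F _ hg' (mul_mem (mul_mem si sj) si) sj (by simp [mul_assoc, p4, lw, h])
      (by simp [mul_assoc, l1, p3, lw, h]) e' (Gd_s hσ hg' hj)), mul_inv_cancel_left]

theorem rebase (hRt : RtStmt) (hB : Ba1Stmt.{u}) (hσ : B.Apt σ) (hv : v ∈ X.WJ K) (w : W) (i : I) :
    B.R σ K (v * w) i = B.R (fun x => σ (v * x)) K w i := by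
  obtain ⟨-, -, -, -, -, r6, -⟩ := hRt X
  obtain ⟨-, -, -, -, b5, -⟩ := hB B
  have e : B.res K (σ (v * 1)) = B.res K (σ 1) := b5 K _ _ (apt_mem hσ (by simpa using hv))
  ext g
  refine and_congr (by simp only [Bld.Aut, e]) (and_congr ⟨fun h x hx q => h _ (mul_mem hv hx)
    ((r6 v w i x).2 q), fun h x hx q => ?_⟩ ⟨fun h x hx k hk q r => h _ (mul_mem hv hx) k hk
      ((r6 v w i x).2 q) (by rw [mul_assoc]; exact (r6 v w i _).2 r), fun h x hx k hk q r => ?_⟩)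
  · obtain ⟨x, rfl⟩ := (Group.mulLeft_bijective v).2 x
    exact h x ((Subgroup.mul_mem_cancel_left _ hv).1 hx) ((r6 v w i x).1 q)
  · obtain ⟨x, rfl⟩ := (Group.mulLeft_bijective v).2 x
    exact h x ((Subgroup.mul_mem_cancel_left _ hv).1 hx) k hk ((r6 v w i x).1 q)
      ((r6 v w i _).1 (by rwa [← mul_assoc]))

/-- T3-COM -/
theorem comStmt (hCx : CxStmt) (hRt : RtStmt) (hB : Ba1Stmt.{u}) (hF : FreeStmt.{u}) : ComStmt.{u} := by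
  intro I W _ _ X C _ B σ K hσ hM v hv i hi j hj
  have r := rebase hRt hB hσ hv
  have r1 := r 1
  rw [mul_one] at r1
  obtain ⟨-, -, -, -, b5, -⟩ := hB B
  rw [mul_assoc, r, r, r1, r1]
  refine com1 hCx hRt hB hF (fun x y => by rw [hσ]; group) (fun τ h q => hM τ h ?_) hi hj
  rwa [b5 K _ _ (apt_mem hσ (show v * 1 ∈ _ by simpa using hv))] at q

end Cfsg.Agent.H32.T3C
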