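import Cfsg.Agent.H17.KnDef2
import Cfsg.Agent.H89.Cj3

/-!
# Project KN, piece CL1: control of fusion in `PP`, weights in `E1`
-/

set_option autoImplicit false
set_option maxRecDepth 100000

namespace Cfsg.Agent.H32.KnCl1

open Equiv Subgroup Cfsg.Agent.H11.A16 Cfsg.Agent.H63 Cfsg.Agent.H8.GD Cfsg.Agent.H17.Kn
open Cfsg.Agent.H89.Rec (Syl)

universe u

/-! ### The model -/

theorem ne2 : ∀ a b : ZMod 2, a ≠ b → a = b + 1 := by decide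

theorem cov : ∀ p : P, ∃ i, p = pa i ∨ p = x 1 (pa i) := by decide

theorem z_mem : ∀ i, wb i 0 ∈ JJ ∧ wb i 1 ∈ JJ ∧ dl (pa i) ∈ JJ ∧ wb i 0 ≠ 1 ∧
    (wb i 0).σ = 1 ∧ (wb i 0).f (pa i) = 1 ∧ (wb i 0).f (x 1 (pa i)) = 1 ∧
    dl (x 1 (pa i)) = wb i 0 * dl (pa i) ∧ wb i 3 = 1 ∧
    dl (pa i) * wb i 1 = wb i 0 * wb i 1 * dl (pa i) ∧
    wb i 1 * dl (pa i) = wb i 0 * dl (pa i) * wb i 1 := by decide +kernel

theorem z_mem2 : ∀ i j, wb i 1 ∈ JI j ∧ (j ≠ i → dl (pa i) ∈ JI j ∧ (wb i 1).σ (pa j) = pa j) := by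
  decide +kernel

theorem conj_dl (m : N2) (p : P) : m * dl p = dl (m.σ p) * m := by
  refine N2.ext ((mul_one _).trans (one_mul _).symm) (funext fun r => ?_)
  change (if r = p then 1 else 0) + m.f r = m.f r + if m.σ r = m.σ p then 1 else 0
  simp only [m.σ.injective.eq_iff, add_comm]

theorem pp_of {u : N2} (h : u ∈ JJ) (e : ∀ i, u.σ (pa i) = pa i) : u ∈ PP := by
  refine Equiv.ext fun p => ?_
  obtain ⟨i, rfl | rfl⟩ := cov p
  · exact e i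
  · exact (JJ_x h _).trans (congrArg _ (e i))

theorem xi_top (m2 : Mod2) {u : N2} : XI (fun _ => true) u ↔ u ∈ PP :=
  ⟨fun h => pp_of h.1 h.2, fun h => ⟨m2.le.2.2.2.2.2.2.2.2.2.2.1 h, fun _ => by
    have e : u.σ = 1 := h
    change u.σ _ = _
    rw [e]; rfl⟩⟩

theorem zc (m2 : Mod2) {u : N2} (h : u ∈ JJ) :
    (∀ y ∈ JJ, u * y = y * u) ∨ ∃ i, ∃ y ∈ JJ, u * y = wb i 0 * y * u := by
  by_cases h1 : ∀ i, u.σ (pa i) = pa i
  swap
  · push Not at h1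
    obtain ⟨i, hi⟩ := h1
    refine .inr ⟨i, _, (z_mem i).2.2.1, ?_⟩
    rw [conj_dl, (mem_JJ.1 h _).resolve_left hi, (z_mem i).2.2.2.2.2.2.2.1]
  have hp := pp_of h h1
  have e : u.σ = 1 := hp
  by_cases h2 : ∀ i, u.f (x 1 (pa i)) = u.f (pa i)
  · have hf : u ∈ FF := ⟨h, fun p => by rw [e]; rfl, fun p => by
      obtain ⟨i, rfl | rfl⟩ := cov p
      · exact h2 i
      · rw [xx, h2]⟩
    refine .inl fun y hy => ?_
    obtain ⟨a, ha, b, hb, rfl⟩ := m2.pJJ y hy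
    exact ((m2.ab.2.1 u hf a ha).mul_right (m2.ab.1 u hp b hb)).eq
  push Not at h2
  obtain ⟨i, hi⟩ := h2
  refine .inr ⟨i, _, (z_mem i).2.1, N2.ext ?_ (funext fun r => ?_)⟩
  · simp only [N2.mul_σ, e, (z_mem i).2.2.2.2.1, one_mul, mul_one]
  · have k : ∀ i r, (wb i 1).f r = 0 ∧ (((wb i 1).σ r = r ∧ (wb i 0).f r = 0) ∨
        (r = pa i ∧ (wb i 1).σ r = x 1 (pa i)) ∨ (r = x 1 (pa i) ∧ (wb i 1).σ r = pa i)) := by
      decide +kernel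
    simp only [N2.mul_f, e, Perm.one_apply, (k i r).1, zero_add]
    rcases (k i r).2 with ⟨a, b⟩ | ⟨a, b⟩ | ⟨a, b⟩
    · rw [a, b, add_zero]
    · rw [b, a, (z_mem i).2.2.2.2.2.2.1]; exact ne2 _ _ hi
    · rw [b, a, (z_mem i).2.2.2.2.2.1]; exact ne2 _ _ hi.symm

theorem dl_br (i : Fin 4) {y : N2} (h : y ∈ JJ) :
    y * dl (pa i) = dl (pa i) * y ∨ y * dl (pa i) = wb i 0 * dl (pa i) * y := by
  rw [conj_dl]
  rcases mem_JJ.1 h (pa i) with e | e <;> rw [e]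
  · exact .inl rfl
  · exact .inr (by rw [(z_mem i).2.2.2.2.2.2.2.1])

theorem cz {s : N2} (h : ∀ i, s * wb i 0 = wb i 0 * s) : s ∈ JJ := fun p => by
  have k : ∀ p q : P, (∀ i, (wb i 0).f p = (wb i 0).f q) → q = p ∨ q = x 1 p := by decide +kernel
  refine k p _ fun i => ?_
  have := congrArg (fun u : N2 => u.f p) (h i)
  simp only [N2.mul_f, (z_mem i).2.2.2.2.1, Perm.one_apply] at this
  rw [add_comm] at this
  exact add_left_cancel this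

theorem xi_nrm {I : Fin 4 → Bool} {y v : N2} (hy : y ∈ JJ) (hv : XI I v) :
    XI I (y * v * y⁻¹) := by
  have hj : y * v * y⁻¹ ∈ JJ := mul_mem (mul_mem hy hv.1) (inv_mem hy)
  refine ⟨hj, fun i => ?_⟩
  have h := hv.2 i
  have hq := mem_JJ.1 (inv_mem hy) (pa i)
  have hx := JJ_x (inv_mem hy) (pa i)
  split_ifs at h ⊢
  · have : v.σ (y⁻¹.σ (pa i)) = y⁻¹.σ (pa i) := by
      rcases hq with e | e <;> rw [e]
      · exact h
      · rw [JJ_x hv.1, h]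
    rw [N2.mul_σ, N2.mul_σ, Perm.mul_apply, Perm.mul_apply, this, N2.inv_σ, app_inv]
  · refine ⟨hj, ?_⟩
    rw [N2.mul_f, N2.mul_f, N2.mul_f, N2.mul_f, N2.inv_f, N2.inv_f, ← N2.inv_σ, hx]
    generalize y⁻¹.σ (pa i) = q at hq
    have h1 : v.f (x 1 q) = v.f q := by
      rcases hq with rfl | rfl
      · exact h.2
      · rw [xx, h.2]
    rw [h1, JJ_x hv.1]
    rcases mem_JJ.1 hv.1 q with e | e <;> rw [e]
    · generalize y.f (x 1 q) = a; generalize y.f q = b; generalize v.f q = c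
      revert a b c; decide
    · rw [xx]; ring

theorem da {I I' : Fin 4 → Bool} {i : Fin 4} (h : I i ≠ I' i) :
    ∃ a, XI I a ∧ ∃ b, XI I' b ∧ a * b = wb i 0 * b * a := by
  have k1 : ∀ I : Fin 4 → Bool, I i = true → XI I (dl (pa i)) := fun I e =>
    ⟨(z_mem i).2.2.1, fun j => by
      split_ifs with c
      · rfl
      · exact ((z_mem2 i j).2 fun a => c (a ▸ e)).1⟩
  have k2 : ∀ I : Fin 4 → Bool, I i ≠ true → XI I (wb i 1) := fun I e =>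
    ⟨(z_mem i).2.1, fun j => by
      split_ifs with c
      · exact ((z_mem2 i j).2 fun a => e (a ▸ c)).2
      · exact (z_mem2 i j).1⟩
  by_cases c : I i = true
  · exact ⟨_, k1 I c, _, k2 I' fun a => h (c.trans a.symm), (z_mem i).2.2.2.2.2.2.2.2.2.1⟩
  · refine ⟨_, k2 I c, _, k1 I' ?_, (z_mem i).2.2.2.2.2.2.2.2.2.2⟩
    revert h c; cases I i <;> cases I' i <;> simp

theorem db' {I I' : Fin 4 → Bool} {i : Fin 4} {a b : N2} (ha : XI I a) (hb : XI I' b)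
    (e : a * b = wb i 0 * b * a) : I i ≠ I' i := fun h => by
  have h1 := ha.2 i
  have h2 := hb.2 i
  have k := congrArg (fun u : N2 => u.f (pa i)) e
  simp only [N2.mul_f] at k
  have z1 := (z_mem i).2.2.2.2.2.1
  have z2 := (z_mem i).2.2.2.2.2.2.1
  have fin : ∀ c d : ZMod 2, c + d ≠ d + (c + 1) := by decide
  rw [← h] at h2
  split_ifs at h1 h2
  · rw [h1, h2, z1] at k
    exact fin _ _ k
  · have bx := JJ_x hb.1 (pa i)
    rcases mem_JJ.1 ha.1 (pa i) with e1 | e1 <;> rcases mem_JJ.1 hb.1 (pa i) with e2 | e2 <;>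
      simp only [e1, e2, bx, xx, h1.2, h2.2, z1, z2] at k <;> exact fin _ _ k

theorem blk (τ : Perm (Fin 4)) : ∃ m : N2, (∀ p, m.σ (x 1 p) = x 1 (m.σ p)) ∧
    ∀ i, m * wb i 0 * m⁻¹ = wb (τ i) 0 := by
  induction τ using Perm.swap_induction_on with
  | one => exact ⟨1, fun _ => rfl, fun i => by simp⟩
  | swap_mul f a b _ ih =>
    obtain ⟨m, h1, h2⟩ := ih
    have k : ∀ a b : Fin 4, (∀ p, (tp (pa a) (pa b) * tp (pb a) (pb b)).σ (x 1 p) =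
        x 1 ((tp (pa a) (pa b) * tp (pb a) (pb b)).σ p)) ∧ ∀ i,
        tp (pa a) (pa b) * tp (pb a) (pb b) * wb i 0 =
          wb (swap a b i) 0 * (tp (pa a) (pa b) * tp (pb a) (pb b)) := by decide +kernel
    refine ⟨tp (pa a) (pa b) * tp (pb a) (pb b) * m, fun p => ?_, fun i => ?_⟩
    · rw [N2.mul_σ, Perm.mul_apply, Perm.mul_apply, h1, (k a b).1]
    · rw [mul_inv_rev, mul_assoc _ m, mul_assoc, ← mul_assoc (m * _), h2, ← mul_assoc, (k a b).2,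
        mul_inv_cancel_right]
      rfl

theorem nj {m : N2} (h : ∀ p, m.σ (x 1 p) = x 1 (m.σ p)) {u : N2} (hu : u ∈ JJ) :
    m * u * m⁻¹ ∈ JJ := mem_JJ.2 fun p => by
  rw [N2.mul_σ, N2.mul_σ, Perm.mul_apply, Perm.mul_apply, N2.inv_σ]
  rcases mem_JJ.1 hu (m.σ⁻¹ p) with e | e <;> rw [e]
  · exact .inl (app_inv _ _)
  · exact .inr (by rw [h, app_inv])

theorem ty_conj (m : N2) {u : N2} (hu : u ∈ PP) : ty u = ty (m * u * m⁻¹) := by
  have e : u.σ = 1 := hu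
  refine Finset.card_equiv m.σ fun p => ?_
  have k : ∀ a b : ZMod 2, a + (b + a) = b := by decide
  simp only [Finset.mem_filter, Finset.mem_univ, true_and, N2.mul_σ, N2.mul_f, N2.inv_σ, N2.inv_f,
    e, Perm.one_apply, mul_one, mul_inv_cancel, inv_app, k, ne_eq, not_true_eq_false]

theorem e1_nf (m1 : Mod1) {u : N2} (hu : u ∈ E1) : ∃ a b c e : Fin 4, (a = 0 ∨ a = 3) ∧
    (b = 0 ∨ b = 3) ∧ (c = 0 ∨ c = 3) ∧ (e = 0 ∨ e = 3) ∧
    u = wb 0 a * wb 1 b * wb 2 c * wb 3 e := by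
  obtain ⟨a, b, c, e, rfl⟩ := m1.nfF u hu.2
  have k : ∀ a b c e : Fin 4, wb 0 a * wb 1 b * wb 2 c * wb 3 e ∈ PP → (a = 0 ∨ a = 3) ∧
      (b = 0 ∨ b = 3) ∧ (c = 0 ∨ c = 3) ∧ (e = 0 ∨ e = 3) := by decide +kernel
  obtain ⟨h1, h2, h3, h4⟩ := k a b c e hu.1.1
  exact ⟨a, b, c, e, h1, h2, h3, h4, rfl⟩

/-! ### The group -/

variable {G : Type u} [Group G] {J : N2 → G}

/-- `g` maps the image of `A` into the image of `B` -/
structure Into (J : N2 → G) (g : G) (A B : Subgroup N2) : Prop where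
  out : ∀ u ∈ A, ∃ v ∈ B, R J g u v

section R

variable (em : Em J S2) {g : G} {a b c a' b' c' : N2}
include em

theorem rmul (ha : a ∈ S2) (hb : b ∈ S2) (ha' : a' ∈ S2) (hb' : b' ∈ S2) (h : R J g a a')
    (h' : R J g b b') : R J g (a * b) (a' * b') := by
  unfold R at *
  rw [em.mul _ ha _ hb, em.mul _ ha' _ hb', ← h, ← h']; group

theorem rinv (ha : a ∈ S2) (ha' : a' ∈ S2) (h : R J g a a') : R J g a⁻¹ a'⁻¹ := by
  unfold R at *
  rw [em.inv ha, em.inv ha', ← h]; group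

theorem rone : R J g 1 1 := by unfold R; rw [em.one]; group

theorem runi (ha : a' ∈ S2) (hb : b' ∈ S2) (h : R J g a a') (h' : R J g a b') : a' = b' :=
  em.inj _ ha _ hb ((Eq.symm h).trans h')

theorem rbr (ha : a ∈ S2) (hb : b ∈ S2) (hc : c ∈ S2) (ha' : a' ∈ S2) (hb' : b' ∈ S2)
    (hc' : c' ∈ S2) (h1 : R J g a a') (h2 : R J g b b') (h3 : R J g c c')
    (e : a * b = c * b * a) : a' * b' = c' * b' * a' :=
  runi em (mul_mem ha' hb') (mul_mem (mul_mem hc' hb') ha') (rmul em ha hb ha' hb' h1 h2)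
    (e ▸ rmul em (mul_mem hc hb) ha (mul_mem hc' hb') ha' (rmul em hc hb hc' hb' h3 h2) h1)

theorem into_iff [Finite G] {A : Subgroup N2} (hA : A ≤ S2) : Into J g A A ↔ g ∈ N[im J A] :=
  ⟨fun h => mem_normalizer_fintype fun n hn => by
    obtain ⟨u, hu, rfl⟩ := (em.mono hA).mem.1 hn
    obtain ⟨v, hv, e⟩ := h.out u hu
    exact (show _ = _ from e) ▸ mem_im hv, fun h => ⟨fun u hu => by
    obtain ⟨v, hv, e⟩ := (em.mono hA).mem.1 ((mem_normalizer_iff.1 h _).1 (mem_im hu))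
    exact ⟨v, hv, e.symm⟩⟩⟩

theorem into_of {A : Subgroup N2} (h : ∀ u ∈ A, g * J u * g⁻¹ ∈ im J S2) : Into J g A S2 :=
  ⟨fun u hu => (em.mem.1 (h u hu)).imp fun _ e => ⟨e.1, e.2.symm⟩⟩

theorem img (he : E256Stmt) {Y : Subgroup N2} (hY : Y ≤ S2) (h2 : ∀ u ∈ Y, u * u = 1)
    (hc : 256 ≤ Nat.card Y) (h : Into J g Y S2) :
    ∃ (X : Subgroup N2) (I : Fin 4 → Bool), X ≤ S2 ∧ (∀ u ∈ X, u * u = 1) ∧ 256 ≤ Nat.card X ∧
      (∀ v, v ∈ X ↔ XI I v) ∧ ∀ v, v ∈ X ↔ v ∈ S2 ∧ ∃ u ∈ Y, R J g u v := by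
  let X : Subgroup N2 :=
    { carrier := {v | v ∈ S2 ∧ ∃ u ∈ Y, R J g u v}
      one_mem' := ⟨one_mem _, 1, one_mem _, rone em⟩
      mul_mem' := fun ⟨a, u, hu, e⟩ ⟨b, v, hv, e'⟩ =>
        ⟨mul_mem a b, _, mul_mem hu hv, rmul em (hY hu) (hY hv) a b e e'⟩
      inv_mem' := fun ⟨a, u, hu, e⟩ => ⟨inv_mem a, _, inv_mem hu, rinv em (hY hu) a e⟩ }
  have k1 : X ≤ S2 := fun _ h => h.1
  have k2 : ∀ u ∈ X, u * u = 1 := fun v ⟨a, u, hu, e⟩ =>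
    runi em (mul_mem a a) (one_mem _) (rmul em (hY hu) (hY hu) a a e e) ((h2 u hu).symm ▸ rone em)
  have k3 : 256 ≤ Nat.card X := by
    choose f hf hf' using h.out
    exact hc.trans (Nat.card_le_card_of_injective
      (fun u : Y => (⟨f u u.2, hf u u.2, u, u.2, hf' u u.2⟩ : X)) fun u v e => Subtype.ext
        (runi em (hY u.2) (hY v.2) (hf' u u.2).symm
          ((show f u u.2 = f v v.2 from congrArg Subtype.val e) ▸ (hf' v v.2).symm)))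
  obtain ⟨I, hI⟩ := he X k1 k2 k3
  exact ⟨X, I, k1, k2, k3, hI, fun _ => Iff.rfl⟩

end R

/-- the hypotheses that are used -/
structure Hy (J : N2 → G) : Prop where
  m1 : Mod1
  m2 : Mod2
  he : E256Stmt
  em : Em J S2
  syl : Syl (im J S2) ⊤
  lift : ∀ m : N2, (∀ u ∈ JJ, m * u * m⁻¹ ∈ JJ) → ∃ g, Ex J g m JJ

namespace Hy

variable [Finite G] (h : Hy J) {g : G}
include h

omit [Finite G] in
theorem pj : PP ≤ JJ := h.m2.le.2.2.2.2.2.2.2.2.2.2.1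

omit [Finite G] in
theorem js : JJ ≤ S2 := h.m2.le.2.2.2.2.2.2.2.2.2.2.2.1

omit [Finite G] in
theorem ps : PP ≤ S2 := h.pj.trans h.js

omit [Finite G] in
theorem imgP (k : Into J g PP S2) :
    ∃ (X : Subgroup N2) (I : Fin 4 → Bool), X ≤ S2 ∧ (∀ u ∈ X, u * u = 1) ∧ 256 ≤ Nat.card X ∧
      (∀ v, v ∈ X ↔ XI I v) ∧ ∀ v, v ∈ X ↔ v ∈ S2 ∧ ∃ u ∈ PP, R J g u v :=
  img h.em h.he h.ps h.m2.ab.2.2.2.1 h.m1.cPP.ge k

theorem wcJ (k : Into J g JJ S2) : g ∈ N[im J JJ] := by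
  have fj : FF ≤ JJ := inf_le_left
  obtain ⟨X, I, -, -, -, a1, a2⟩ := h.imgP ⟨fun u hu => k.out u (h.pj hu)⟩
  obtain ⟨X', I', -, -, -, b1, b2⟩ := img h.em h.he (fj.trans h.js) h.m2.ab.2.2.2.2.1
    h.m1.cFF.ge ⟨fun u hu => k.out u (fj hu)⟩
  refine (into_iff h.em h.js).1 ⟨fun u hu => ?_⟩
  obtain ⟨a, ha, b, hb, rfl⟩ := h.m2.pJJ u hu
  obtain ⟨a', ha', e⟩ := k.out a (fj ha)
  obtain ⟨b', hb', e'⟩ := k.out b (h.pj hb)
  exact ⟨_, mul_mem ((b1 _).1 ((b2 _).2 ⟨ha', a, ha, e⟩)).1 ((a1 _).1 ((a2 _).2 ⟨hb', b, hb, e'⟩)).1,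
    rmul h.em (h.js (fj ha)) (h.ps hb) ha' hb' e e'⟩

theorem zp (k : g ∈ N[im J JJ]) (i : Fin 4) : ∃ j, R J g (wb i 0) (wb j 0) := by
  have k1 := (into_iff h.em h.js).2 k
  have k2 := (into_iff h.em h.js).2 (inv_mem k)
  obtain ⟨z1, z2, z3, z4, -, -, -, -, -, z5, -⟩ := z_mem i
  obtain ⟨z', hz, ez⟩ := k1.out _ z1
  obtain ⟨w', hw, ew⟩ := k1.out _ z2
  obtain ⟨d', hd, ed⟩ := k1.out _ z3
  rcases zc h.m2 hd with c | ⟨j, y', hy', c⟩
  · have := rbr h.em (h.js z3) (h.js z2) (h.js z1) (h.js hd) (h.js hw) (h.js hz) ed ew ez z5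
    rw [c w' hw, mul_assoc, right_eq_mul] at this
    subst this
    exact absurd (runi h.em (h.js z1) (one_mem _) ez.symm (rone h.em)) z4
  obtain ⟨y, hy, ey⟩ := k2.out _ hy'
  have ey' : R J g y y' := by simpa using ey.symm
  have c2 : wb j 0 * wb j 0 = 1 := (by decide +kernel : ∀ j, wb j 0 * wb j 0 = 1) j
  have c' : y' * d' = wb j 0 * d' * y' := by
    rw [mul_assoc, c, mul_assoc, ← mul_assoc, c2, one_mul]
  rcases dl_br i hy with b | b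
  · have := rbr h.em (h.js hy) (h.js z3) (one_mem _) (h.js hy') (h.js hd) (one_mem _) ey' ed
      (rone h.em) (by rw [one_mul, b])
    rw [c', mul_left_inj, mul_left_inj] at this
    exact absurd this (z_mem j).2.2.2.1
  · have := rbr h.em (h.js hy) (h.js z3) (h.js z1) (h.js hy') (h.js hd) (h.js hz) ey' ed ez b
    rw [c', mul_left_inj, mul_left_inj] at this
    exact ⟨j, this ▸ ez⟩

theorem red (k : g ∈ N[im J JJ]) : ∃ m g0, Ex J g0 m JJ ∧ g0 ∈ N[im J JJ] ∧ g0 ∈ N[im J PP] ∧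
    ∀ i, R J (g0⁻¹ * g) (wb i 0) (wb i 0) := by
  choose τ hτ using h.zp k
  have zi : ∀ i j, wb i 0 = wb j 0 → i = j := by decide +kernel
  have ti : Function.Injective τ := fun i j e => zi _ _
    (runi h.em (h.js (z_mem i).1) (h.js (z_mem j).1) (hτ i).symm (e ▸ (hτ j).symm))
  obtain ⟨m, h1, h2⟩ := blk (Equiv.ofBijective τ (Finite.injective_iff_bijective.1 ti))
  obtain ⟨g0, e⟩ := h.lift m fun u hu => nj h1 hu
  refine ⟨m, g0, e, (into_iff h.em h.js).1 ⟨fun u hu => ⟨_, nj h1 hu, e u hu⟩⟩,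
    (into_iff h.em h.ps).1 ⟨fun u hu => ⟨_, (h.m2.nrm m).1 u hu, e u (h.pj hu)⟩⟩, fun i => ?_⟩
  have := e _ (z_mem i).1
  rw [h2] at this
  exact (hτ i).trans this.symm

theorem sq (k : g ∈ N[im J JJ]) (hz : ∀ i, R J g (wb i 0) (wb i 0)) : g * g ∈ N[im J PP] := by
  have k1 := (into_iff h.em h.js).2 k
  have k2 : ∀ u ∈ JJ, ∃ v ∈ S2, R J g u v := fun u hu => (k1.out u hu).imp fun _ e => ⟨h.js e.1, e.2⟩
  obtain ⟨X, I, a1, a2, a3, a4, a5⟩ := h.imgP ⟨fun u hu => k2 u (h.pj hu)⟩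
  obtain ⟨X', I', b1, -, -, b4, b5⟩ := img h.em h.he a1 a2 a3 ⟨fun u hu => k2 u ((a4 u).1 hu).1⟩
  have zs := fun i => h.js (z_mem i).1
  have e : I' = fun _ => true := funext fun i => by
    by_cases c : I i = true
    · by_contra c'
      obtain ⟨a, ha, b, hb, e⟩ := da (I := I) (I' := I') (i := i) fun e => c' (e ▸ c)
      obtain ⟨sa, a0, ha0, ea⟩ := (a5 a).1 ((a4 a).2 ha)
      obtain ⟨sb, b0, hb0, eb⟩ := (b5 b).1 ((b4 b).2 hb)
      exact db' ((xi_top h.m2).2 ha0) ((a4 _).1 hb0) (rbr h.em sa sb (zs i) (h.ps ha0) (a1 hb0)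
        (zs i) ea.symm eb.symm (hz i).symm e) c.symm
    · obtain ⟨a, ha, b, hb, e⟩ := da (I := fun _ => true) (I' := I) (i := i) (Ne.symm c)
      obtain ⟨a', sa, ea⟩ := k2 a ha.1
      obtain ⟨b', sb, eb⟩ := k2 b hb.1
      have := db' ((a4 _).1 ((a5 _).2 ⟨sa, a, (xi_top h.m2).1 ha, ea⟩))
        ((b4 _).1 ((b5 _).2 ⟨sb, b, (a4 _).2 hb, eb⟩))
        (rbr h.em (h.js ha.1) (h.js hb.1) (zs i) sa sb (zs i) ea eb (hz i) e)
      revert this c; cases I i <;> cases I' i <;> simp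
  refine (into_iff h.em h.ps).1 ⟨fun u hu => ?_⟩
  obtain ⟨v, sv, ev⟩ := k2 u (h.pj hu)
  have hv := (a5 v).2 ⟨sv, u, hu, ev⟩
  obtain ⟨w, sw, ew⟩ := k2 v ((a4 v).1 hv).1
  exact ⟨w, (xi_top h.m2).1 (e ▸ (b4 w).1 ((b5 w).2 ⟨sw, v, hv, ew⟩)), ev.trans ew⟩

theorem sN : im J S2 ≤ N[im J PP] := im_le fun t ht =>
  (into_iff h.em h.ps).1 ⟨fun u hu => ⟨_, (h.m2.nrm t).1 u hu, h.em.self ht (h.ps hu)⟩⟩

theorem two (k : g ∈ N[im J JJ]) (hz : ∀ i, Commute g (J (wb i 0))) {n : ℕ} (h2 : g ^ 2 ^ n = 1) :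
    g ∈ N[im J PP] := by
  have p1 : IsPGroup 2 (zpowers g) := IsPGroup.of_card_dvd_pow (n := n)
    (by rw [Nat.card_zpowers]; exact orderOf_dvd_of_pow_eq_one h2)
  have p2 : IsPGroup 2 (im J JJ) := h.syl.grp.to_le (im_mono h.js)
  obtain ⟨c, -, hc⟩ := h.syl.exists_conj_le le_top
    (IsPGroup.to_sup_of_normal_right' p1 p2 (zpowers_le.2 k))
  have cN := h.wcJ (into_of h.em fun u hu => hc _ (mem_sup_right (mem_im hu)))
  obtain ⟨s, hs, e⟩ := h.em.mem.1 (hc g (mem_sup_left (mem_zpowers g)))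
  have sJ : s ∈ JJ := cz fun i => by
    obtain ⟨j, hj⟩ := h.zp (inv_mem cN) i
    have zs := h.js (z_mem i).1
    refine h.em.inj _ (mul_mem hs zs) _ (mul_mem zs hs) ?_
    rw [h.em.mul _ hs _ zs, h.em.mul _ zs _ hs, e, ← (show _ = _ from hj.symm), inv_inv]
    exact ((hz j).conj c).eq
  have := (mem_normalizer_iff''.1 cN _).1 (mem_im sJ)
  rw [e, show c⁻¹ * (c * g * c⁻¹) * c = g by group] at this
  exact h.sN (im_mono h.js this)

theorem np (k : g ∈ N[im J JJ]) : g ∈ N[im J PP] := by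
  obtain ⟨m, g0, -, a1, a2, a3⟩ := h.red k
  have k' : g0⁻¹ * g ∈ N[im J JJ] := mul_mem (inv_mem a1) k
  suffices g0⁻¹ * g ∈ N[im J PP] by simpa using mul_mem a2 this
  generalize g0⁻¹ * g = t at k' a3
  obtain ⟨n, o, ⟨r, rfl⟩, e⟩ := Nat.exists_eq_two_pow_mul_odd (orderOf_pos t).ne'
  have h1 := h.two (pow_mem k' (2 * r + 1))
    (fun i => (show Commute t _ from mul_inv_eq_iff_eq_mul.1 (a3 i)).pow_left _) (n := n)
    (by rw [← pow_mul, mul_comm, ← e, pow_orderOf_eq_one])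
  have h2 := pow_mem (h.sq k' a3) r
  rw [← pow_two, ← pow_mul] at h2
  have := mul_mem (inv_mem h2) h1
  rwa [pow_succ, inv_mul_cancel_left] at this

theorem wcP (k : Into J g PP S2) : g ∈ N[im J PP] := by
  obtain ⟨X, I, -, -, -, a4, a5⟩ := h.imgP k
  have le : (im J JJ).map (MulAut.conj g⁻¹).toMonoidHom ≤ N[im J PP] := by
    rw [map_le_iff_le_comap]
    refine im_le fun y hy => (into_iff h.em h.ps).1 ⟨fun u hu => ?_⟩
    obtain ⟨v, sv, ev⟩ := k.out u hu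
    obtain ⟨-, u', hu', e'⟩ := (a5 _).1 ((a4 _).2 (xi_nrm hy ((a4 _).1 ((a5 _).2 ⟨sv, u, hu, ev⟩))))
    refine ⟨u', hu', ?_⟩
    have := (ev.trans (h.em.self (h.js hy) sv)).trans e'.symm
    simpa [mul_assoc] using this
  obtain ⟨c, hc, e⟩ := (h.syl.mono h.sN le_top).exists_conj_le le
    ((h.syl.grp.to_le (im_mono h.js)).map _)
  have := h.np (g := c * g⁻¹) (h.wcJ (into_of h.em fun u hu => by
    have := e _ ⟨_, mem_im hu, rfl⟩
    simpa [mul_assoc] using this))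
  simpa using mul_mem (inv_mem this) hc

theorem ctrl {A : Subgroup N2} (hA : A ≤ S2) (wc : ∀ g, Into J g A S2 → g ∈ N[im J A]) {a b : N2}
    (ha : a ∈ S2) (hb : b ∈ S2) (ca : ∀ u ∈ A, Commute u a) (cb : ∀ u ∈ A, Commute u b)
    (e : R J g a b) : ∃ n ∈ N[im J A], R J n a b := by
  obtain ⟨k1, -, k2, -, e1, e2, e3⟩ := h.syl.ext_fusion (mem_top g) e
  have cm : ∀ u ∈ S2, ∀ v ∈ S2, Commute u v → Commute (J u) (J v) := fun u hu v hv c => by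
    rw [commute_iff_eq, ← h.em.mul _ hu _ hv, ← h.em.mul _ hv _ hu, c.eq]
  refine ⟨k1⁻¹ * k2, mul_mem (inv_mem (wc _ (into_of h.em fun u hu =>
    e2 _ (mem_im (hA hu)) (cm _ (hA hu) _ hb (cb u hu))))) (wc _ (into_of h.em fun u hu =>
    e3 _ (mem_im (hA hu)) (cm _ (hA hu) _ ha (ca u hu)))), ?_⟩
  rw [R, show k1⁻¹ * k2 * J a * (k1⁻¹ * k2)⁻¹ = k1⁻¹ * (k2 * J a * k2⁻¹) * k1 by group, ← e1]
  group

theorem wp : Wp J := by
  refine ⟨fun g e he e' he' k => h.ctrl h.ps (fun _ => h.wcP) (h.ps he) (h.ps he')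
    (fun u hu => h.m2.ab.1 u hu e he) (fun u hu => h.m2.ab.1 u hu e' he') k,
    fun g u hu v hv k => ?_⟩
  have cm : ∀ u ∈ E1, ∀ y ∈ JJ, Commute y u := fun u hu y hy => by
    obtain ⟨a, ha, b, hb, rfl⟩ := h.m2.pJJ y hy
    exact (h.m2.ab.2.1 a ha u hu.2).mul_left (h.m2.ab.1 b hb u hu.1.1)
  obtain ⟨n, hn, e⟩ := h.ctrl h.js (fun _ => h.wcJ) (h.ps hu.1.1) (h.ps hv.1.1) (cm u hu) (cm v hv) k
  obtain ⟨m, g0, a0, -, -, a3⟩ := h.red hn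
  have k1 : ∀ i a : Fin 4, a = 0 ∨ a = 3 → wb i a ∈ S2 ∧ R J (g0⁻¹ * n) (wb i a) (wb i a) := by
    rintro i a (rfl | rfl)
    · exact ⟨h.js (z_mem i).1, a3 i⟩
    · rw [(z_mem i).2.2.2.2.2.2.2.2.1]
      exact ⟨one_mem _, rone h.em⟩
  have k2 : ∀ a b : N2, a ∈ S2 ∧ R J (g0⁻¹ * n) a a → b ∈ S2 ∧ R J (g0⁻¹ * n) b b →
      a * b ∈ S2 ∧ R J (g0⁻¹ * n) (a * b) (a * b) := fun a b ha hb =>
    ⟨mul_mem ha.1 hb.1, rmul h.em ha.1 hb.1 ha.1 hb.1 ha.2 hb.2⟩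
  obtain ⟨a, b, c, d, ha, hb, hc, hd, eu⟩ := e1_nf h.m1 hu
  have k3 := (k2 _ _ (k2 _ _ (k2 _ _ (k1 0 a ha) (k1 1 b hb)) (k1 2 c hc)) (k1 3 d hd)).2
  rw [← eu] at k3
  have k4 := k3.trans (a0 u (h.pj hu.1.1))
  rw [mul_inv_cancel_left] at k4
  rw [runi h.em (h.ps hv.1.1) (h.ps ((h.m2.nrm m).1 u hu.1.1)) e k4]
  exact ty_conj m hu.1.1

end Hy

theorem cl1 (hB : Base.{u}) (he : E256Stmt) : Cl1Stmt.{u} := by
  intro G _ _ J φ s H ρ h
  have js : JJ ≤ S2 := hB.m2.le.2.2.2.2.2.2.2.2.2.2.2.1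
  exact Hy.wp ⟨hB.m1, hB.m2, he, h.em2, h.syl2, fun m hm =>
    (h.lift m JJ js fun u hu => js (hm u hu)).imp fun _ e => e.2.2⟩

end Cfsg.Agent.H32.KnCl1
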