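import Cfsg.Agent.H32.LowProper

/-!
Stabilisers of decompositions over small fields lie in larger geometric subgroups.
-/

set_option autoImplicit false
set_option linter.unusedSectionVars false

namespace Cfsg.Agent.H32

open Matrix Cfsg.Geo Module

variable {ι κ : Type} [Fintype ι] [DecidableEq ι] [Fintype κ] [DecidableEq κ] {F : Type*} [Field F]

section Pull

variable (e : (κ → F) ≃ₗ[F] (ι → F))

theorem symm_glConj_mulVec (g : GL κ F) (v : ι → F) :
    e.symm ((H28.glConj e g : Matrix ι ι F) *ᵥ v) = (g : Matrix κ κ F) *ᵥ e.symm v := by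
  obtain ⟨x, rfl⟩ := e.surjective v
  rw [glConj_mulVec, e.symm_apply_apply, e.symm_apply_apply]

/-- Transport of a form along a linear equivalence. -/
def pullForm (f : (κ → F) → (κ → F) → F) : (ι → F) → (ι → F) → F :=
  fun u v => f (e.symm u) (e.symm v)

theorem glConj_mem_similarityGroup {f : (κ → F) → (κ → F) → F} {g : GL κ F}
    (hg : g ∈ similarityGroup f) : H28.glConj e g ∈ similarityGroup (pullForm e f) := by
  obtain ⟨c, hc⟩ := hg
  exact ⟨c, fun u v => by simp only [pullForm, symm_glConj_mulVec, hc]⟩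

theorem glConj_mem_quadSimilarityGroup {Q : (κ → F) → F} {g : GL κ F}
    (hg : g ∈ quadSimilarityGroup Q) :
    H28.glConj e g ∈ quadSimilarityGroup fun v => Q (e.symm v) := by
  obtain ⟨c, hc⟩ := hg
  exact ⟨c, fun u => by simp only [symm_glConj_mulVec, hc]⟩

theorem isNondegenerateForm_pull {f : (κ → F) → (κ → F) → F} (hf : IsNondegenerateForm f) :
    IsNondegenerateForm (pullForm e f) := by
  intro v hv
  obtain ⟨⟨x, hx⟩, ⟨y, hy⟩⟩ := hf (e.symm v) (by simpa using hv)
  exact ⟨⟨e x, by simpa [pullForm] using hx⟩, ⟨e y, by simpa [pullForm] using hy⟩⟩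

theorem isBilinearForm_pull {f : (κ → F) → (κ → F) → F} (hf : IsBilinearForm f) :
    IsBilinearForm (pullForm e f) where
  add_left x y v := by simp only [pullForm, map_add, hf.add_left]
  smul_left c x v := by simp only [pullForm, map_smul, hf.smul_left]
  add_right v x y := by simp only [pullForm, map_add, hf.add_right]
  smul_right c v x := by simp only [pullForm, map_smul, hf.smul_right]

theorem isSymplecticForm_pull {f : (κ → F) → (κ → F) → F} (hf : IsSymplecticForm f) :
    IsSymplecticForm (pullForm e f) :=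
  ⟨isBilinearForm_pull e hf.bilinear, fun _ _ => hf.skew _ _, fun _ => hf.alternating _,
    isNondegenerateForm_pull e hf.nondegenerate⟩

theorem isUnitaryForm_pull {σ : F ≃+* F} {f : (κ → F) → (κ → F) → F} (hf : IsUnitaryForm σ f) :
    IsUnitaryForm σ (pullForm e f) where
  ne_refl := hf.ne_refl
  involutive := hf.involutive
  add_left x y v := by simp only [pullForm, map_add, hf.add_left]
  smul_left c x v := by simp only [pullForm, map_smul, hf.smul_left]
  herm _ _ := hf.herm _ _
  nondegenerate := isNondegenerateForm_pull e hf.nondegenerate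

theorem isNondegenerateQuadraticForm_pull {Q : (κ → F) → F}
    (hQ : IsNondegenerateQuadraticForm Q) :
    IsNondegenerateQuadraticForm fun v => Q (e.symm v) := by
  have h : (QuadraticMap.polar fun v => Q (e.symm v)) = pullForm e (QuadraticMap.polar Q) := by
    ext u v
    simp only [QuadraticMap.polar, pullForm, map_add]
  refine ⟨fun c v => by rw [map_smul, hQ.smul], ?_, ?_⟩
  · rw [h]; exact isBilinearForm_pull e hQ.polar_bilinear
  · rw [h]; exact isNondegenerateForm_pull e hQ.nondegenerate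

end Pull

section Monomial

theorem monGL_coord {g : GL κ F} (hg : g ∈ monGL κ F) :
    ∃ (σ : Equiv.Perm κ) (c : κ → F), (∀ i, c i ≠ 0) ∧
      (∀ (x : κ → F) (i : κ), ((g : Matrix κ κ F) *ᵥ x) (σ i) = c i * x i) ∧
      (∏ i, c i) ^ 2 = (g : Matrix κ κ F).det ^ 2 := by
  obtain ⟨σ, hσ⟩ := hg
  choose c hc using hσ
  have h1 : (g : Matrix κ κ F).submatrix σ id = diagonal c := by
    ext i j
    have := congrFun (hc j) (σ i)
    rw [mulVec_single_one] at this
    rw [submatrix_apply, diagonal_apply, id]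
    refine this.trans ?_
    by_cases hij : i = j
    · subst hij; simp
    · simp [hij]
  refine ⟨σ, c, fun i => ne_zero_of_mulVec_single (hc i), fun x i => ?_, ?_⟩
  · rw [← mulVec_diagonal, ← h1]
    rfl
  · rw [← det_diagonal, ← h1, det_permute, mul_pow]
    rcases Int.units_eq_one_or (Equiv.Perm.sign σ) with h | h <;> simp [h]

theorem monGL_fix_one [Fintype F] (hq : Fintype.card F = 2) {g : GL κ F} (hg : g ∈ monGL κ F) :
    (g : Matrix κ κ F) *ᵥ (fun _ => 1) = fun _ => 1 := by
  obtain ⟨σ, c, h1, h2, -⟩ := monGL_coord hg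
  ext j
  obtain ⟨i, rfl⟩ := σ.surjective j
  have := FiniteField.pow_card_sub_one_eq_one (c i) (h1 i)
  rw [hq, pow_one] at this
  rw [h2, this, one_mul]

/-- The sum of the squares of the coordinates. -/
def sumSq (x : κ → F) : F := ∑ i, x i ^ 2

theorem polar_sumSq (x y : κ → F) : QuadraticMap.polar sumSq x y = 2 * (x ⬝ᵥ y) := by
  simp only [QuadraticMap.polar, sumSq, dotProduct, Pi.add_apply, Finset.mul_sum,
    ← Finset.sum_sub_distrib]
  exact Finset.sum_congr rfl fun i _ => by ring

theorem isNondegenerateQuadraticForm_sumSq (h2 : (2 : F) ≠ 0) :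
    IsNondegenerateQuadraticForm (sumSq : (κ → F) → F) := by
  refine ⟨fun c v => ?_, ⟨fun x y v => ?_, fun c x v => ?_, fun x y v => ?_, fun c x v => ?_⟩,
    fun v hv => ?_⟩
  · simp only [sumSq, Pi.smul_apply, smul_eq_mul, mul_pow, Finset.mul_sum]
  · simp only [polar_sumSq, add_dotProduct, mul_add]
  · simp only [polar_sumSq, smul_dotProduct, smul_eq_mul, mul_left_comm]
  · simp only [polar_sumSq, dotProduct_add, mul_add]
  · simp only [polar_sumSq, dotProduct_smul, smul_eq_mul, mul_left_comm]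
  · obtain ⟨w, hw⟩ := H26.exists_dot_eq_one hv
    exact ⟨⟨w, by rwa [polar_sumSq, hw, mul_one]⟩,
      ⟨w, by rwa [polar_sumSq, dotProduct_comm, hw, mul_one]⟩⟩

theorem monGL_le_sumSq [Fintype F] (hq : Fintype.card F = 3) :
    monGL κ F ≤ quadSimilarityGroup sumSq := by
  intro g hg
  obtain ⟨σ, c, h1, h2, -⟩ := monGL_coord hg
  refine ⟨1, fun v => ?_⟩
  rw [Units.val_one, one_mul, sumSq, sumSq, ← Equiv.sum_comp σ]
  refine Finset.sum_congr rfl fun i _ => ?_
  have := FiniteField.pow_card_sub_one_eq_one (c i) (h1 i)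
  rw [hq] at this
  rw [h2, mul_pow, this, one_mul]

/-- The standard hermitian form for a field automorphism. -/
def stdHerm (σ : F ≃+* F) (x y : κ → F) : F := ∑ i, x i * σ (y i)

theorem isUnitaryForm_stdHerm {σ : F ≃+* F} (h1 : σ ≠ RingEquiv.refl F) (h2 : ∀ a, σ (σ a) = a) :
    IsUnitaryForm σ (stdHerm σ : (κ → F) → (κ → F) → F) := by
  have hh : ∀ v w : κ → F, stdHerm σ v w = σ (stdHerm σ w v) := fun v w => by
    simp only [stdHerm, map_sum, map_mul, h2, mul_comm]
  refine ⟨h1, h2, fun x y v => ?_, fun c x v => ?_, hh, fun v hv => ?_⟩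
  · simp only [stdHerm, Pi.add_apply, add_mul, Finset.sum_add_distrib]
  · simp only [stdHerm, Pi.smul_apply, smul_eq_mul, mul_assoc, Finset.mul_sum]
  · obtain ⟨i, hi⟩ := Function.ne_iff.1 hv
    have h3 : stdHerm σ (Pi.single i 1) v ≠ 0 := by
      simpa [stdHerm, Pi.single_apply] using hi
    exact ⟨⟨_, h3⟩, ⟨Pi.single i 1, by rw [hh]; simpa using h3⟩⟩

theorem monGL_le_stdHerm [Fintype F] (hq : Fintype.card F = 4) {σ : F ≃+* F}
    (hσ : ∀ x, σ x = x ^ 2) : monGL κ F ≤ similarityGroup (stdHerm σ) := by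
  intro g hg
  obtain ⟨τ, c, h1, h2, -⟩ := monGL_coord hg
  refine ⟨1, fun u v => ?_⟩
  rw [Units.val_one, one_mul, stdHerm, stdHerm, ← Equiv.sum_comp τ]
  refine Finset.sum_congr rfl fun i _ => ?_
  have := FiniteField.pow_card_sub_one_eq_one (c i) (h1 i)
  rw [hq] at this
  rw [h2, h2, map_mul, hσ (c i)]
  linear_combination (u i * σ (v i)) * this

theorem mem_monGL_iff_lines {t : ℕ} (g : GL (Fin t) F) :
    g ∈ decompositionStabilizer (fun k : Fin t => Submodule.span F {(Pi.single k 1 : Fin t → F)}) ↔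
      g ∈ monGL (Fin t) F := by
  change (∃ σ : Equiv.Perm (Fin t), ∀ i, _) ↔ (∃ σ : Equiv.Perm (Fin t), ∀ i, _)
  refine exists_congr fun σ => forall_congr' fun i => ?_
  rw [Submodule.map_span, Set.image_singleton, Matrix.toLin'_apply]
  constructor
  · intro h
    have h1 := Submodule.mem_span_singleton_self (R := F) (g.1 *ᵥ Pi.single i 1)
    rw [h] at h1
    obtain ⟨c, hc⟩ := Submodule.mem_span_singleton.1 h1
    exact ⟨c, by rw [← hc, ← Pi.single_smul, smul_eq_mul, mul_one]⟩
  · rintro ⟨c, hc⟩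
    have h0 := ne_zero_of_mulVec_single hc
    rw [hc, ← mul_one c, ← smul_eq_mul, Pi.single_smul]
    exact Submodule.span_singleton_smul_eq (IsUnit.mk0 c h0) _

/-- A decomposition into lines is the standard frame after a change of basis. -/
theorem exists_equiv_of_isMDecomposition_one {t : ℕ} {D : Fin t → Submodule F (ι → F)}
    (hD : IsMDecomposition 1 D) : ∃ e : (Fin t → F) ≃ₗ[F] (ι → F),
      ∀ g, H28.glConj e g ∈ decompositionStabilizer D ↔ g ∈ monGL (Fin t) F := by
  obtain ⟨e, he⟩ := exists_equiv_of_isMDecomposition hD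
  refine ⟨(LinearEquiv.funCongrLeft F F (Equiv.prodUnique (Fin t) (Fin 1))).trans e, fun g => ?_⟩
  rw [← mem_monGL_iff_lines]
  refine glConj_mem_decompositionStabilizer_iff _ _ _ (fun k => ?_) g
  rw [← he k, LinearEquiv.coe_trans, Submodule.map_comp]
  congr 1
  apply Submodule.eq_of_le_of_finrank_eq
  · rw [Submodule.map_span, Set.image_singleton, Submodule.span_singleton_le_iff_mem, mem_blk]
    intro p hp
    simp [LinearEquiv.funCongrLeft_apply, LinearMap.funLeft_apply, hp]
  · rw [LinearEquiv.finrank_map_eq, finrank_blk, finrank_span_singleton (by simp),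
      Fintype.card_fin]

end Monomial

section Blocks

variable {t : ℕ} {μ : Type} [Fintype μ] [DecidableEq μ]

theorem blk_coord {g : GL (Fin t × μ) F} (hg : g ∈ decompositionStabilizer (blk F μ (t := t))) :
    ∃ (σ : Equiv.Perm (Fin t)) (A : Fin t → Matrix μ μ F),
      (∀ (x : Fin t × μ → F) (k : Fin t) (a : μ),
        (g.1 *ᵥ x) (σ k, a) = ∑ b, A k a b * x (k, b)) ∧
      ∏ k, (A k).det = ((Equiv.Perm.sign σ : ℤ) : F) ^ Fintype.card μ * g.1.det := by
  obtain ⟨σ, hσ⟩ := exists_perm_of_mem hg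
  have h0 : ∀ k l a b, k ≠ l → g.1 (σ k, a) (l, b) = 0 := fun k l a b hkl => by
    have := mem_blk.1 (hσ l _ (single_mem_blk (l, b) (1 : F))) (σ k, a)
      (fun h => hkl (σ.injective h))
    rwa [mulVec_single_one] at this
  refine ⟨σ, fun k => Matrix.of fun a b => g.1 (σ k, a) (k, b), fun x k a => ?_, ?_⟩
  · rw [mulVec, dotProduct, Fintype.sum_prod_type, Finset.sum_eq_single k]
    · rfl
    · intro l _ hl
      exact Finset.sum_eq_zero fun b _ => by rw [h0 k l a b hl.symm, zero_mul]
    · simp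
  · have h1 : (g.1.submatrix (Equiv.prodCongrLeft fun _ : μ => σ) id).submatrix
        (Equiv.prodComm μ (Fin t)) (Equiv.prodComm μ (Fin t)) =
        blockDiagonal fun k => Matrix.of fun a b => g.1 (σ k, a) (k, b) := by
      ext ⟨a, k⟩ ⟨b, l⟩
      rw [blockDiagonal_apply']
      by_cases hkl : k = l
      · subst hkl; simp
      · simpa [hkl] using h0 k l a b hkl
    rw [← det_blockDiagonal, ← h1, det_submatrix_equiv_self, det_permute,
      Equiv.Perm.sign_prodCongrLeft]
    simp

/-- The sum of the determinant forms on two-dimensional blocks. -/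
def blkSp (x y : Fin t × Fin 2 → F) : F := ∑ k, (x (k, 0) * y (k, 1) - x (k, 1) * y (k, 0))

theorem isSymplecticForm_blkSp : IsSymplecticForm (blkSp : (Fin t × Fin 2 → F) → _ → F) := by
  have hs : ∀ v w : Fin t × Fin 2 → F, blkSp v w = - blkSp w v := fun v w => by
    simp only [blkSp, ← Finset.sum_neg_distrib]
    exact Finset.sum_congr rfl fun k _ => by ring
  refine ⟨⟨fun x y v => ?_, fun c x v => ?_, fun x y v => ?_, fun c x v => ?_⟩, hs, fun v => ?_,
    fun v hv => ?_⟩
  · simp only [blkSp, Pi.add_apply, ← Finset.sum_add_distrib]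
    exact Finset.sum_congr rfl fun k _ => by ring
  · simp only [blkSp, Pi.smul_apply, smul_eq_mul, Finset.mul_sum]
    exact Finset.sum_congr rfl fun k _ => by ring
  · simp only [blkSp, Pi.add_apply, ← Finset.sum_add_distrib]
    exact Finset.sum_congr rfl fun k _ => by ring
  · simp only [blkSp, Pi.smul_apply, smul_eq_mul, Finset.mul_sum]
    exact Finset.sum_congr rfl fun k _ => by ring
  · exact Finset.sum_eq_zero fun k _ => by ring
  · obtain ⟨⟨k, a⟩, hi⟩ := Function.ne_iff.1 hv
    obtain ⟨x, hx⟩ : ∃ x, blkSp x v ≠ 0 := by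
      fin_cases a
      · exact ⟨Pi.single (k, 1) 1, by simpa [blkSp, Pi.single_apply] using hi⟩
      · exact ⟨Pi.single (k, 0) 1, by simpa [blkSp, Pi.single_apply] using hi⟩
    exact ⟨⟨x, hx⟩, ⟨x, by rwa [hs, neg_ne_zero]⟩⟩

theorem blkStab_le_blkSp [Fintype F] (hq : Fintype.card F = 2 ∨ (t = 2 ∧ Fintype.card F = 3)) :
    blkStab t (Fin 2) F ≤ similarityGroup blkSp := by
  rintro g ⟨hg, hg'⟩
  obtain ⟨σ, A, h1, h2⟩ := blk_coord hg
  have h3 : ∏ k, (A k).det = 1 := by
    rw [h2, (mem_specialLinear_iff g).1 hg']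
    rcases Int.units_eq_one_or (Equiv.Perm.sign σ) with h | h <;> simp [h]
  have h4 : ∀ k, (A k).det ≠ 0 := fun k hk => by
    rw [Finset.prod_eq_zero (Finset.mem_univ k) hk] at h3
    exact zero_ne_one h3
  obtain ⟨c, hc⟩ : ∃ c : Fˣ, ∀ k, (A k).det = c := by
    rcases hq with hq | ⟨rfl, hq⟩
    · refine ⟨1, fun k => ?_⟩
      have := FiniteField.pow_card_sub_one_eq_one _ (h4 k)
      rwa [hq, pow_one] at this
    · refine ⟨Units.mk0 _ (h4 0), fun k => ?_⟩
      fin_cases k
      · rfl
      · have := FiniteField.pow_card_sub_one_eq_one _ (h4 0)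
        rw [hq] at this
        rw [Fin.prod_univ_two] at h3
        change (A 1).det = (A 0).det
        linear_combination (A 0).det * h3 - (A 1).det * this
  refine ⟨c, fun u v => ?_⟩
  rw [blkSp, blkSp, ← Equiv.sum_comp σ, Finset.mul_sum]
  refine Finset.sum_congr rfl fun k _ => ?_
  rw [← hc k, det_fin_two]
  simp only [h1, Fin.sum_univ_two]
  ring

end Blocks

section Contain

variable [Fintype F] {t : ℕ} {D : Fin t → Submodule F (ι → F)}

theorem dec_le_subspaceStabilizer (hD : IsMDecomposition 1 D) (hq : Fintype.card F = 2) :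
    ∃ W : Submodule F (ι → F), W ≠ ⊥ ∧ W ≠ ⊤ ∧
      decompositionStabilizer D ≤ subspaceStabilizer W := by
  obtain ⟨e, he⟩ := exists_equiv_of_isMDecomposition_one hD
  have ht := hD.two_le
  have h0 : e (fun _ => 1) ≠ 0 := by
    rw [ne_eq, e.map_eq_zero_iff]
    intro h
    exact one_ne_zero (congrFun h ⟨0, by omega⟩)
  refine ⟨Submodule.span F {e fun _ => 1}, by simpa using h0, fun h => ?_, fun x hx => ?_⟩
  · have h1 := finrank_span_singleton (K := F) h0
    rw [h, finrank_top, ← e.finrank_eq, Module.finrank_fintype_fun_eq_card, Fintype.card_fin] at h1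
    omega
  · obtain ⟨g, rfl⟩ := (H28.glConj e).surjective x
    apply mem_subspaceStabilizer_of_forall
    intro v hv
    obtain ⟨c, rfl⟩ := Submodule.mem_span_singleton.1 hv
    rw [mulVec_smul, glConj_mulVec, monGL_fix_one hq ((he g).1 hx)]
    exact hv

theorem dec_le_quad (hD : IsMDecomposition 1 D) (hq : Fintype.card F = 3) :
    ∃ Q : (ι → F) → F, IsNondegenerateQuadraticForm Q ∧
      decompositionStabilizer D ≤ quadSimilarityGroup Q := by
  obtain ⟨e, he⟩ := exists_equiv_of_isMDecomposition_one hD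
  refine ⟨_, isNondegenerateQuadraticForm_pull e (isNondegenerateQuadraticForm_sumSq
    (H25.two_ne_zero_of_odd (by rw [hq]; decide))), fun x hx => ?_⟩
  obtain ⟨g, rfl⟩ := (H28.glConj e).surjective x
  exact glConj_mem_quadSimilarityGroup e (monGL_le_sumSq hq ((he g).1 hx))

theorem dec_le_su (hD : IsMDecomposition 1 D) (hq : Fintype.card F = 4) :
    ∃ (σ : F ≃+* F) (f : (ι → F) → (ι → F) → F), IsUnitaryForm σ f ∧
      decompositionStabilizer D ≤ similarityGroup f := by
  obtain ⟨e, he⟩ := exists_equiv_of_isMDecomposition_one hD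
  obtain ⟨σ, h1, h2, h3⟩ := H25.exists_invol (F := F) (q := 2) hq
  refine ⟨σ, _, isUnitaryForm_pull e (isUnitaryForm_stdHerm h1 h2), fun x hx => ?_⟩
  obtain ⟨g, rfl⟩ := (H28.glConj e).surjective x
  exact glConj_mem_similarityGroup e (monGL_le_stdHerm hq h3 ((he g).1 hx))

theorem dec_le_sp (hD : IsMDecomposition 2 D)
    (hq : Fintype.card F = 2 ∨ (t = 2 ∧ Fintype.card F = 3)) :
    ∃ f : (ι → F) → (ι → F) → F, IsSymplecticForm f ∧
      decompositionStabilizer D ⊓ specialLinear ι F ≤ similarityGroup f := by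
  obtain ⟨e, he⟩ := exists_equiv_of_isMDecomposition hD
  refine ⟨_, isSymplecticForm_pull e isSymplecticForm_blkSp, fun x hx => ?_⟩
  obtain ⟨g, rfl⟩ := (H28.glConj e).surjective x
  exact glConj_mem_similarityGroup e (blkStab_le_blkSp hq
    ⟨(glConj_mem_decompositionStabilizer_iff e _ _ he g).1 hx.1,
      (glConj_mem_specialLinear_iff e g).1 hx.2⟩)

end Contain

end Cfsg.Agent.H32
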