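import Mathlib

/-!
Toolkit for doubly transitive linear groups over the field with two elements: a group acting on
a perfect pairing, annihilators, Fourier inversion and Sylow 2-subgroups.
-/

set_option autoImplicit false

namespace Cfsg.Agent.H32.CK

abbrev F := ZMod 2

theorem F01 (a : F) : a = 0 ∨ a = 1 := by revert a; decide
theorem F_ne0 {a : F} : a ≠ 0 ↔ a = 1 := by revert a; decide
theorem F_ne1 {a : F} : a ≠ 1 ↔ a = 0 := by revert a; decide
@[simp] theorem F11 : (1 : F) + 1 = 0 := by decide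
@[simp] theorem Faa (a : F) : a + a = 0 := by revert a; decide
theorem F_add_eq0 {a c : F} : a + c = 0 ↔ a = c := by revert a c; decide

section basic
variable {V : Type*} [AddCommGroup V] [Module F V]

theorem vv (v : V) : v + v = 0 := by
  have : (1 + 1 : F) • v = v + v := by rw [add_smul, one_smul]
  rw [← this, F11, zero_smul]

theorem vvw (v w : V) : v + (v + w) = w := by rw [← add_assoc, vv, zero_add]
theorem wvv (v w : V) : w + v + v = w := by rw [add_assoc, vv, add_zero]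

theorem add_eq0 {v w : V} : v + w = 0 ↔ v = w :=
  ⟨fun h => by rw [← wvv w v, h, zero_add], fun h => by rw [h, vv]⟩

/-- A subspace from a predicate closed under addition. -/
def mkSub (p : V → Prop) (h0 : p 0) (ha : ∀ a c, p a → p c → p (a + c)) : Submodule F V where
  carrier := {v | p v}
  zero_mem' := h0
  add_mem' := fun {a c} x y => ha a c x y
  smul_mem' := fun c v hv => by
    rcases F01 c with rfl | rfl
    · simpa using h0
    · simpa using hv

@[simp] theorem mem_mkSub {p : V → Prop} {h0 ha} {v : V} : v ∈ mkSub p h0 ha ↔ p v := Iff.rfl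

/-- The span of one vector. -/
def sp1 (x : V) : Submodule F V :=
  mkSub (fun v => v = 0 ∨ v = x) (Or.inl rfl) (by
    rintro a c (rfl | rfl) (rfl | rfl) <;> simp [vv])

theorem mem_sp1 {x v : V} : v ∈ sp1 x ↔ v = 0 ∨ v = x := Iff.rfl

/-- The span of two vectors. -/
def sp2 (x y : V) : Submodule F V :=
  mkSub (fun v => v = 0 ∨ v = x ∨ v = y ∨ v = x + y) (Or.inl rfl) (by
    rintro a c (rfl | rfl | rfl | rfl) (rfl | rfl | rfl | rfl) <;>
      simp [vv, vvw, wvv, add_comm, add_left_comm])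

theorem mem_sp2 {x y v : V} : v ∈ sp2 x y ↔ v = 0 ∨ v = x ∨ v = y ∨ v = x + y := Iff.rfl

theorem sp1_le {x : V} {A : Submodule F V} (h : x ∈ A) : sp1 x ≤ A := by
  rintro v (rfl | rfl)
  exacts [A.zero_mem, h]

theorem sp2_le {x y : V} {A : Submodule F V} (h : x ∈ A) (h' : y ∈ A) : sp2 x y ≤ A := by
  rintro v (rfl | rfl | rfl | rfl)
  exacts [A.zero_mem, h, h', A.add_mem h h']

theorem x_sp1 (x : V) : x ∈ sp1 x := Or.inr rfl
theorem x_sp2 (x y : V) : x ∈ sp2 x y := Or.inr (Or.inl rfl)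
theorem y_sp2 (x y : V) : y ∈ sp2 x y := Or.inr (Or.inr (Or.inl rfl))

theorem add_mem_iff' {A : Submodule F V} {a v : V} (h : a ∈ A) : v + a ∈ A ↔ v ∈ A :=
  A.add_mem_iff_left h

/-- The number of elements of a subspace. -/
noncomputable def cd (A : Submodule F V) : ℕ := (A : Set V).ncard

theorem cd_eq [Finite V] (A : Submodule F V) : cd A = 2 ^ Module.finrank F A := by
  have := Module.natCard_eq_pow_finrank (K := F) (V := A)
  rw [Nat.card_zmod] at this
  rw [← this]; rfl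

theorem cd_pow [Finite V] (A : Submodule F V) : ∃ k, cd A = 2 ^ k := ⟨_, cd_eq A⟩

theorem cd_pos [Finite V] (A : Submodule F V) : 0 < cd A := by rw [cd_eq]; positivity

theorem cd_sup_inf [Finite V] (A B : Submodule F V) : cd (A ⊔ B) * cd (A ⊓ B) = cd A * cd B := by
  simp only [cd_eq, ← pow_add, Submodule.finrank_sup_add_finrank_inf_eq]

theorem cd_mono [Finite V] {A B : Submodule F V} (h : A ≤ B) : cd A ≤ cd B :=
  Set.ncard_le_ncard h (Set.toFinite _)

theorem eq_of_cd [Finite V] {A B : Submodule F V} (h : A ≤ B) (hc : cd B ≤ cd A) : A = B :=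
  SetLike.coe_injective (Set.eq_of_subset_of_ncard_le h hc (Set.toFinite _))

theorem two_cd_le [Finite V] {A B : Submodule F V} (h : A ≤ B) {v : V} (hv : v ∈ B)
    (hv' : v ∉ A) : 2 * cd A ≤ cd B := by
  have hlt : A < B := lt_of_le_of_ne h (fun e => hv' (e ▸ hv))
  have := Submodule.finrank_lt_finrank_of_lt hlt
  rw [cd_eq, cd_eq, ← pow_succ']
  exact Nat.pow_le_pow_right (by norm_num) this

theorem exists_not_mem [Finite V] {A B : Submodule F V} (hc : cd A < cd B) :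
    ∃ v ∈ B, v ∉ A := by
  by_contra h
  push Not at h
  exact absurd (cd_mono (A := B) (B := A) h) (by omega)

theorem cd_top : cd (⊤ : Submodule F V) = Nat.card V := by simp [cd, Set.ncard_univ]

theorem cd_bot : cd (⊥ : Submodule F V) = 1 := by simp [cd]

theorem cd_sp1 {x : V} (hx : x ≠ 0) : cd (sp1 x) = 2 := by
  have : (sp1 x : Set V) = {0, x} := by ext v; simp [mem_sp1]
  rw [cd, this, Set.ncard_pair hx.symm]

theorem sp2_eq (x y : V) : sp2 x y = sp1 x ⊔ sp1 y := by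
  apply le_antisymm
  · exact sp2_le (Submodule.mem_sup_left (x_sp1 x)) (Submodule.mem_sup_right (x_sp1 y))
  · exact sup_le (sp1_le (x_sp2 x y)) (sp1_le (y_sp2 x y))

theorem cd_sup_sp1 [Finite V] {A : Submodule F V} {v : V} (hv : v ∉ A) :
    cd (A ⊔ sp1 v) = 2 * cd A := by
  have h0 : v ≠ 0 := fun e => hv (e ▸ A.zero_mem)
  have hi : A ⊓ sp1 v = ⊥ := by
    rw [eq_bot_iff]
    rintro w ⟨hw, rfl | rfl⟩
    · simp
    · exact absurd hw hv
  have := cd_sup_inf A (sp1 v)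
  rw [hi, cd_bot, cd_sp1 h0] at this
  omega

theorem mem_sup_sp1 {A : Submodule F V} {v w : V} : w ∈ A ⊔ sp1 v ↔ w ∈ A ∨ w + v ∈ A := by
  constructor
  · intro h
    obtain ⟨a, ha, c, rfl | rfl, rfl⟩ := Submodule.mem_sup.1 h
    · left; simpa using ha
    · right; rwa [wvv]
  · rintro (h | h)
    · exact Submodule.mem_sup_left h
    · rw [← wvv v w]
      exact Submodule.add_mem _ (Submodule.mem_sup_left h) (Submodule.mem_sup_right (x_sp1 v))

theorem cd_sp2 [Finite V] {x y : V} (hx : x ≠ 0) (hy : y ∉ sp1 x) : cd (sp2 x y) = 4 := by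
  rw [sp2_eq, cd_sup_sp1 hy, cd_sp1 hx]

/-- In a subspace of index two, the sum of two outside elements is inside. -/
theorem idx2 [Finite V] {D A : Submodule F V} (h : D ≤ A) (hc : cd A ≤ 2 * cd D) {a c : V}
    (ha : a ∈ A) (hc' : c ∈ A) (ha' : a ∉ D) (hc'' : c ∉ D) : a + c ∈ D := by
  have e : D ⊔ sp1 c = A :=
    eq_of_cd (sup_le h (sp1_le hc')) (by rw [cd_sup_sp1 hc'']; exact hc)
  rw [← e, mem_sup_sp1] at ha
  tauto

/-- Three subspaces over a common subspace of index two. -/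
theorem three [Finite V] {D A B C : Submodule F V} (hA : D ≤ A) (hB : D ≤ B) (hC : D ≤ C)
    (cA : cd A ≤ 2 * cd D) (cB : cd B ≤ 2 * cd D) (hCAB : C ≤ A ⊔ B) {c : V} (hc : c ∈ C)
    (hcA : c ∉ A) (hcB : c ∉ B) {z : V} (hz : z ∈ A ⊔ B) : z ∈ A ∨ z ∈ B ∨ z ∈ C := by
  obtain ⟨p, hp, q, hq, rfl⟩ := Submodule.mem_sup.1 hz
  obtain ⟨p', hp', q', hq', rfl⟩ := Submodule.mem_sup.1 (hCAB hc)
  by_cases h1 : p ∈ D
  · exact Or.inr (Or.inl (B.add_mem (hB h1) hq))
  by_cases h2 : q ∈ D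
  · exact Or.inl (A.add_mem hp (hA h2))
  have h3 : p' ∉ D := fun h => hcB (B.add_mem (hB h) hq')
  have h4 : q' ∉ D := fun h => hcA (A.add_mem hp' (hA h))
  right; right
  have h5 := hC (D.add_mem (idx2 hA cA hp hp' h1 h3) (idx2 hB cB hq hq' h2 h4))
  have : p + q = (p + p' + (q + q')) + (p' + q') := by
    rw [add_add_add_comm p p' q q', wvv]
  rw [this]
  exact C.add_mem h5 hc

theorem ncard_diff_sub [Finite V] {A B : Submodule F V} (h : A ≤ B) :
    {v | v ∈ B ∧ v ∉ A}.ncard = cd B - cd A :=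
  Set.ncard_diff (s := (A : Set V)) (t := (B : Set V)) h (Set.toFinite _)

end basic

section count
variable {α β : Type*} [Finite α] [Finite β]

theorem dc_sum (X : Set α) (Y : Set β) (r : α → β → Prop) :
    ∑ x ∈ (Set.toFinite X).toFinset, {y | y ∈ Y ∧ r x y}.ncard =
      ∑ y ∈ (Set.toFinite Y).toFinset, {x | x ∈ X ∧ r x y}.ncard := by
  classical
  have := Finset.sum_card_bipartiteAbove_eq_sum_card_bipartiteBelow
    (s := (Set.toFinite X).toFinset) (t := (Set.toFinite Y).toFinset) r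
  convert this using 2
  · rw [← Set.ncard_coe_finset]; congr 1; ext y; simp [Finset.bipartiteAbove]
  · rw [← Set.ncard_coe_finset]; congr 1; ext y; simp [Finset.bipartiteBelow]

theorem sum_cst (X : Set α) (f : α → ℕ) (m : ℕ) (h : ∀ x ∈ X, f x = m) :
    ∑ x ∈ (Set.toFinite X).toFinset, f x = X.ncard * m := by
  rw [Finset.sum_congr rfl (g := fun _ => m) (fun x hx => h x (by simpa using hx)),
    Finset.sum_const, smul_eq_mul, Set.ncard_eq_toFinset_card X]

theorem dc_eq (X : Set α) (Y : Set β) (r : α → β → Prop) (m k : ℕ)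
    (hm : ∀ x ∈ X, {y | y ∈ Y ∧ r x y}.ncard = m) (hk : ∀ y ∈ Y, {x | x ∈ X ∧ r x y}.ncard = k) :
    X.ncard * m = Y.ncard * k := by
  rw [← sum_cst X _ m hm, ← sum_cst Y _ k hk, dc_sum]

theorem dc_le (X : Set α) (Y : Set β) (r : α → β → Prop) (m k : ℕ)
    (hm : ∀ x ∈ X, m ≤ {y | y ∈ Y ∧ r x y}.ncard) (hk : ∀ y ∈ Y, {x | x ∈ X ∧ r x y}.ncard ≤ k) :
    X.ncard * m ≤ Y.ncard * k := by
  rw [← sum_cst X (fun _ => m) m (fun _ _ => rfl), ← sum_cst Y (fun _ => k) k (fun _ _ => rfl)]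
  calc _ ≤ _ := Finset.sum_le_sum (fun x hx => hm x (by simpa using hx))
    _ = _ := dc_sum X Y r
    _ ≤ _ := Finset.sum_le_sum (fun x hx => hk x (by simpa using hx))

theorem sum_force (Y : Set β) (f : β → ℕ) (k : ℕ) (hk : ∀ y ∈ Y, f y ≤ k)
    (h : Y.ncard * k ≤ ∑ y ∈ (Set.toFinite Y).toFinset, f y) : ∀ y ∈ Y, f y = k := by
  rw [← sum_cst Y (fun _ => k) k (fun _ _ => rfl)] at h
  have h1 : ∀ y ∈ (Set.toFinite Y).toFinset, f y ≤ k := fun x hx => hk x (by simpa using hx)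
  have := (Finset.sum_eq_sum_iff_of_le h1).1 (le_antisymm (Finset.sum_le_sum h1) h)
  intro y hy
  exact this y (by simpa using hy)

theorem sum_force' (Y : Set β) (f : β → ℕ) (k : ℕ) (hk : ∀ y ∈ Y, k ≤ f y)
    (h : ∑ y ∈ (Set.toFinite Y).toFinset, f y ≤ Y.ncard * k) : ∀ y ∈ Y, f y = k := by
  rw [← sum_cst Y (fun _ => k) k (fun _ _ => rfl)] at h
  have h1 : ∀ y ∈ (Set.toFinite Y).toFinset, k ≤ f y := fun x hx => hk x (by simpa using hx)
  have := (Finset.sum_eq_sum_iff_of_le h1).1 (le_antisymm (Finset.sum_le_sum h1) h)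
  intro y hy
  exact (this y (by simpa using hy)).symm

theorem dc_force (X : Set α) (Y : Set β) (r : α → β → Prop) (m k : ℕ)
    (hm : ∀ x ∈ X, {y | y ∈ Y ∧ r x y}.ncard = m) (hk : ∀ y ∈ Y, {x | x ∈ X ∧ r x y}.ncard ≤ k)
    (h : Y.ncard * k ≤ X.ncard * m) : ∀ y ∈ Y, {x | x ∈ X ∧ r x y}.ncard = k := by
  apply sum_force Y _ k hk
  rwa [← dc_sum, sum_cst X _ m hm]

end count

section sylow
variable {G : Type*} [Group G] [Finite G]

/-- A Sylow 2-subgroup of a subgroup. -/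
def Syl (P Γ : Subgroup G) : Prop := P ≤ Γ ∧ IsPGroup 2 P ∧ Odd (P.relIndex Γ)

theorem exists_syl (Γ : Subgroup G) : ∃ P, Syl P Γ := by
  haveI : Fact (Nat.Prime 2) := ⟨Nat.prime_two⟩
  obtain ⟨P⟩ : Nonempty (Sylow 2 Γ) := inferInstance
  refine ⟨(P : Subgroup Γ).map Γ.subtype, Subgroup.map_subtype_le _, P.2.map _, ?_⟩
  have : ((P : Subgroup Γ).map Γ.subtype).subgroupOf Γ = P :=
    Subgroup.comap_map_eq_self_of_injective Γ.subtype_injective _
  rw [Subgroup.relIndex, this, ← Nat.not_even_iff_odd, even_iff_two_dvd]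
  exact P.not_dvd_index

variable {A : Type*} [MulAction G A] [Finite A]

omit [Finite G] [Finite A] in
theorem ncard_orb (Γ : Subgroup G) (a : A) :
    {c | ∃ g ∈ Γ, g • a = c}.ncard = (MulAction.stabilizer G a).relIndex Γ := by
  have h := MulAction.index_stabilizer Γ a
  have e : MulAction.stabilizer Γ a = (MulAction.stabilizer G a).subgroupOf Γ := by
    ext g; simp [Subgroup.mem_subgroupOf, Subgroup.smul_def]
  rw [Subgroup.relIndex, ← e, h]
  congr 1
  ext c
  simp [MulAction.mem_orbit_iff, Subgroup.smul_def]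

omit [Finite G] in
theorem Syl.tr {P Γ : Subgroup G} (h : Syl P Γ) {X : Set A} {k : ℕ} (hc : X.ncard = 2 ^ k)
    (hi : ∀ g ∈ Γ, ∀ a ∈ X, g • a ∈ X) (ht : ∀ a ∈ X, ∀ c ∈ X, ∃ g ∈ Γ, g • a = c) :
    ∀ a ∈ X, ∀ c ∈ X, ∃ g ∈ P, g • a = c := by
  intro a ha
  have e : {c | ∃ g ∈ Γ, g • a = c} = X := by
    ext c
    exact ⟨fun ⟨g, hg, e⟩ => e ▸ hi g hg a ha, ht a ha c⟩
  have h1 := ncard_orb Γ a
  have h2 := ncard_orb P a
  rw [e, hc] at h1
  set H := MulAction.stabilizer G a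
  have h3 := Subgroup.relIndex_inf_mul_relIndex H P Γ
  rw [inf_eq_left.2 h.1] at h3
  have h4 : H.relIndex Γ ∣ (H ⊓ P).relIndex Γ := Subgroup.relIndex_dvd_of_le_left _ inf_le_left
  rw [← h3, ← h1] at h4
  have h5 : 2 ^ k ∣ H.relIndex P :=
    (Nat.Coprime.pow_left k (Nat.coprime_two_left.2 h.2.2)).dvd_of_dvd_mul_right h4
  have hs : {c | ∃ g ∈ P, g • a = c} ⊆ X := fun c ⟨g, hg, e⟩ => e ▸ hi g (h.1 hg) a ha
  have hp : 0 < H.relIndex P := by
    rw [← h2]
    exact (Set.ncard_pos (Set.toFinite _)).2 ⟨a, 1, P.one_mem, one_smul _ _⟩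
  have := Set.eq_of_subset_of_ncard_le hs (by rw [hc, h2]; exact Nat.le_of_dvd hp h5)
    (Set.toFinite _)
  intro c hc
  rw [← this] at hc
  exact hc

omit [Finite G] [Finite A] in
theorem fix_odd {P : Subgroup G} (h : IsPGroup 2 P) {X : Set A} (hc : Odd X.ncard)
    (hi : ∀ g ∈ P, ∀ a ∈ X, g • a ∈ X) : ∃ a ∈ X, ∀ g ∈ P, g • a = a := by
  haveI : Fact (Nat.Prime 2) := ⟨Nat.prime_two⟩
  let Y : SubMulAction P A := ⟨X, fun g a ha => hi g g.2 a ha⟩
  have hn : ¬ 2 ∣ Nat.card Y := by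
    rw [← even_iff_two_dvd, Nat.not_even_iff_odd]; exact hc
  obtain ⟨a, ha⟩ := h.nonempty_fixed_point_of_prime_not_dvd_card Y hn
  exact ⟨a, a.2, fun g hg => congrArg Subtype.val (ha ⟨g, hg⟩)⟩

end sylow

end Cfsg.Agent.H32.CK
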