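import Cfsg.Agent.H32.CKa

/-!
A group acting on a perfect pairing over the field with two elements.
-/

set_option autoImplicit false

namespace Cfsg.Agent.H32.CK

/-- A group acting on two spaces in perfect duality. -/
structure Sys (G V U : Type*) [Group G] [AddCommGroup V] [Module F V] [AddCommGroup U]
    [Module F U] [DistribMulAction G V] [DistribMulAction G U] where
  b : U → V → F
  addl : ∀ φ ψ v, b (φ + ψ) v = b φ v + b ψ v
  addr : ∀ φ v w, b φ (v + w) = b φ v + b φ w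
  inv : ∀ (g : G) φ v, b (g • φ) (g • v) = b φ v
  sepV : ∀ v, (∀ φ, b φ v = 0) → v = 0
  sepU : ∀ φ, (∀ v, b φ v = 0) → φ = 0

attribute [simp] Sys.addl Sys.addr Sys.inv

/-- The sign character. -/
def chi (a : F) : ℤ := if a = 0 then 1 else -1

theorem chi_add (a c : F) : chi (a + c) = chi a * chi c := by revert a c; decide
theorem chi_zero : chi 0 = 1 := rfl
theorem chi_one : chi 1 = -1 := by decide

variable {G V U : Type*} [Group G] [AddCommGroup V] [Module F V] [AddCommGroup U]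
    [Module F U] [DistribMulAction G V] [DistribMulAction G U]

theorem smul_ne0 (g : G) {v : V} (h : v ≠ 0) : g • v ≠ 0 := fun e =>
  h (by simpa using congrArg (g⁻¹ • ·) e)

theorem inv_fix {A : Type*} [MulAction G A] {g : G} {a : A} (h : g • a = a) : g⁻¹ • a = a := by
  rw [inv_smul_eq_iff, h]

theorem smul_mem_sp1 {g : G} {x v : V} : g • v ∈ sp1 (g • x) ↔ v ∈ sp1 x := by
  simp only [mem_sp1, smul_left_cancel_iff, smul_eq_zero_iff_eq]

theorem smul_mem_sp2 {g : G} {x y v : V} : g • v ∈ sp2 (g • x) (g • y) ↔ v ∈ sp2 x y := by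
  simp only [mem_sp2, ← smul_add, smul_left_cancel_iff, smul_eq_zero_iff_eq]

theorem ncard_smul {A : Type*} [MulAction G A] (g : G) {X Y : Set A}
    (h : ∀ a, g • a ∈ Y ↔ a ∈ X) : Y.ncard = X.ncard := by
  have : Y = (fun a => g • a) '' X := by
    ext a
    refine ⟨fun ha => ⟨g⁻¹ • a, (h _).1 (by simpa using ha), by simp⟩, ?_⟩
    rintro ⟨c, hc, rfl⟩
    exact (h c).2 hc
  rw [this, Set.ncard_image_of_injective _ (MulAction.injective g)]

namespace Sys
variable (S : Sys G V U)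

/-- The dual system. -/
def flip : Sys G U V where
  b v φ := S.b φ v
  addl v w φ := S.addr φ v w
  addr v φ ψ := S.addl φ ψ v
  inv g v φ := S.inv g φ v
  sepV := S.sepU
  sepU := S.sepV

@[simp] theorem flip_b (v : V) (φ : U) : S.flip.b v φ = S.b φ v := rfl

@[simp] theorem zerol (v : V) : S.b 0 v = 0 := by simpa using S.addl 0 0 v
@[simp] theorem zeror (φ : U) : S.b φ 0 = 0 := by simpa using S.addr φ 0 0

theorem invl (g : G) (φ : U) (v : V) : S.b (g • φ) v = S.b φ (g⁻¹ • v) := by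
  rw [← S.inv g φ, smul_inv_smul]

theorem invr (g : G) (φ : U) (v : V) : S.b φ (g • v) = S.b (g⁻¹ • φ) v := by
  rw [← S.inv g (g⁻¹ • φ), smul_inv_smul]

theorem extV {v w : V} (h : ∀ φ, S.b φ v = S.b φ w) : v = w :=
  add_eq0.1 (S.sepV _ fun φ => by simp [h])

theorem ex1 {v : V} (h : v ≠ 0) : ∃ φ, S.b φ v = 1 := by
  by_contra hn
  push Not at hn
  exact h (S.sepV v fun φ => F_ne1.1 (hn φ))

/-- The annihilator of a subspace. -/
def ann (A : Submodule F V) : Submodule F U :=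
  mkSub (fun φ => ∀ v ∈ A, S.b φ v = 0) (by simp) (fun a c ha hc v hv => by simp [ha v hv, hc v hv])

theorem mem_ann {A : Submodule F V} {φ : U} : φ ∈ S.ann A ↔ ∀ v ∈ A, S.b φ v = 0 := Iff.rfl

/-- The kernel of a functional. -/
def ker (φ : U) : Submodule F V :=
  mkSub (fun v => S.b φ v = 0) (by simp) (fun a c ha hc => by simp [ha, hc])

@[simp] theorem mem_ker {φ : U} {v : V} : v ∈ S.ker φ ↔ S.b φ v = 0 := Iff.rfl

theorem ann_sup (A B : Submodule F V) : S.ann (A ⊔ B) = S.ann A ⊓ S.ann B := by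
  ext φ
  simp only [Submodule.mem_inf, mem_ann]
  refine ⟨fun h => ⟨fun v hv => h v (Submodule.mem_sup_left hv),
    fun v hv => h v (Submodule.mem_sup_right hv)⟩, fun h v hv => ?_⟩
  obtain ⟨p, hp, q, hq, rfl⟩ := Submodule.mem_sup.1 hv
  simp [h.1 p hp, h.2 q hq]

theorem mem_ann_sp1 {x : V} {φ : U} : φ ∈ S.ann (sp1 x) ↔ S.b φ x = 0 :=
  ⟨fun h => h x (x_sp1 x), fun h v hv => by rcases hv with rfl | rfl <;> simp [h]⟩

theorem mem_ann_sp2 {x y : V} {φ : U} : φ ∈ S.ann (sp2 x y) ↔ S.b φ x = 0 ∧ S.b φ y = 0 := by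
  rw [sp2_eq, ann_sup, Submodule.mem_inf, mem_ann_sp1, mem_ann_sp1]

theorem sum_chi [Finite V] (A : Submodule F V) (φ : U) (h : ∃ a ∈ A, S.b φ a ≠ 0) :
    ∑ v ∈ (Set.toFinite (A : Set V)).toFinset, chi (S.b φ v) = 0 := by
  obtain ⟨a, ha, h⟩ := h
  have : ∑ v ∈ (Set.toFinite (A : Set V)).toFinset, chi (S.b φ v) =
      ∑ v ∈ (Set.toFinite (A : Set V)).toFinset, -chi (S.b φ v) := by
    apply Finset.sum_nbij' (fun v => v + a) (fun v => v + a)
    · intro v hv; simpa using A.add_mem (by simpa using hv) ha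
    · intro v hv; simpa using A.add_mem (by simpa using hv) ha
    · intro v _; exact wvv _ _
    · intro v _; exact wvv _ _
    · intro v _; rw [S.addr, chi_add, F_ne0.1 h, chi_one]; ring
  rw [Finset.sum_neg_distrib] at this
  omega

theorem sum_chi' [Finite V] (A : Submodule F V) (φ : U) (h : φ ∈ S.ann A) :
    ∑ v ∈ (Set.toFinite (A : Set V)).toFinset, chi (S.b φ v) = cd A := by
  rw [Finset.sum_congr rfl (g := fun _ => 1) (fun v hv => by
    rw [h v (by simpa using hv), chi_zero])]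
  simp [cd, Set.ncard_eq_toFinset_card (A : Set V)]

theorem cd_ann' [Finite V] [Finite U] (A : Submodule F V) : cd (S.ann A) * cd A = Nat.card U := by
  classical
  have h := Finset.sum_comm (s := (Set.toFinite ((⊤ : Submodule F U) : Set U)).toFinset)
    (t := (Set.toFinite (A : Set V)).toFinset) (f := fun φ v => chi (S.b φ v))
  have h1 : ∀ φ ∈ (Set.toFinite ((⊤ : Submodule F U) : Set U)).toFinset,
      ∑ v ∈ (Set.toFinite (A : Set V)).toFinset, chi (S.b φ v) =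
        if φ ∈ S.ann A then (cd A : ℤ) else 0 := by
    intro φ _
    split_ifs with hφ
    · exact S.sum_chi' A φ hφ
    · exact S.sum_chi A φ (by simpa [mem_ann] using hφ)
  have h2 : ∀ v ∈ (Set.toFinite (A : Set V)).toFinset,
      ∑ φ ∈ (Set.toFinite ((⊤ : Submodule F U) : Set U)).toFinset, chi (S.b φ v) =
        if v = 0 then (Nat.card U : ℤ) else 0 := by
    intro v _
    split_ifs with hv
    · rw [← cd_top]
      exact S.flip.sum_chi' ⊤ v (fun φ _ => by simp [hv])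
    · obtain ⟨φ, hφ⟩ := S.ex1 hv
      exact S.flip.sum_chi ⊤ v ⟨φ, trivial, by simp [hφ]⟩
  rw [Finset.sum_congr rfl h1, Finset.sum_congr rfl h2, Finset.sum_ite_eq', if_pos (by simp),
    ← Finset.sum_filter, Finset.sum_const, nsmul_eq_mul] at h
  have e : ((Set.toFinite ((⊤ : Submodule F U) : Set U)).toFinset.filter
      (fun φ => φ ∈ S.ann A)).card = cd (S.ann A) := by
    rw [cd, ← Set.ncard_coe_finset]; congr 1; ext φ; simp
  rw [e] at h
  exact_mod_cast h

include S in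
theorem card_eq [Finite V] [Finite U] : Nat.card U = Nat.card V := by
  have h := S.cd_ann' ⊤
  have : S.ann ⊤ = ⊥ := by
    rw [eq_bot_iff]; intro φ hφ; exact S.sepU φ (fun v => hφ v trivial)
  rw [this, cd_bot, cd_top] at h
  omega

theorem cd_ann [Finite V] [Finite U] (A : Submodule F V) : cd (S.ann A) * cd A = Nat.card V := by
  rw [S.cd_ann', S.card_eq]

theorem ann_ann [Finite V] [Finite U] (A : Submodule F V) : S.flip.ann (S.ann A) = A := by
  symm
  apply eq_of_cd (fun v hv φ hφ => hφ v hv)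
  have h1 := S.cd_ann A
  have h2 := S.flip.cd_ann' (S.ann A)
  rw [← h1, mul_comm] at h2
  exact (Nat.eq_of_mul_eq_mul_left (cd_pos _) h2).le

theorem sep [Finite V] [Finite U] {A : Submodule F V} {v : V} (h : v ∉ A) :
    ∃ φ ∈ S.ann A, S.b φ v = 1 := by
  by_contra hn
  push Not at hn
  exact h (by rw [← S.ann_ann A]; exact fun φ hφ => F_ne1.1 (hn φ hφ))

theorem two_one {M : Submodule F U} {v w : V} (h1 : ∃ φ ∈ M, S.b φ v = 1)
    (h2 : ∃ φ ∈ M, S.b φ w = 1) : ∃ φ ∈ M, S.b φ v = 1 ∧ S.b φ w = 1 := by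
  obtain ⟨φ, hφ, e1⟩ := h1
  obtain ⟨ψ, hψ, e2⟩ := h2
  rcases F01 (S.b φ w) with e3 | e3
  · rcases F01 (S.b ψ v) with e4 | e4
    · exact ⟨φ + ψ, M.add_mem hφ hψ, by simp [*]⟩
    · exact ⟨ψ, hψ, e4, e2⟩
  · exact ⟨φ, hφ, e1, e3⟩

theorem cd_inf_ker [Finite V] {A : Submodule F V} {φ : U} {a : V} (ha : a ∈ A)
    (h : S.b φ a = 1) : 2 * cd (A ⊓ S.ker φ) = cd A := by
  have hn : a ∉ A ⊓ S.ker φ := fun e => by have := e.2; simp [h] at this
  rw [← cd_sup_sp1 hn]
  congr 1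
  apply le_antisymm (sup_le inf_le_left (sp1_le ha))
  intro v hv
  rw [mem_sup_sp1]
  rcases F01 (S.b φ v) with e | e
  · exact Or.inl ⟨hv, e⟩
  · exact Or.inr ⟨A.add_mem hv ha, by simp [e, h]⟩

theorem cd_ker [Finite V] {φ : U} (h : φ ≠ 0) : 2 * cd (S.ker φ) = Nat.card V := by
  obtain ⟨a, ha⟩ := S.flip.ex1 h
  have := S.cd_inf_ker (A := ⊤) (a := a) trivial ha
  rwa [top_inf_eq, cd_top] at this

theorem ncard_one [Finite V] {A : Submodule F V} {φ : U} {a : V} (ha : a ∈ A)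
    (h : S.b φ a = 1) : ∃ k, {v | v ∈ A ∧ S.b φ v = 1}.ncard = 2 ^ k := by
  have h1 := S.cd_inf_ker ha h
  have h2 := ncard_diff_sub (A := A ⊓ S.ker φ) (B := A) inf_le_left
  obtain ⟨k, hk⟩ := cd_pow (A ⊓ S.ker φ)
  refine ⟨k, ?_⟩
  rw [← hk, show cd (A ⊓ S.ker φ) = cd A - cd (A ⊓ S.ker φ) by omega, ← h2]
  congr 1
  ext v
  simp only [Set.mem_setOf_eq, Submodule.mem_inf, mem_ker, not_and, ← F_ne0]
  tauto

/-- Fourier inversion: conjugacy of functionals from the orbits on vectors. -/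
theorem fi [Finite G] [Finite V] [Finite U] (Γ : Subgroup G) (M W : Submodule F V) (hWM : W ≤ M)
    (hM : ∀ g ∈ Γ, ∀ v ∈ M, g • v ∈ M) (hW : ∀ g ∈ Γ, ∀ v ∈ W, g • v ∈ W)
    (h1 : ∀ v ∉ M, ∀ m ∈ M, ∃ g ∈ Γ, g • v = v + m)
    (h2 : ∀ v ∈ M, v ∉ W → ∀ v' ∈ M, v' ∉ W → ∃ g ∈ Γ, g • v = v') {ψ ψ' : U}
    (hψ : ∃ m ∈ M, S.b ψ m ≠ 0) (hψ' : ∃ m ∈ M, S.b ψ' m ≠ 0)
    (hw : ∀ w ∈ W, S.b ψ w = S.b ψ' w) : ∃ g ∈ Γ, g • ψ = ψ' := by
  classical
  haveI := Fintype.ofFinite Γ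
  let Φ : U → V → ℤ := fun θ v => ∑ g : Γ, chi (S.b θ ((g : G) • v))
  have i1 : ∀ θ, ∀ h ∈ Γ, ∀ v, Φ θ (h • v) = Φ θ v := by
    intro θ h hh v
    exact Fintype.sum_equiv (Equiv.mulRight ⟨h, hh⟩) _ _ (fun g => by simp [mul_smul])
  have i2 : ∀ θ, (∃ m ∈ M, S.b θ m ≠ 0) → ∀ v,
      ∑ m ∈ (Set.toFinite (M : Set V)).toFinset, Φ θ (v + m) = 0 := by
    rintro θ ⟨m, hm, hθ⟩ v
    simp only [Φ]
    rw [Finset.sum_comm]
    apply Finset.sum_eq_zero
    intro g _
    simp only [smul_add, S.addr, chi_add]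
    rw [← Finset.mul_sum]
    simp only [S.invr]
    rw [S.sum_chi M _ ⟨(g : G)⁻¹ • m, hM _ (Γ.inv_mem g.2) m hm, by simpa using hθ⟩, mul_zero]
  have i3 : ∀ θ, (∃ m ∈ M, S.b θ m ≠ 0) → ∀ v ∉ M, Φ θ v = 0 := by
    intro θ hθ v hv
    have := i2 θ hθ v
    rw [Finset.sum_congr rfl (g := fun _ => Φ θ v) (fun m hm => by
      obtain ⟨g, hg, e⟩ := h1 v hv m (by simpa using hm)
      rw [← e, i1 θ g hg]), Finset.sum_const, nsmul_eq_mul, mul_eq_zero] at this
    refine this.resolve_left ?_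
    have : (0 : V) ∈ (Set.toFinite (M : Set V)).toFinset := by simp
    exact_mod_cast (Finset.card_pos.2 ⟨_, this⟩).ne'
  have i4 : ∀ v ∈ W, Φ ψ v = Φ ψ' v := fun v hv =>
    Finset.sum_congr rfl (fun g _ => by rw [hw _ (hW _ g.2 v hv)])
  have i5 : ∀ v, Φ ψ v = Φ ψ' v := by
    intro v
    by_cases hv : v ∈ M
    swap
    · rw [i3 ψ hψ v hv, i3 ψ' hψ' v hv]
    by_cases hv' : v ∈ W
    · exact i4 v hv'
    have j : ∑ m ∈ (Set.toFinite (M : Set V)).toFinset, (Φ ψ m - Φ ψ' m) = 0 := by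
      have a1 := i2 ψ hψ 0
      have a2 := i2 ψ' hψ' 0
      simp only [zero_add] at a1 a2
      rw [Finset.sum_sub_distrib, a1, a2, sub_zero]
    rw [Finset.sum_congr rfl (g := fun m => if m ∉ W then Φ ψ v - Φ ψ' v else 0) (fun m hm => by
      split_ifs with hmW
      · rw [i4 m hmW, sub_self]
      · obtain ⟨g, hg, e⟩ := h2 v hv hv' m (by simpa using hm) hmW
        rw [← e, i1 _ g hg, i1 _ g hg]), ← Finset.sum_filter, Finset.sum_const, nsmul_eq_mul,
      mul_eq_zero] at j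
    refine sub_eq_zero.1 (j.resolve_left ?_)
    have : v ∈ (Set.toFinite (M : Set V)).toFinset.filter (· ∉ W) := by simp [hv, hv']
    exact_mod_cast (Finset.card_pos.2 ⟨_, this⟩).ne'
  have i6 : ∀ θ, ∑ v ∈ (Set.toFinite ((⊤ : Submodule F V) : Set V)).toFinset,
      Φ θ v * chi (S.b ψ' v) =
        ∑ g : Γ, if (g : G)⁻¹ • θ = ψ' then (cd (⊤ : Submodule F V) : ℤ) else 0 := by
    intro θ
    simp only [Φ, Finset.sum_mul]
    rw [Finset.sum_comm]
    apply Finset.sum_congr rfl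
    intro g _
    simp only [S.invr, ← chi_add, ← S.addl]
    split_ifs with e
    · exact S.sum_chi' ⊤ _ (by rw [e, vv]; exact Submodule.zero_mem _)
    · obtain ⟨v, hv⟩ := S.flip.ex1 (mt add_eq0.1 e)
      exact S.sum_chi ⊤ _ ⟨v, trivial, F_ne0.2 hv⟩
  by_contra hn
  push Not at hn
  have a1 := i6 ψ
  have a2 := i6 ψ'
  simp only [i5] at a1
  rw [a1, Finset.sum_eq_zero (fun g _ => if_neg (hn _ (Γ.inv_mem g.2)))] at a2
  have a3 := Finset.single_le_sum (s := Finset.univ) (f := fun g : Γ =>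
    if (g : G)⁻¹ • ψ' = ψ' then (cd (⊤ : Submodule F V) : ℤ) else 0)
    (fun g _ => by split_ifs <;> positivity) (Finset.mem_univ 1)
  have := cd_pos (⊤ : Submodule F V)
  simp only [← a2] at a3
  simp at a3
  omega

include S in
/-- A 2-group fixing `x` fixes a coset of `x` in every larger invariant subspace. -/
theorem fix_pair [Finite G] [Finite V] {P : Subgroup G} (hP : IsPGroup 2 P) {x : V} (hx : x ≠ 0)
    (hPx : ∀ g ∈ P, g • x = x) {M : Submodule F V} (hxM : x ∈ M)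
    (hM : ∀ g ∈ P, ∀ v ∈ M, g • v ∈ M) (h4 : 2 < cd M) :
    ∃ y ∈ M, y ∉ sp1 x ∧ ∀ g ∈ P, g • y = y ∨ g • y = y + x := by
  obtain ⟨ψ, hψ⟩ := S.ex1 hx
  haveI : Fact (Nat.Prime 2) := ⟨Nat.prime_two⟩
  let f : V → V := fun v => if S.b ψ v = 0 then v else v + x
  have f1 : ∀ v, S.b ψ (f v) = 0 := fun v => by
    rcases F01 (S.b ψ v) with e | e <;> simp [f, e, hψ]
  have f2 : ∀ v, f v = v ∨ f v = v + x := fun v => by
    by_cases e : S.b ψ v = 0 <;> simp [f, e]
  have f3 : ∀ v, f (v + x) = f v := fun v => by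
    rcases F01 (S.b ψ v) with e | e <;> simp [f, e, hψ, wvv]
  let X : Set V := {v | v ∈ M ⊓ S.ker ψ ∧ v ∉ (⊥ : Submodule F V)}
  have hX : ∀ (g : P) (v : X), f ((g : G) • (v : V)) ∈ X := by
    rintro g ⟨v, ⟨h1, h2⟩, h3⟩
    have h5 := hM g g.2 v h1
    refine ⟨⟨?_, f1 _⟩, fun h => ?_⟩
    · rcases f2 ((g : G) • v) with e | e <;> rw [e]
      exacts [h5, M.add_mem h5 hxM]
    · rw [Submodule.mem_bot] at h h3
      rcases f2 ((g : G) • v) with e | e <;> rw [e] at h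
      · exact smul_ne0 _ h3 h
      · rw [add_eq0, ← hPx g g.2, smul_left_cancel_iff] at h
        rw [h] at h2
        simp [hψ] at h2
  letI : MulAction P X :=
    { smul := fun g v => ⟨f ((g : G) • (v : V)), hX g v⟩
      one_smul := fun v => Subtype.ext (by
        change f (((1 : P) : G) • (v : V)) = v
        have : S.b ψ v = 0 := v.2.1.2
        simp [f, this])
      mul_smul := fun g h v => Subtype.ext (by
        change f (((g * h : P) : G) • (v : V)) = f ((g : G) • f ((h : G) • (v : V)))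
        rcases f2 ((h : G) • (v : V)) with e | e <;> rw [e]
        · simp [mul_smul]
        · rw [smul_add, hPx g g.2, f3]; simp [mul_smul]) }
  have hn : ¬ 2 ∣ Nat.card X := by
    have h1 := S.cd_inf_ker hxM hψ
    have h2 : Nat.card X = _ := ncard_diff_sub (A := ⊥) (B := M ⊓ S.ker ψ) bot_le
    obtain ⟨k, hk⟩ := cd_pow (M ⊓ S.ker ψ)
    rw [h2, cd_bot, hk]
    rcases k with _ | k
    · omega
    · rw [pow_succ] at hk ⊢; omega
  obtain ⟨y, hy⟩ := hP.nonempty_fixed_point_of_prime_not_dvd_card X hn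
  refine ⟨y, y.2.1.1, ?_, fun g hg => ?_⟩
  · rintro (e | e)
    · exact y.2.2 e
    · have : S.b ψ y = 0 := y.2.1.2
      rw [e, hψ] at this
      exact one_ne_zero this
  · have : f (g • (y : V)) = y := congrArg Subtype.val (hy ⟨g, hg⟩)
    rcases f2 (g • (y : V)) with e | e <;> rw [e] at this
    · exact Or.inl this
    · right; rw [← this, wvv, this]

end Sys

end Cfsg.Agent.H32.CK
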