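import Cfsg.Agent.H32.CKb

/-!
First consequences of double transitivity on the non-zero vectors.
-/

set_option autoImplicit false

namespace Cfsg.Agent.H32.CK

section lin
variable {V : Type*} [AddCommGroup V] [Module F V] {x y z : V}

theorem ne0_of {A : Submodule F V} (h : y ∉ A) : y ≠ 0 := fun e => h (e ▸ A.zero_mem)

theorem sp1_symm (hx : x ≠ 0) (hy : y ∉ sp1 x) : x ∉ sp1 y := by
  rintro (e | e)
  exacts [hx e, hy (Or.inr e.symm)]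

theorem sp2_comm (x y : V) : sp2 x y = sp2 y x := by rw [sp2_eq, sp2_eq, sup_comm]

theorem sp1_le_sp2 (x y : V) : sp1 x ≤ sp2 x y := sp1_le (x_sp2 x y)

theorem add_sp1 (hy : y ∉ sp1 x) : x + y ∉ sp1 x := by
  rwa [add_comm, add_mem_iff' (x_sp1 x)]

theorem add_sp1' (hy : y ∉ sp1 x) : y + x ∉ sp1 x := by rwa [add_mem_iff' (x_sp1 x)]

theorem sp1_add (hx : x ≠ 0) (hy : y ∉ sp1 x) : x ∉ sp1 (x + y) := by
  rintro (e | e)
  · exact hx e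
  · exact ne0_of hy (by simpa using e)

theorem sp2_of_mem (hz : z ∈ sp2 x y) (hz' : z ∉ sp1 x) : sp2 x z = sp2 x y := by
  rcases hz with rfl | rfl | rfl | rfl
  · exact absurd (Or.inl rfl) hz'
  · exact absurd (Or.inr rfl) hz'
  · rfl
  · exact le_antisymm (sp2_le (x_sp2 _ _) (Or.inr (Or.inr (Or.inr rfl))))
      (sp2_le (x_sp2 _ _) (Or.inr (Or.inr (Or.inr (vvw x y).symm))))

theorem sp2_exch (hy : y ∉ sp1 x) (hz : z ∉ sp2 x y) : y ∉ sp2 x z := by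
  rintro (e | e | e | e)
  · exact hy (Or.inl e)
  · exact hy (Or.inr e)
  · exact hz (e ▸ y_sp2 _ _)
  · exact hz (Or.inr (Or.inr (Or.inr (by rw [e, vvw]))))

theorem nsp1_of (hz : z ∉ sp2 x y) : z ∉ sp1 x := fun h => hz (sp1_le_sp2 _ _ h)
theorem nsp1_of' (hz : z ∉ sp2 x y) : z ∉ sp1 y := nsp1_of (by rwa [sp2_comm])

theorem sp2_eq_of_mem [Finite V] {u v : V} (hu : u ≠ 0) (hv : v ∉ sp1 u) (h1 : u ∈ sp2 x y)
    (h2 : v ∈ sp2 x y) (hx : x ≠ 0) (hy : y ∉ sp1 x) : sp2 u v = sp2 x y :=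
  eq_of_cd (sp2_le h1 h2) (by rw [cd_sp2 hu hv, cd_sp2 hx hy])

theorem ncard_ne0 [Finite V] (A : Submodule F V) : {v | v ∈ A ∧ v ≠ 0}.ncard = cd A - 1 := by
  rw [← cd_bot (V := V), ← ncard_diff_sub (bot_le (a := A))]; simp

theorem exists_nsp1 [Finite V] {A : Submodule F V} (h : 2 < cd A) (x : V) :
    ∃ y ∈ A, y ∉ sp1 x := by
  apply exists_not_mem
  by_cases hx : x = 0
  · have : sp1 x = ⊥ := by subst hx; ext v; simp [mem_sp1]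
    rw [this, cd_bot]; omega
  · rw [cd_sp1 hx]; exact h

end lin

variable {G V U : Type*} [Group G] [AddCommGroup V] [Module F V] [AddCommGroup U]
    [Module F U] [DistribMulAction G V] [DistribMulAction G U]

/-- Joint stabiliser of two points. -/
def st2 (G : Type*) [Group G] {A B : Type*} [MulAction G A] [MulAction G B] (a : A) (c : B) :
    Subgroup G where
  carrier := {g | g • a = a ∧ g • c = c}
  one_mem' := ⟨one_smul _ _, one_smul _ _⟩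
  mul_mem' := fun {g h} x y => ⟨by rw [mul_smul, y.1, x.1], by rw [mul_smul, y.2, x.2]⟩
  inv_mem' := fun {g} x => ⟨inv_fix x.1, inv_fix x.2⟩

theorem mem_st2 {A B : Type*} [MulAction G A] [MulAction G B] {a : A} {c : B} {g : G} :
    g ∈ st2 G a c ↔ g • a = a ∧ g • c = c := Iff.rfl

/-- Double transitivity on non-zero vectors. -/
def TwoT (G V : Type*) [Group G] [AddCommGroup V] [Module F V] [DistribMulAction G V] : Prop :=
  ∀ x y x' y' : V, x ≠ 0 → y ∉ sp1 x → x' ≠ 0 → y' ∉ sp1 x' → ∃ g : G, g • x = x' ∧ g • y = y'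

namespace Sys
variable (S : Sys G V U) [Finite G] [Finite V] [Finite U]

/-- The standing hypothesis. -/
structure Hyp (S : Sys G V U) : Prop where
  two : TwoT G V
  big : 4 ≤ Nat.card V

variable {S}

omit [Finite G] [Finite U] in
theorem Hyp.tr1 (h : S.Hyp) {x x' : V} (hx : x ≠ 0) (hx' : x' ≠ 0) : ∃ g : G, g • x = x' := by
  have := h.big
  obtain ⟨y, -, hy⟩ := exists_nsp1 (A := ⊤) (by rw [cd_top]; omega) x
  obtain ⟨y', -, hy'⟩ := exists_nsp1 (A := ⊤) (by rw [cd_top]; omega) x'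
  obtain ⟨g, e, -⟩ := h.two x y x' y' hx hy hx' hy'
  exact ⟨g, e⟩

theorem Hyp.f2 (h : S.Hyp) {x : V} (hx : x ≠ 0) {φ ψ : U} (hφ : φ ≠ 0) (hψ : ψ ≠ 0)
    (e : S.b φ x = S.b ψ x) : ∃ g : G, g • x = x ∧ g • φ = ψ := by
  obtain ⟨a, ha⟩ := S.flip.ex1 hφ
  obtain ⟨c, hc⟩ := S.flip.ex1 hψ
  refine S.fi (MulAction.stabilizer G x) ⊤ (sp1 x) le_top (fun _ _ _ _ => trivial) ?_
    (fun v hv => absurd trivial hv) (fun v _ hv v' _ hv' => h.two x v x v' hx hv hx hv')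
    ⟨a, trivial, F_ne0.2 ha⟩ ⟨c, trivial, F_ne0.2 hc⟩ ?_
  · intro g hg v hv
    rw [← show g • x = x from hg, smul_mem_sp1]; exact hv
  · rintro w (rfl | rfl) <;> simp [e]

theorem Hyp.pair (h : S.Hyp) {x x' : V} (hx : x ≠ 0) (hx' : x' ≠ 0) {φ φ' : U} (hφ : φ ≠ 0)
    (hφ' : φ' ≠ 0) (e : S.b φ x = S.b φ' x') : ∃ g : G, g • x = x' ∧ g • φ = φ' := by
  obtain ⟨g, rfl⟩ := h.tr1 hx hx'
  obtain ⟨k, e1, e2⟩ := h.f2 hx' (smul_ne0 g hφ) hφ' (by simpa using e)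
  exact ⟨k * g, by rw [mul_smul, e1], by rw [mul_smul, e2]⟩

omit [Finite G] [Finite V] [Finite U] in
theorem ne0_of_one {φ : U} {v : V} (h : S.b φ v = 1) : v ≠ 0 := by
  rintro rfl; simp at h

omit [Finite G] [Finite V] [Finite U] in
theorem ne0_of_one' {φ : U} {v : V} (h : S.b φ v = 1) : φ ≠ 0 := by
  rintro rfl; simp at h

theorem Hyp.flip (h : S.Hyp) : S.flip.Hyp := by
  refine ⟨fun φ ψ φ' ψ' hφ hψ hφ' hψ' => ?_, by rw [S.card_eq]; exact h.big⟩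
  obtain ⟨a, ha⟩ := S.flip.ex1 hφ
  obtain ⟨c, hc⟩ := S.flip.ex1 hφ'
  obtain ⟨g, -, rfl⟩ := h.pair (ne0_of_one ha) (ne0_of_one hc) hφ hφ' (ha.trans hc.symm)
  obtain ⟨m, hm, e⟩ := S.flip.sep (smul_mem_sp1.not.2 hψ : g • ψ ∉ sp1 (g • φ))
  obtain ⟨m', hm', e'⟩ := S.flip.sep hψ'
  rw [S.flip.mem_ann_sp1] at hm hm'
  obtain ⟨k, e1, e2⟩ := S.fi (MulAction.stabilizer G (g • φ)) (S.ker (g • φ)) ⊥ bot_le
    (fun k hk v hv => by rw [mem_ker, ← show k • g • φ = g • φ from hk, S.inv]; exact hv)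
    (fun k _ v hv => by rw [Submodule.mem_bot] at hv ⊢; simp [hv])
    (fun v hv m hm => by
      have h1 : S.b (g • φ) v = 1 := F_ne0.1 hv
      have h2 : S.b (g • φ) (v + m) = 1 := by rw [S.addr, h1, show S.b (g • φ) m = 0 from hm]; simp
      obtain ⟨k, e1, e2⟩ := h.pair (ne0_of_one h1) (ne0_of_one h2) hφ' hφ' (h1.trans h2.symm)
      exact ⟨k, e2, e1⟩)
    (fun v hv hv0 v' hv' hv0' => by
      obtain ⟨k, e1, e2⟩ := h.pair hv0 hv0' hφ' hφ' (hv.trans hv'.symm)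
      exact ⟨k, e2, e1⟩)
    ⟨m, hm, F_ne0.2 e⟩ ⟨m', hm', F_ne0.2 e'⟩ (fun w hw => by rw [Submodule.mem_bot] at hw; simp [hw])
  exact ⟨k * g, by rw [mul_smul, show k • g • φ = g • φ from e1], by rw [mul_smul, e2]⟩

theorem Hyp.exists_P (h : S.Hyp) {φ : U} (hφ : φ ≠ 0) :
    ∃ (P : Subgroup G) (x : V), IsPGroup 2 P ∧ (∀ g ∈ P, g • φ = φ) ∧ (∀ g ∈ P, g • x = x) ∧
      x ≠ 0 ∧ S.b φ x = 0 ∧ ∀ v w, S.b φ v = 1 → S.b φ w = 1 → ∃ g ∈ P, g • v = w := by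
  obtain ⟨P, hP⟩ := exists_syl (MulAction.stabilizer G φ)
  obtain ⟨a, ha⟩ := S.flip.ex1 hφ
  obtain ⟨k, hk⟩ := S.ncard_one (A := ⊤) (a := a) trivial ha
  have i : ∀ g ∈ MulAction.stabilizer G φ, ∀ v, S.b φ (g • v) = S.b φ v := fun g hg v => by
    conv_lhs => rw [← show g • φ = φ from hg, S.inv]
  have t := hP.tr hk (fun g hg v hv => ⟨trivial, by rw [i g hg]; exact hv.2⟩)
    (fun v hv w hw => by
      obtain ⟨k, e1, e2⟩ := h.pair (ne0_of_one hv.2) (ne0_of_one hw.2) hφ hφ (hv.2.trans hw.2.symm)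
      exact ⟨k, e2, e1⟩)
  have hc := S.cd_ker hφ
  have hb := h.big
  obtain ⟨j, hj⟩ := cd_pow (S.ker φ)
  obtain ⟨x, hx, hx'⟩ := fix_odd (X := {v | v ∈ S.ker φ ∧ v ≠ 0}) hP.2.1 (by
      rw [ncard_ne0, hj]
      rcases j with _ | j
      · omega
      · exact Nat.Even.sub_odd (Nat.one_le_two_pow) (by simp [Nat.even_pow]) odd_one)
    (fun g hg v hv => ⟨by rw [mem_ker, i g (hP.1 hg)]; exact hv.1, smul_ne0 g hv.2⟩)
  exact ⟨P, x, hP.2.1, fun g hg => hP.1 hg, hx', hx.2, hx.1,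
    fun v w hv hw => t v ⟨trivial, hv⟩ w ⟨trivial, hw⟩⟩

theorem Hyp.f3 (h : S.Hyp) {x : V} (hx : x ≠ 0) {φ : U} (e : S.b φ x = 0) {v w : V}
    (hv : S.b φ v = 1) (hw : S.b φ w = 1) : ∃ g ∈ st2 G x φ, g • v = w := by
  have hφ := ne0_of_one' hv
  obtain ⟨P, y, -, h1, h2, hy, ey, t⟩ := h.exists_P hφ
  obtain ⟨k, rfl, e2⟩ := h.pair hy hx hφ hφ (ey.trans e.symm)
  obtain ⟨g, hg, e3⟩ := t (k⁻¹ • v) (k⁻¹ • w) (by rw [← S.invl, e2, hv]) (by rw [← S.invl, e2, hw])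
  refine ⟨k * g * k⁻¹, ⟨?_, ?_⟩, by simp [mul_smul, e3]⟩
  · simp [mul_smul, h2 g hg]
  · simp [mul_smul, inv_fix e2, h1 g hg, e2]

theorem Hyp.f4 (h : S.Hyp) {x v : V} (hx : x ≠ 0) {φ ψ : U} (e1 : S.b φ x = 0) (e2 : S.b φ v = 1)
    (e3 : S.b ψ x = 0) (e4 : S.b ψ v = 1) : ∃ g ∈ st2 G x v, g • φ = ψ := by
  obtain ⟨g, a1, rfl⟩ := h.f2 hx (ne0_of_one' e2) (ne0_of_one' e4) (e1.trans e3.symm)
  obtain ⟨k, ⟨a2, a3⟩, a4⟩ := h.f3 hx e3 (v := g • v) (by simpa using e2) e4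
  exact ⟨k * g, ⟨by rw [mul_smul, a1, a2], by rw [mul_smul, a4]⟩, by rw [mul_smul, a3]⟩

theorem Hyp.f5 (h : S.Hyp) {x y z l : V} (hx : x ≠ 0) (hy : y ∉ sp1 x) (hz : z ∉ sp2 x y)
    (hl : l ∈ sp2 x y) : ∃ g ∈ st2 G x y, g • z = z + l := by
  obtain ⟨m, hm, e⟩ := S.sep hz
  have i : ∀ g ∈ st2 G x y, ∀ φ ∈ S.ann (sp2 x y), g • φ ∈ S.ann (sp2 x y) := by
    intro g hg φ hφ
    rw [mem_ann_sp2] at hφ ⊢
    rw [← hg.1, ← hg.2]; simpa using hφ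
  refine S.flip.fi (st2 G x y) (S.ann (sp2 x y)) (S.ann (sp2 x y)) le_rfl i i ?_
    (fun _ a b => absurd a b) ⟨m, hm, F_ne0.2 e⟩ ⟨m, hm, by simp [e, hm l hl]⟩
    (fun w hw => by simp [hw l hl])
  intro φ hφ μ hμ
  rw [mem_ann_sp2] at hφ hμ
  rcases F01 (S.b φ x) with a1 | a1 <;> rcases F01 (S.b φ y) with a2 | a2
  · exact absurd ⟨a1, a2⟩ hφ
  · exact h.f4 hx a1 a2 (by simp [*]) (by simp [*])
  · obtain ⟨g, hg, e⟩ := h.f4 (ψ := φ + μ) (ne0_of hy) a2 a1 (by simp [*]) (by simp [*])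
    exact ⟨g, hg.symm, e⟩
  · obtain ⟨g, hg, e⟩ := h.f4 (ψ := φ + μ) (φ := φ) (v := x) (ne0_of (add_sp1 hy)) (by simp [*]) a1
      (by simp [*]) (by simp [*])
    refine ⟨g, ⟨hg.2, ?_⟩, e⟩
    have := hg.1
    rw [smul_add, hg.2] at this
    exact add_left_cancel this

theorem Hyp.f6 (h : S.Hyp) {x y z : V} (hx : x ≠ 0) (hy : y ∉ sp1 x) (hz : z ∉ sp2 x y) :
    ∃ g : G, g • x = x ∧ g • y = z ∧ g • z = y := by
  have h1 : y + z ∉ sp2 x y := by rwa [add_comm, add_mem_iff' (y_sp2 x y)]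
  obtain ⟨g, hg, e⟩ := h.f5 hx (nsp1_of h1) (sp2_exch hy h1) (y_sp2 _ _)
  rw [vvw] at e
  refine ⟨g, hg.1, e, ?_⟩
  have := hg.2
  rw [smul_add, e, add_comm y z] at this
  exact add_left_cancel this

end Sys

end Cfsg.Agent.H32.CK
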