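import Cfsg.Agent.H32.CKc

/-!
The subspaces `N` and `T` attached to lines and flags.
-/

set_option autoImplicit false

namespace Cfsg.Agent.H32.CK

variable {G V U : Type*} [Group G] [AddCommGroup V] [Module F V] [AddCommGroup U]
    [Module F U] [DistribMulAction G V] [DistribMulAction G U]

/-- Pointwise stabiliser of a subspace. -/
def fixer (G : Type*) [Group G] [DistribMulAction G V] (L : Submodule F V) : Subgroup G where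
  carrier := {g | ∀ v ∈ L, g • v = v}
  one_mem' := fun _ _ => one_smul _ _
  mul_mem' := fun {g h} x y v hv => by rw [mul_smul, y v hv, x v hv]
  inv_mem' := fun {g} x v hv => inv_fix (x v hv)

theorem mem_fixer_sp2 {x y : V} {g : G} : g ∈ fixer G (sp2 x y) ↔ g • x = x ∧ g • y = y := by
  refine ⟨fun h => ⟨h x (x_sp2 _ _), h y (y_sp2 _ _)⟩, fun h v hv => ?_⟩
  rcases hv with rfl | rfl | rfl | rfl <;> simp [h.1, h.2]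

namespace Sys
variable (S : Sys G V U)

/-- Functionals whose affine hyperplane in `M` lies in one orbit of `Γ`. -/
def Big (Γ : Subgroup G) (M : Submodule F V) : Submodule F U :=
  mkSub (fun φ => ∀ v ∈ M, ∀ w ∈ M, S.b φ v = 1 → S.b φ w = 1 → ∃ g ∈ Γ, g • v = w)
    (fun v _ w _ h => by simp at h) (by
      have key : ∀ φ ψ, (∀ v ∈ M, ∀ w ∈ M, S.b φ v = 1 → S.b φ w = 1 → ∃ g ∈ Γ, g • v = w) →
          (∀ v ∈ M, ∀ w ∈ M, S.b ψ v = 1 → S.b ψ w = 1 → ∃ g ∈ Γ, g • v = w) →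
          ∀ v ∈ M, ∀ w ∈ M, S.b φ v = 1 → S.b ψ w = 1 → ∃ g ∈ Γ, g • v = w := by
        intro φ ψ h1 h2 v hv w hw e1 e2
        obtain ⟨u, hu, e3, e4⟩ := S.flip.two_one (M := M) ⟨v, hv, e1⟩ ⟨w, hw, e2⟩
        obtain ⟨g, hg, rfl⟩ := h1 v hv u hu e1 e3
        obtain ⟨k, hk, rfl⟩ := h2 _ hu w hw e4 e2
        exact ⟨k * g, Γ.mul_mem hk hg, mul_smul _ _ _⟩
      intro φ ψ h1 h2 v hv w hw e1 e2
      rw [S.addl] at e1 e2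
      rcases F01 (S.b φ v) with a | a <;> rcases F01 (S.b φ w) with c | c
      · exact h2 v hv w hw (by simpa [a] using e1) (by simpa [c] using e2)
      · exact key ψ φ h2 h1 v hv w hw (by simpa [a] using e1) c
      · exact key φ ψ h1 h2 v hv w hw a (by simpa [c] using e2)
      · exact h1 v hv w hw a c)

theorem mem_Big {Γ : Subgroup G} {M : Submodule F V} {φ : U} : φ ∈ S.Big Γ M ↔
    ∀ v ∈ M, ∀ w ∈ M, S.b φ v = 1 → S.b φ w = 1 → ∃ g ∈ Γ, g • v = w := Iff.rfl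

theorem Big_smul {Γ Γ' : Subgroup G} {M M' : Submodule F V} (k : G)
    (h1 : ∀ g ∈ Γ, k * g * k⁻¹ ∈ Γ') (h2 : ∀ v ∈ M', k⁻¹ • v ∈ M) {φ : U} (h : φ ∈ S.Big Γ M) :
    k • φ ∈ S.Big Γ' M' := by
  intro v hv w hw e1 e2
  rw [S.invl] at e1 e2
  obtain ⟨g, hg, e⟩ := h _ (h2 v hv) _ (h2 w hw) e1 e2
  exact ⟨_, h1 g hg, by simp [mul_smul, e]⟩

theorem Big_tr [Finite V] [Finite U] {Γ : Subgroup G} {M : Submodule F V} {A : Submodule F U}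
    (hA : A ≤ S.Big Γ M) {v w : V} (hv : v ∈ M) (hw : w ∈ M) (hv' : v ∉ S.flip.ann A)
    (hw' : w ∉ S.flip.ann A) : ∃ g ∈ Γ, g • v = w := by
  simp only [mem_ann, flip_b, not_forall] at hv' hw'
  obtain ⟨φ, h1, e1⟩ := hv'
  obtain ⟨ψ, h2, e2⟩ := hw'
  obtain ⟨θ, h3, e3, e4⟩ := S.two_one ⟨φ, h1, F_ne0.1 e1⟩ ⟨ψ, h2, F_ne0.1 e2⟩
  exact hA h3 v hv w hw e3 e4

/-- The subspace attached to a line. -/
def N (L : Submodule F V) : Submodule F U := S.Big (fixer G L) ⊤ ⊓ S.ann L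

/-- The subspace attached to a flag. -/
def T (x : V) (φ : U) : Submodule F V := S.flip.Big (st2 G x φ) (S.flip.ker x) ⊓ S.ker φ

variable {S}

theorem N_x {x y : V} {φ : U} (h : φ ∈ S.N (sp2 x y)) : S.b φ x = 0 := h.2 x (x_sp2 _ _)
theorem N_y {x y : V} {φ : U} (h : φ ∈ S.N (sp2 x y)) : S.b φ y = 0 := h.2 y (y_sp2 _ _)
theorem T_ker {x y : V} {φ : U} (h : y ∈ S.T x φ) : S.b φ y = 0 := h.2

theorem x_T {x : V} {φ : U} (h : S.b φ x = 0) : x ∈ S.T x φ :=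
  ⟨fun ψ h1 _ _ h2 => by simp_all, h⟩

theorem N_smul' (k : G) {x y : V} {φ : U} (h : φ ∈ S.N (sp2 x y)) :
    k • φ ∈ S.N (sp2 (k • x) (k • y)) := by
  refine ⟨S.Big_smul k (M := ⊤) (fun g hg => ?_) (fun _ _ => trivial) h.1, ?_⟩
  · rw [mem_fixer_sp2] at hg ⊢
    simp [mul_smul, hg.1, hg.2]
  · exact S.mem_ann_sp2.2 (by simp [N_x h, N_y h])

theorem N_smul (k : G) {x y : V} {φ : U} :
    k • φ ∈ S.N (sp2 (k • x) (k • y)) ↔ φ ∈ S.N (sp2 x y) :=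
  ⟨fun h => by simpa using N_smul' k⁻¹ h, N_smul' k⟩

theorem T_smul' (k : G) {x y : V} {φ : U} (h : y ∈ S.T x φ) : k • y ∈ S.T (k • x) (k • φ) := by
  refine ⟨S.flip.Big_smul k (fun g hg => ?_) (fun ψ hψ => ?_) h.1, by simpa using T_ker h⟩
  · exact ⟨by simp [mul_smul, hg.1], by simp [mul_smul, hg.2]⟩
  · rw [mem_ker, flip_b, ← S.invr]; exact hψ

theorem T_smul (k : G) {x y : V} {φ : U} : k • y ∈ S.T (k • x) (k • φ) ↔ y ∈ S.T x φ :=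
  ⟨fun h => by simpa using T_smul' k⁻¹ h, T_smul' k⟩

theorem ann_smul (k : G) {A A' : Submodule F V} (h : ∀ v, k • v ∈ A' ↔ v ∈ A) {φ : U} :
    k • φ ∈ S.ann A' ↔ φ ∈ S.ann A := by
  refine ⟨fun h1 v hv => by simpa using h1 _ ((h v).2 hv), fun h1 v hv => ?_⟩
  rw [S.invl]
  exact h1 _ ((h _).1 (by simpa using hv))

theorem annT_smul (k : G) {x : V} {φ θ : U} :
    k • θ ∈ S.ann (S.T (k • x) (k • φ)) ↔ θ ∈ S.ann (S.T x φ) := ann_smul k fun _ => T_smul k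

theorem annN_smul (k : G) {x y z : V} :
    k • z ∈ S.flip.ann (S.N (sp2 (k • x) (k • y))) ↔ z ∈ S.flip.ann (S.N (sp2 x y)) :=
  ann_smul k fun _ => N_smul k

variable [Finite G] [Finite V] [Finite U]

theorem N_tr {x y : V} {φ ψ : U} (hφ : φ ≠ 0) (hψ : ψ ≠ 0) (e : φ + ψ ∈ S.N (sp2 x y)) :
    ∃ g : G, g • x = x ∧ g • y = y ∧ g • φ = ψ := by
  obtain ⟨a, ha⟩ := S.flip.ex1 hφ
  obtain ⟨c, hc⟩ := S.flip.ex1 hψ
  obtain ⟨g, hg, e⟩ := S.fi (fixer G (sp2 x y)) ⊤ (S.flip.ann (S.N (sp2 x y))) le_top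
    (fun _ _ _ _ => trivial) (fun g hg v hv => by
      rw [mem_fixer_sp2] at hg
      rw [← hg.1, ← hg.2, annN_smul]; exact hv)
    (fun v hv => absurd trivial hv) (fun v h1 h2 w h3 h4 => S.Big_tr inf_le_left h1 h3 h2 h4)
    ⟨a, trivial, F_ne0.2 ha⟩ ⟨c, trivial, F_ne0.2 hc⟩
    (fun w hw => F_add_eq0.1 (by simpa using hw _ e))
  rw [mem_fixer_sp2] at hg
  exact ⟨g, hg.1, hg.2, e⟩

theorem T_trU {x : V} {φ ψ θ : U} (h1 : S.b ψ x = 0) (h2 : S.b θ x = 0)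
    (h3 : ψ ∉ S.ann (S.T x φ)) (h4 : θ ∉ S.ann (S.T x φ)) : ∃ g ∈ st2 G x φ, g • ψ = θ :=
  S.flip.Big_tr (M := S.flip.ker x) inf_le_left h1 h2 h3 h4

theorem Hyp.T_tr (h : S.Hyp) {x : V} {φ : U} (hφ : φ ≠ 0) (e : S.b φ x = 0) {v w : V}
    (hv : v ∉ sp1 x) (hw : w ∉ sp1 x) (hvw : v + w ∈ S.T x φ) : ∃ g ∈ st2 G x φ, g • v = w := by
  obtain ⟨m, hm, em⟩ := S.sep hv
  obtain ⟨m', hm', em'⟩ := S.sep hw
  rw [mem_ann_sp1] at hm hm'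
  refine S.flip.fi (st2 G x φ) (S.flip.ker x) (S.ann (S.T x φ)) (fun ψ hψ => hψ x (x_T e))
    (fun g hg ψ hψ => by rw [mem_ker, flip_b, ← hg.1, S.inv]; exact hψ)
    (fun g hg ψ hψ => by rw [← hg.1, ← hg.2, annT_smul]; exact hψ) (fun ψ hψ μ hμ => ?_)
    (fun ψ h1 h2 θ h3 h4 => T_trU h1 h3 h2 h4) ⟨m, hm, F_ne0.2 em⟩ ⟨m', hm', F_ne0.2 em'⟩
    (fun ψ hψ => F_add_eq0.1 (by simpa using hψ _ hvw))
  have a : S.b ψ x = 1 := F_ne0.1 hψ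
  obtain ⟨g, hg, e'⟩ := h.flip.f3 hφ e (v := ψ) (w := ψ + μ) a
    (by rw [flip_b, S.addl, a, show S.b μ x = 0 from hμ, add_zero])
  exact ⟨g, hg.symm, e'⟩

theorem Hyp.exists_N (h : S.Hyp) (h8 : 8 ≤ Nat.card V) :
    ∃ (x y : V) (φ : U), x ≠ 0 ∧ y ∉ sp1 x ∧ φ ≠ 0 ∧ φ ∈ S.N (sp2 x y) := by
  obtain ⟨φ, -, hφ⟩ := exists_nsp1 (A := (⊤ : Submodule F U))
    (by rw [cd_top, S.card_eq]; omega) 0
  have hφ := ne0_of hφ
  obtain ⟨P, x, hP, h1, h2, hx, ex, t⟩ := h.exists_P hφ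
  have := S.cd_ker hφ
  obtain ⟨y, hy, hy', h3⟩ := S.fix_pair hP hx h2 (M := S.ker φ) ex
    (fun g hg v hv => by rw [mem_ker, ← h1 g hg, S.inv]; exact hv) (by omega)
  refine ⟨x, y, φ, hx, hy', hφ, fun v _ w _ e1 e2 => ?_, S.mem_ann_sp2.2 ⟨ex, hy⟩⟩
  obtain ⟨g, hg, e⟩ := t v w e1 e2
  rcases h3 g hg with a | a
  · exact ⟨g, mem_fixer_sp2.2 ⟨h2 g hg, a⟩, e⟩
  have hw : w ∉ sp2 x (y + x) := fun c => by
    have := (S.mem_ann_sp2 (x := x) (y := y + x)).2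
      ⟨ex, by rw [S.addr, ex, show S.b φ y = 0 from hy, add_zero]⟩ w c
    rw [e2] at this; exact one_ne_zero this
  obtain ⟨k, hk, e'⟩ := h.f5 hx (nsp1_of hw) (sp2_exch (add_sp1' hy') hw) (x_sp2 _ _)
  exact ⟨k * g, mem_fixer_sp2.2 ⟨by rw [mul_smul, h2 g hg, hk.1], by rw [mul_smul, a, e', wvv]⟩,
    by rw [mul_smul, e, hk.2]⟩

theorem Hyp.N_T (h : S.Hyp) {x y : V} (hx : x ≠ 0) (hy : y ∉ sp1 x) {φ : U} (hφ : φ ≠ 0)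
    (hN : φ ∈ S.N (sp2 x y)) : y ∈ S.T x φ := by
  obtain ⟨P, hP⟩ := exists_syl (st2 G x y)
  obtain ⟨m, hm, em⟩ := S.sep hy
  rw [mem_ann_sp1] at hm
  obtain ⟨k, hk⟩ := S.flip.ncard_one (A := S.flip.ker x) (φ := y) hm em
  have t := hP.tr hk (fun g hg ψ hψ => ⟨by rw [mem_ker, flip_b, ← hg.1, S.inv]; exact hψ.1,
      by rw [flip_b, ← hg.2, S.inv]; exact hψ.2⟩)
    (fun ψ h1 θ h2 => h.f4 hx h1.1 h1.2 h2.1 h2.2)
  obtain ⟨j, hj⟩ := cd_pow (S.N (sp2 x y))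
  have h2 := cd_mono (sp1_le hN)
  rw [cd_sp1 hφ] at h2
  obtain ⟨ψ, hψ, hψ'⟩ := fix_odd (X := {v | v ∈ S.N (sp2 x y) ∧ v ≠ 0}) hP.2.1 (by
      rw [ncard_ne0, hj]
      rcases j with _ | j
      · omega
      · exact Nat.Even.sub_odd (Nat.one_le_two_pow) (by simp [Nat.even_pow]) odd_one)
    (fun g hg v hv => ⟨by rw [← (hP.1 hg).1, ← (hP.1 hg).2, N_smul]; exact hv.1,
      smul_ne0 g hv.2⟩)
  obtain ⟨g, e1, e2, e3⟩ := N_tr hψ.2 hφ (Submodule.add_mem _ hψ.1 hN)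
  rw [← e1, ← e2, ← e3, T_smul]
  refine ⟨fun θ h1 θ' h2 a1 a2 => ?_, N_y hψ.1⟩
  obtain ⟨g, hg, e⟩ := t θ ⟨h1, a1⟩ θ' ⟨h2, a2⟩
  exact ⟨g, ⟨(hP.1 hg).1, hψ' g hg⟩, e⟩

theorem Hyp.T_N (h : S.Hyp) (h8 : 8 ≤ Nat.card V) {x y : V} (hx : x ≠ 0) (hy : y ∉ sp1 x) {φ : U}
    (hφ : φ ≠ 0) (e : S.b φ x = 0) (hT : y ∈ S.T x φ) : φ ∈ S.N (sp2 x y) := by
  obtain ⟨x', y', φ', h1, h2, h3, h4⟩ := h.exists_N h8
  obtain ⟨g, rfl, rfl⟩ := h.pair h1 hx h3 hφ ((N_x h4).trans e.symm)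
  have h5 := N_smul' g h4
  have h6 : g • y' ∉ sp1 (g • x') := smul_mem_sp1.not.2 h2
  obtain ⟨k, hk, rfl⟩ := h.T_tr hφ e h6 hy (Submodule.add_mem _ (h.N_T hx h6 hφ h5) hT)
  have := N_smul' k h5
  rwa [hk.1, hk.2] at this

/-- The dimensions of `N` and `T`. -/
structure Par (S : Sys G V U) (c : ℕ) : Prop where
  pos : 1 ≤ c
  cN : ∀ {x y : V}, x ≠ 0 → y ∉ sp1 x → cd (S.N (sp2 x y)) = 2 ^ c
  cT : ∀ {x : V} {φ : U}, x ≠ 0 → φ ≠ 0 → S.b φ x = 0 → cd (S.T x φ) = 2 * 2 ^ c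

theorem Hyp.par (h : S.Hyp) (h8 : 8 ≤ Nat.card V) : ∃ c, S.Par c := by
  obtain ⟨x', y', φ', h1, h2, h3, h4⟩ := h.exists_N h8
  obtain ⟨c, hc⟩ := cd_pow (S.N (sp2 x' y'))
  have cN : ∀ {x y : V}, x ≠ 0 → y ∉ sp1 x → cd (S.N (sp2 x y)) = 2 ^ c := by
    intro x y hx hy
    obtain ⟨g, rfl, rfl⟩ := h.two x' y' x y h1 h2 hx hy
    exact (ncard_smul g fun _ => N_smul g).trans hc
  have cT : ∀ {x : V} {φ : U}, x ≠ 0 → φ ≠ 0 → S.b φ x = 0 → cd (S.T x φ) = cd (S.T x' φ') := by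
    intro x φ hx hφ e
    obtain ⟨g, rfl, rfl⟩ := h.pair h1 hx h3 hφ ((N_x h4).trans e.symm)
    exact ncard_smul g fun _ => T_smul g
  have h5 := cd_mono (sp1_le h4)
  rw [cd_sp1 h3, hc] at h5
  have h6 := cd_mono (sp1_le (x_T (N_x h4)))
  rw [cd_sp1 h1] at h6
  have d := dc_eq {y | y ∈ (⊤ : Submodule F V) ∧ y ∉ sp1 x'} {φ | φ ∈ S.flip.ker x' ∧ φ ≠ 0}
    (fun y φ => φ ∈ S.N (sp2 x' y)) (2 ^ c - 1) (cd (S.T x' φ') - 2) (fun y hy => by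
      rw [← cN h1 hy.2, ← ncard_ne0]
      congr 1; ext φ
      exact ⟨fun a => ⟨a.2, a.1.2⟩, fun a => ⟨⟨N_x (S := S) a.1, a.2⟩, a.1⟩⟩) (fun φ hφ => by
      have := ncard_diff_sub (sp1_le (x_T (S := S) hφ.1))
      rw [cd_sp1 h1] at this
      rw [← cT h1 hφ.2 hφ.1, ← this]
      congr 1; ext y
      exact ⟨fun a => ⟨h.N_T h1 a.1.2 hφ.2 a.2, a.1.2⟩,
        fun a => ⟨⟨trivial, a.2⟩, h.T_N h8 h1 a.2 hφ.2 hφ.1 a.1⟩⟩)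
  rw [ncard_diff_sub le_top, ncard_ne0, cd_top, cd_sp1 h1] at d
  have h7 := S.flip.cd_ker h1
  rw [S.card_eq] at h7
  rw [← h7, show 2 * cd (S.flip.ker x') - 2 = (cd (S.flip.ker x') - 1) * 2 by omega, mul_assoc]
    at d
  have := Nat.eq_of_mul_eq_mul_left (by omega) d
  refine ⟨c, ?_, cN, fun hx hφ e => by rw [cT hx hφ e]; omega⟩
  rcases c with _ | c <;> omega

theorem Hyp.swapJ (h : S.Hyp) {φ : U} (hφ : φ ≠ 0) {x z : V} (hx : x ≠ 0) (hz : z ∉ sp1 x)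
    (e1 : S.b φ x = 0) (e2 : S.b φ z = 0) : ∃ g : G, g • φ = φ ∧ g • x = z ∧ g • z = x := by
  have e3 : S.b φ (x + z) = 0 := by simp [e1, e2]
  obtain ⟨g, hg, e⟩ := h.T_tr hφ e3 (sp1_add hx hz)
    (by rw [add_comm]; exact sp1_add (ne0_of hz) (sp1_symm hx hz)) (x_T e3)
  refine ⟨g, hg.2, e, ?_⟩
  have := hg.1
  rw [smul_add, e, add_comm x z] at this
  exact add_left_cancel this

theorem Hyp.ksym (h : S.Hyp) {x : V} (hx : x ≠ 0) {φ θ : U} (hφ : φ ≠ 0) (hθ : θ ≠ 0)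
    (e1 : S.b φ x = 0) (h1 : θ ∈ S.ann (S.T x φ)) : φ ∈ S.ann (S.T x θ) := by
  by_cases e : θ = φ
  · subst e; exact h1
  obtain ⟨g, a1, a2, a3⟩ := h.flip.swapJ hx hφ (z := θ) (by rintro (a | a) <;> contradiction) e1
    (h1 x (x_T e1))
  rw [← annT_smul g, a1, a2, a3] at h1
  exact h1

theorem Hyp.bsym (h : S.Hyp) {x y z : V} (hx : x ≠ 0) (hy : y ∉ sp1 x) (hz : z ∉ sp2 x y)
    (h1 : z ∈ S.flip.ann (S.N (sp2 x y))) : y ∈ S.flip.ann (S.N (sp2 x z)) := by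
  obtain ⟨g, a1, a2, a3⟩ := h.f6 hx hy hz
  rw [← annN_smul g, a1, a2, a3] at h1
  exact h1

theorem Hyp.tsum (h : S.Hyp) {x : V} (hx : x ≠ 0) {φ ψ : U} (hφ : φ ≠ 0) (hψ : ψ ∉ sp1 φ)
    (e1 : S.b φ x = 0) (e2 : S.b ψ x = 0) : S.T x (φ + ψ) ≤ S.T x φ ⊔ S.T x ψ := by
  intro v hv
  by_contra hn
  obtain ⟨θ, h1, e⟩ := S.sep hn
  rw [ann_sup] at h1
  have h0 := ne0_of_one' e
  have h2 := h.ksym hx h0 (ne0_of (add_sp1 hψ)) (h1.1 x (x_T e1))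
    (Submodule.add_mem _ (h.ksym hx hφ h0 e1 h1.1) (h.ksym hx (ne0_of hψ) h0 e2 h1.2))
  rw [h2 v hv] at e
  exact zero_ne_one e

end Sys

end Cfsg.Agent.H32.CK
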