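import Cfsg.Agent.H32.CKd

/-!
The main count comparing the two parameters, and the reduction of the middle case.
-/

set_option autoImplicit false

namespace Cfsg.Agent.H32.CK

theorem pow_m4 {k : ℕ} (h : 2 ≤ k) : ∃ a, 2 ^ k = 4 * a + 4 := by
  obtain ⟨j, rfl⟩ := Nat.exists_eq_add_of_le h
  have : 0 < 2 ^ j := by positivity
  exact ⟨2 ^ j - 1, by rw [pow_add]; omega⟩

theorem pow_m2 {k : ℕ} (h : 1 ≤ k) : ∃ a, 2 ^ k = 2 * a + 2 := by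
  obtain ⟨j, rfl⟩ := Nat.exists_eq_add_of_le h
  have : 0 < 2 ^ j := by positivity
  exact ⟨2 ^ j - 1, by rw [pow_add]; omega⟩

theorem arith {c d e t : ℕ} (hc : 1 ≤ c) (hd : 1 ≤ d)
    (h : (2 ^ d - 1) * 2 ^ t * (2 ^ e - 1) = 2 * (2 ^ c - 1) * (2 ^ t - 1))
    (h' : 2 * 2 ^ c ≤ 2 ^ e * 2 ^ d) : c + 1 ≤ d ∨ d = 1 ∨ (c = d ∧ t = 1) := by
  obtain ⟨C, hC⟩ := pow_m2 hc
  obtain ⟨D, hD⟩ := pow_m2 hd
  rcases Nat.lt_trichotomy t 1 with ht | rfl | ht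
  · obtain rfl : t = 0 := by omega
    left
    simp only [pow_zero, mul_one, Nat.sub_self, mul_zero, mul_eq_zero] at h
    have : 2 ^ e = 1 := by have : 0 < 2 ^ e := by positivity
                           omega
    rw [this, one_mul, ← pow_succ'] at h'
    exact (Nat.pow_le_pow_iff_right (by norm_num)).1 h'
  · have h2 : (2 ^ d - 1) * (2 ^ e - 1) = 2 ^ c - 1 := by
      simp only [pow_one] at h; nlinarith
    rcases Nat.lt_trichotomy e 1 with he | rfl | he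
    · obtain rfl : e = 0 := by omega
      simp at h2; omega
    · refine Or.inr (Or.inr ⟨Nat.pow_right_injective (le_refl 2) ?_, rfl⟩)
      change 2 ^ c = 2 ^ d
      rw [hC, hD] at h2 ⊢; omega
    · by_cases hd1 : d = 1
      · exact Or.inr (Or.inl hd1)
      exfalso
      obtain ⟨E, hE⟩ := pow_m4 he
      obtain ⟨D', hD'⟩ := pow_m4 (k := d) (by omega)
      rw [hE, hD', show 4 * D' + 4 - 1 = 4 * D' + 3 by omega,
        show 4 * E + 4 - 1 = 4 * E + 3 by omega,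
        show (4 * D' + 3) * (4 * E + 3) = 4 * (4 * (D' * E) + 3 * D' + 3 * E + 2) + 1 by ring] at h2
      by_cases hc1 : c = 1
      · subst hc1; omega
      · obtain ⟨C', hC'⟩ := pow_m4 (k := c) (by omega)
        omega
  · exfalso
    obtain ⟨T, hT⟩ := pow_m4 ht
    rw [hT, hC, show 2 * C + 2 - 1 = 2 * C + 1 by omega, show 4 * T + 4 - 1 = 4 * T + 3 by omega,
      show (2 ^ d - 1) * (4 * T + 4) * (2 ^ e - 1) = 4 * ((2 ^ d - 1) * (T + 1) * (2 ^ e - 1)) by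
        ring, show 2 * (2 * C + 1) * (4 * T + 3) = 4 * (4 * (C * T) + 3 * C + 2 * T + 1) + 2 by
        ring] at h
    omega

variable {G V U : Type*} [Group G] [AddCommGroup V] [Module F V] [AddCommGroup U]
    [Module F U] [DistribMulAction G V] [DistribMulAction G U]

namespace Sys
variable {S : Sys G V U} [Finite G] [Finite V] [Finite U]

theorem Hyp.count (h : S.Hyp) {c d : ℕ} (p : S.Par c) (q : S.flip.Par d) {x y : V} {φ : U}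
    (hx : x ≠ 0) (hφ : φ ≠ 0) (e : S.b φ x = 0) (hy : y ∈ S.T x φ) (hy' : y ∉ sp1 x) :
    c + 1 ≤ d ∨ d = 1 ∨ (c = d ∧ cd (S.flip.T φ x ⊓ S.flip.T φ y) = 2 ^ d) := by
  let W : V → Submodule F V := fun z => S.flip.ann (S.flip.T φ z)
  have Wk : ∀ z, S.b φ z = 0 → W z ≤ S.ker φ := fun z hz v hv => hv φ (x_T (S := S.flip) hz)
  have Wc : ∀ z, z ≠ 0 → S.b φ z = 0 → cd (W z) * (2 * 2 ^ d) = Nat.card V := fun z h1 h2 => by
    rw [← q.cT hφ h1 h2]; exact S.flip.cd_ann' _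
  have Ws : ∀ z z', z ≠ 0 → z' ≠ 0 → S.b φ z = 0 → z' ∈ W z → z ∈ W z' :=
    fun z z' h1 h2 h3 h4 => h.flip.ksym hφ h1 h2 h3 h4
  have Wg : ∀ g ∈ st2 G x φ, ∀ z v, g • v ∈ W (g • z) ↔ v ∈ W z := fun g hg z v => by
    have := annT_smul (S := S.flip) g (x := φ) (φ := z) (θ := v)
    rwa [hg.2] at this
  have Tg : ∀ g ∈ st2 G x φ, ∀ v, g • v ∈ S.T x φ ↔ v ∈ S.T x φ := fun g hg v => by
    have := T_smul (S := S) g (x := x) (φ := φ) (y := v)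
    rwa [hg.1, hg.2] at this
  have hk := S.cd_ker hφ
  have w1 := Wc x hx e
  have w2 := Wc y (ne0_of hy') (T_ker hy)
  have hd : 2 ≤ 2 ^ d := by simpa using Nat.pow_le_pow_right (n := 2) (by norm_num) q.pos
  have w0 := cd_pos (W x)
  have w3 : cd (S.ker φ) = cd (W x) * 2 ^ d := by nlinarith
  have w4 : cd (W y) = cd (W x) := Nat.eq_of_mul_eq_mul_right (by omega) (w2.trans w1.symm)
  obtain ⟨z, hz, hz'⟩ := exists_not_mem (A := W x) (B := S.ker φ) (by nlinarith)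
  have dc := dc_eq {z | z ∈ S.ker φ ∧ z ∉ W x} {y | y ∈ S.T x φ ∧ y ∉ sp1 x} (fun z y => y ∈ W z)
    (cd (S.T x φ ⊓ W z) - 1) (cd (W y) - cd (W y ⊓ W x)) (fun z' h1 => by
      obtain ⟨g, hg, rfl⟩ := T_trU (S := S.flip) (x := φ) (φ := x) hz h1.1 hz' h1.2
      have : cd (S.T x φ ⊓ W (g • z)) = cd (S.T x φ ⊓ W z) :=
        ncard_smul g fun v => and_congr (Tg g hg.symm v) (Wg g hg.symm z v)
      rw [← this, ← ncard_ne0]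
      congr 1; ext v
      refine ⟨fun a => ⟨⟨a.1.1, a.2⟩, ne0_of a.1.2⟩, fun a => ⟨⟨a.1.1, ?_⟩, a.1.2⟩⟩
      rintro (rfl | rfl)
      · exact a.2 rfl
      · exact h1.2 (Ws _ _ (ne0_of h1.2) hx h1.1 a.1.2)) (fun y' h1 => by
      obtain ⟨g, hg, rfl⟩ := h.T_tr hφ e hy' h1.2 (Submodule.add_mem _ hy h1.1)
      have a1 : cd (W (g • y)) = cd (W y) := ncard_smul g fun v => Wg g hg y v
      have a2 : cd (W (g • y) ⊓ W x) = cd (W y ⊓ W x) := ncard_smul g fun v =>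
        and_congr (Wg g hg y v) (by have := Wg g hg x v; rwa [hg.1] at this)
      rw [← a1, ← a2, ← ncard_diff_sub inf_le_left]
      congr 1; ext v
      refine ⟨fun a => ⟨Ws _ _ (ne0_of a.1.2) (ne0_of h1.2) a.1.1 a.2, fun b => a.1.2 b.2⟩,
        fun a => ?_⟩
      have : v ∉ W x := fun b => a.2 ⟨a.1, b⟩
      exact ⟨⟨Wk _ (T_ker h1.1) a.1, this⟩, Ws _ _ (ne0_of h1.2) (ne0_of this) (T_ker h1.1) a.1⟩)
  rw [ncard_diff_sub (Wk x e), ncard_diff_sub (sp1_le (x_T e)), cd_sp1 hx, p.cT hx hφ e, w3,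
    w4] at dc
  have s1 := cd_sup_inf (S.flip.T φ y) (S.flip.T φ x)
  have s2 := S.flip.cd_ann' (S.flip.T φ y ⊔ S.flip.T φ x)
  rw [ann_sup] at s2
  rw [q.cT hφ hx e, q.cT hφ (ne0_of hy') (T_ker hy :), inf_comm] at s1
  obtain ⟨j, hj⟩ := cd_pow (S.flip.T φ x ⊓ S.flip.T φ y)
  have s3 := cd_mono (inf_le_left (a := S.flip.T φ x) (b := S.flip.T φ y))
  rw [q.cT hφ hx e, hj, ← pow_succ', Nat.pow_le_pow_iff_right (by norm_num)] at s3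
  obtain ⟨t, ht⟩ := Nat.exists_eq_add_of_le s3
  have s4 : 2 * 2 ^ d = 2 ^ j * 2 ^ t := by rw [← pow_add, ← ht, pow_succ']
  obtain ⟨E, hE⟩ := cd_pow (S.T x φ ⊓ W z)
  have s5 := cd_sup_inf (S.T x φ) (W z)
  have s6 := cd_mono (sup_le (fun v hv => T_ker hv) (Wk z hz) : S.T x φ ⊔ W z ≤ S.ker φ)
  have w5 : cd (W z) = cd (W x) :=
    Nat.eq_of_mul_eq_mul_right (by omega) ((Wc z (ne0_of hz') hz).trans w1.symm)
  rw [p.cT hx hφ e, hE, w5] at s5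
  rw [hj] at s1
  change cd (W y ⊓ W x) * _ = _ at s2
  generalize cd (W y ⊓ W x) = u at *
  generalize cd (S.flip.T φ y ⊔ S.flip.T φ x) = s at *
  have s7 : s = 2 * 2 ^ d * 2 ^ t := Nat.eq_of_mul_eq_mul_right (m := 2 ^ j) (by positivity)
    (by rw [s1]; nth_rewrite 2 [s4]; ring)
  have s8 : cd (W x) = u * 2 ^ t := Nat.eq_of_mul_eq_mul_right (m := 2 * 2 ^ d) (by omega)
    (by rw [w1, ← s2, s7]; ring)
  have u0 : 0 < u := by rw [s8] at w0; exact Nat.pos_of_mul_pos_right w0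
  have := arith (e := E) (t := t) p.pos q.pos (by
    apply Nat.eq_of_mul_eq_mul_left u0
    rw [hE, s8, ← Nat.mul_sub_one, ← Nat.mul_sub_one u, ← Nat.mul_sub_one 2] at dc
    linarith) (by
    rw [w3] at s6
    apply Nat.le_of_mul_le_mul_right _ w0
    calc _ = _ := s5.symm
      _ ≤ cd (W x) * 2 ^ d * 2 ^ E := Nat.mul_le_mul_right _ s6
      _ = _ := by ring)
  rcases this with a | a | ⟨a, rfl⟩
  · exact Or.inl a
  · exact Or.inr (Or.inl a)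
  · exact Or.inr (Or.inr ⟨a, by rw [hj]; congr 1; omega⟩)

theorem s1_of {x y : V} {φ ψ : U} (e : S.b φ x = 0) (hne : S.T x φ ≠ S.ker φ) (hy : y ∈ S.T x φ)
    (hψ : ψ ∈ S.flip.T φ x) : S.b ψ y = 0 := by
  by_contra hn
  have h1 : y ∉ S.flip.ann (S.flip.T φ x) := fun a => hn (a ψ hψ)
  have h2 : ∀ z ∈ S.ker φ, z ∉ S.flip.ann (S.flip.T φ x) → z ∈ S.T x φ := fun z a1 a2 => by
    obtain ⟨g, hg, rfl⟩ := T_trU (S := S.flip) (x := φ) (φ := x) (T_ker hy :) a1 h1 a2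
    have := T_smul' g hy
    rwa [hg.1, hg.2] at this
  refine hne (le_antisymm (fun v hv => T_ker hv) fun z hz => ?_)
  by_cases a : z ∈ S.flip.ann (S.flip.T φ x)
  · rw [← add_mem_iff' hy]
    exact h2 _ (Submodule.add_mem _ hz (T_ker hy)) (by rwa [add_comm, add_mem_iff' a])
  · exact h2 z hz a

/-- The middle case. -/
structure Mid (S : Sys G V U) (c : ℕ) : Prop where
  h : S.Hyp
  h8 : 8 ≤ Nat.card V
  p : S.Par c
  q : S.flip.Par c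
  c2 : 2 ≤ c
  i1 : ∀ {x y : V} {φ : U}, x ≠ 0 → φ ≠ 0 → S.b φ x = 0 → y ∈ S.T x φ → y ∉ sp1 x →
    cd (S.flip.T φ x ⊓ S.flip.T φ y) = 2 ^ c
  i2 : ∀ {x : V} {φ ψ : U}, φ ≠ 0 → x ≠ 0 → S.b φ x = 0 → ψ ∈ S.flip.T φ x → ψ ∉ sp1 φ →
    cd (S.T x φ ⊓ S.T x ψ) = 2 ^ c
  s1 : ∀ {x y : V} {φ ψ : U}, x ≠ 0 → φ ≠ 0 → S.b φ x = 0 → y ∈ S.T x φ → ψ ∈ S.flip.T φ x →
    S.b ψ y = 0

theorem Mid.flip {c : ℕ} (m : S.Mid c) : S.flip.Mid c :=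
  ⟨m.h.flip, by rw [S.card_eq]; exact m.h8, m.q, m.p, m.c2, m.i2, m.i1,
    fun a1 a2 a3 a4 a5 => m.s1 a2 a1 a3 a5 a4⟩

theorem Par.exists_T {c : ℕ} (p : S.Par c) {x : V} {φ : U} (hx : x ≠ 0) (hφ : φ ≠ 0)
    (e : S.b φ x = 0) : ∃ y ∈ S.T x φ, y ∉ sp1 x := by
  apply exists_nsp1
  obtain ⟨a, ha⟩ := pow_m2 p.pos
  rw [p.cT hx hφ e]; omega

theorem Hyp.exists_flag (h : S.Hyp) : ∃ (x : V) (φ : U), x ≠ 0 ∧ φ ≠ 0 ∧ S.b φ x = 0 := by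
  have := h.big
  obtain ⟨φ, -, hφ⟩ := exists_nsp1 (A := (⊤ : Submodule F U))
    (by rw [cd_top, S.card_eq]; omega) 0
  obtain ⟨P, x, -, -, -, hx, ex, -⟩ := h.exists_P (ne0_of hφ)
  exact ⟨x, φ, hx, ne0_of hφ, ex⟩

theorem Hyp.mid (h : S.Hyp) (h8 : 8 ≤ Nat.card V) {c d : ℕ} (p : S.Par c) (q : S.flip.Par d)
    (hc : c ≠ 1) (hd : d ≠ 1) (hn : 4 * 2 ^ c ≠ Nat.card V) : S.Mid c := by
  obtain ⟨x, φ, hx, hφ, e⟩ := h.exists_flag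
  obtain ⟨y, hy, hy'⟩ := p.exists_T hx hφ e
  obtain ⟨ψ, hψ, hψ'⟩ := q.exists_T hφ hx e
  have a1 := h.count p q hx hφ e hy hy'
  have a2 := h.flip.count q p hφ hx e hψ hψ'
  obtain rfl : c = d := by omega
  have := p.pos
  refine ⟨h, h8, p, q, by omega, fun b1 b2 b3 b4 b5 => ?_, fun b1 b2 b3 b4 b5 => ?_,
    fun b1 b2 b3 b4 b5 => s1_of b3 (fun a => hn ?_) b4 b5⟩
  · have := h.count p q b1 b2 b3 b4 b5
    omega
  · have := h.flip.count q p b1 b2 b3 b4 b5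
    rcases this with a | a | a
    exacts [by omega, by omega, a.2]
  · rw [← S.cd_ker b2, ← a, p.cT b1 b2 b3]; ring

variable {c : ℕ}

theorem Mid.NT (m : S.Mid c) {x y : V} (hx : x ≠ 0) (hy : y ∉ sp1 x) {φ : U} (hφ : φ ≠ 0)
    (e : S.b φ x = 0) : φ ∈ S.N (sp2 x y) ↔ y ∈ S.T x φ :=
  ⟨m.h.N_T hx hy hφ, m.h.T_N m.h8 hx hy hφ e⟩

theorem Mid.r1 (m : S.Mid c) {x : V} {φ ψ : U} (hφ : φ ≠ 0) (hψ : ψ ∉ sp1 φ) (hx : x ≠ 0)
    (hN : x ∈ S.flip.N (sp2 φ ψ)) : S.flip.N (sp2 φ ψ) ≤ S.T x φ := by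
  have e : S.b φ x = 0 := (N_x hN :)
  have sub : ∀ θ, {y | y ∈ {y | y ∈ S.T x φ ∧ y ∉ sp1 x} ∧ y ∈ S.flip.N (sp2 φ θ)} ⊆
    {y | y ∈ S.flip.N (sp2 φ θ) ∧ y ∉ sp1 x} := fun θ y a => ⟨a.2, a.1.2⟩
  have cN : ∀ θ ∈ S.flip.T φ x, θ ∉ sp1 φ →
      {y | y ∈ S.flip.N (sp2 φ θ) ∧ y ∉ sp1 x}.ncard = 2 ^ c - 2 := fun θ a1 a2 => by
    rw [ncard_diff_sub (sp1_le ((m.flip.NT hφ a2 hx e).2 a1)), cd_sp1 hx, m.q.cN hφ a2]
  have h1 := (m.flip.NT hφ hψ hx e).1 hN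
  have := dc_force {y | y ∈ S.T x φ ∧ y ∉ sp1 x} {θ | θ ∈ S.flip.T φ x ∧ θ ∉ sp1 φ}
    (fun y θ => y ∈ S.flip.N (sp2 φ θ)) (2 ^ c - 2) (2 ^ c - 2) (fun y hy => by
      have := ncard_diff_sub (sp1_le (A := S.flip.T φ x ⊓ S.flip.T φ y)
        ⟨x_T (S := S.flip) e, x_T (S := S.flip) (T_ker hy.1 :)⟩)
      rw [cd_sp1 hφ, m.i1 hx hφ e hy.1 hy.2] at this
      rw [← this]
      congr 1; ext θ
      exact ⟨fun a => ⟨⟨a.1.1, (m.flip.NT hφ a.1.2 (ne0_of hy.2) (T_ker hy.1 :)).1 a.2⟩, a.1.2⟩,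
        fun a => ⟨⟨a.1.1, a.2⟩, (m.flip.NT hφ a.2 (ne0_of hy.2) (T_ker hy.1 :)).2 a.1.2⟩⟩)
    (fun θ hθ => by rw [← cN θ hθ.1 hθ.2]; exact Set.ncard_le_ncard (sub θ) (Set.toFinite _))
    (by rw [ncard_diff_sub (sp1_le (x_T e)), ncard_diff_sub (sp1_le (x_T (S := S.flip) e)),
      cd_sp1 hx, cd_sp1 hφ, m.p.cT hx hφ e, m.q.cT hφ hx e]) ψ ⟨h1, hψ⟩
  have e2 := Set.eq_of_subset_of_ncard_le (sub ψ) (by rw [this, cN ψ h1 hψ]) (Set.toFinite _)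
  intro v hv
  by_cases a : v ∈ sp1 x
  · exact sp1_le (x_T e) a
  · exact ((Set.ext_iff.1 e2 v).2 ⟨hv, a⟩).1.1

theorem Mid.r2 (m : S.Mid c) {x : V} {φ ψ : U} (hφ : φ ≠ 0) (hψ : ψ ∉ sp1 φ) (hx : x ≠ 0)
    (hN : x ∈ S.flip.N (sp2 φ ψ)) : S.flip.N (sp2 φ ψ) = S.T x φ ⊓ S.T x ψ := by
  have e : S.b φ x = 0 := (N_x hN :)
  apply eq_of_cd (le_inf (m.r1 hφ hψ hx hN) ?_)
  · rw [m.i2 hφ hx e ((m.flip.NT hφ hψ hx e).1 hN) hψ, m.q.cN hφ hψ]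
  · rw [sp2_comm] at hN ⊢
    exact m.r1 (ne0_of hψ) (sp1_symm hφ hψ) hx hN

theorem Mid.r3 (m : S.Mid c) {x y : V} {φ ψ : U} (hφ : φ ≠ 0) (hψ : ψ ∉ sp1 φ) (hx : x ≠ 0)
    (hy : y ∉ sp1 x) (h1 : x ∈ S.flip.N (sp2 φ ψ)) (h2 : y ∈ S.flip.N (sp2 φ ψ)) :
    φ ∈ S.N (sp2 x y) ∧ ψ ∈ S.N (sp2 x y) := by
  have := m.r2 hφ hψ hx h1 ▸ h2
  exact ⟨(m.NT hx hy hφ (N_x h1 :)).2 this.1, (m.NT hx hy (ne0_of hψ) (N_y h1 :)).2 this.2⟩

theorem Mid.b1 (m : S.Mid c) {x y : V} {φ : U} (hx : x ≠ 0) (hφ : φ ≠ 0) (e : S.b φ x = 0)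
    (hy : y ∈ S.T x φ) (hy' : y ∉ sp1 x) : S.T y φ ≠ S.T x φ := by
  intro hT
  have all : ∀ z ∈ S.T x φ, z ≠ 0 → S.T z φ = S.T x φ := by
    intro z hz h0
    by_cases a : z = x
    · rw [a]
    obtain ⟨g, hg, rfl⟩ := m.h.T_tr hφ e hy' (w := z) (by rintro (b | b) <;> contradiction)
      (Submodule.add_mem _ hy hz)
    ext v
    have a1 := T_smul (S := S) g (x := y) (φ := φ) (y := g⁻¹ • v)
    have a2 := T_smul (S := S) g (x := x) (φ := φ) (y := g⁻¹ • v)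
    rw [hg.2, smul_inv_smul] at a1 a2
    rw [a1, hT, ← a2, hg.1]
  obtain ⟨ψ, hψ, hψ'⟩ := m.q.exists_T hφ hx e
  have eψ : S.b ψ x = 0 := (T_ker hψ :)
  have hN := (m.flip.NT hφ hψ' hx e).2 hψ
  obtain ⟨a, ha, ha'⟩ := exists_not_mem (A := S.T x φ ⊓ S.T x ψ) (B := S.T x ψ) (by
    rw [m.i2 hφ hx e hψ hψ', m.p.cT hx (ne0_of hψ') eψ]
    have : 0 < 2 ^ c := by positivity
    omega)
  obtain ⟨ω, hω, eω⟩ := S.sep (A := S.T x φ) (fun b => ha' ⟨b, ha⟩)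
  have hφ' : φ ∈ S.flip.T ψ x :=
    (m.flip.NT (ne0_of hψ') (sp1_symm hφ hψ') hx eψ).1 (by rwa [sp2_comm])
  have hω' : ω ∉ sp2 φ ψ := fun b => by
    have : sp2 φ ψ ≤ S.flip.ker a := sp2_le (m.s1 hx (ne0_of hψ') eψ ha hφ' :) (T_ker ha :)
    have := this b
    rw [mem_ker, flip_b, eω] at this
    exact one_ne_zero this
  obtain ⟨g, g1, g2, g3⟩ := m.h.flip.f6 (ne0_of hω') (sp1_symm hφ (nsp1_of hω'))
    (by rw [sp2_comm]; exact sp2_exch hψ' hω')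
  have h2 := N_smul' (S := S.flip) g hN
  rw [g2, g3, sp2_comm] at h2
  rw [← all _ (m.r1 hφ hψ' hx hN h2) (smul_ne0 g hx), ← g3, ← g1, annT_smul] at hω
  rw [hω a ha] at eω
  exact zero_ne_one eω

theorem Mid.two (m : S.Mid c) : c = 2 := by
  by_contra hc
  have h3 : 3 ≤ c := by have := m.c2; omega
  have h16 : 8 ≤ 2 ^ c := by simpa using Nat.pow_le_pow_right (n := 2) (by norm_num) h3
  obtain ⟨x, φ, hx, hφ, e⟩ := m.h.exists_flag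
  obtain ⟨y, hy, hy'⟩ := m.p.exists_T hx hφ e
  obtain ⟨ψ, hψ, hψ'⟩ := m.q.exists_T hφ hx e
  have hN := (m.flip.NT hφ hψ' hx e).2 hψ
  have hle := m.r1 hφ hψ' hx hN
  obtain ⟨a, ha, ha'⟩ := exists_not_mem (A := S.flip.N (sp2 φ ψ)) (B := S.T x φ) (by
    rw [m.q.cN hφ hψ', m.p.cT hx hφ e]; omega)
  obtain ⟨θ, hθ, eθ⟩ := S.sep ha'
  have hE : S.flip.N (sp2 φ ψ) = S.T x φ ⊓ S.ker θ := by
    apply eq_of_cd (le_inf hle fun v hv => hθ v hv)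
    have := S.cd_inf_ker ha eθ
    rw [m.p.cT hx hφ e] at this
    rw [m.q.cN hφ hψ']; omega
  refine m.b1 hx hφ e hy hy' (eq_of_cd (fun z hz => ?_)
    (by rw [m.p.cT hx hφ e, m.p.cT (ne0_of hy') hφ (T_ker hy)])).symm
  have h8 : cd (sp2 x y ⊔ sp1 z) ≤ 8 := by
    by_cases b : z ∈ sp2 x y
    · rw [sup_eq_left.2 (sp1_le b), cd_sp2 hx hy']; omega
    · rw [cd_sup_sp1 b, cd_sp2 hx hy']
  obtain ⟨a', hb, hb'⟩ := exists_not_mem (A := sp2 x y ⊔ sp1 z) (B := S.T x φ) (by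
    rw [m.p.cT hx hφ e]; omega)
  obtain ⟨ω, hω, eω⟩ := S.sep hb'
  rw [ann_sup, Submodule.mem_inf, mem_ann_sp2, mem_ann_sp1] at hω
  obtain ⟨g, hg, rfl⟩ := T_trU (φ := φ) (hθ x hN) hω.1.1
    (fun b => by simp [b a ha] at eθ) (fun b => by simp [b a' hb] at eω)
  have key : ∀ v ∈ S.T x φ, S.b (g • θ) v = 0 → v ∈ S.flip.N (sp2 φ (g • ψ)) := by
    intro v h1 h2
    have a1 := N_smul (S := S.flip) g (x := φ) (y := ψ) (φ := g⁻¹ • v)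
    have a2 := T_smul (S := S) g (x := x) (φ := φ) (y := g⁻¹ • v)
    rw [hg.2, smul_inv_smul] at a1 a2
    rw [hg.1] at a2
    rw [a1, hE]
    exact ⟨a2.1 h1, by rw [S.invl] at h2; exact h2⟩
  refine m.r1 hφ ?_ (ne0_of hy') (key y hy hω.1.2) (key z hz hω.2)
  rw [← hg.2, smul_mem_sp1]; exact hψ'

end Sys

end Cfsg.Agent.H32.CK
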