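import Cfsg.Agent.H32.CKe

/-!
The middle case with parameter two: local geometry of the special planes.
-/

set_option autoImplicit false

namespace Cfsg.Agent.H32.CK

variable {G V U : Type*} [Group G] [AddCommGroup V] [Module F V] [AddCommGroup U]
    [Module F U] [DistribMulAction G V] [DistribMulAction G U]

theorem nsp1 {x y : V} (h0 : y ≠ 0) (h : y ≠ x) : y ∉ sp1 x := by
  rintro (a | a) <;> contradiction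

theorem eq_sp3 [Finite V] {x y z : V} {A : Submodule F V} (hx : x ≠ 0) (hy : y ∉ sp1 x)
    (hz : z ∉ sp2 x y) (h1 : x ∈ A) (h2 : y ∈ A) (h3 : z ∈ A) (hc : cd A = 8) :
    sp2 x y ⊔ sp1 z = A :=
  eq_of_cd (sup_le (sp2_le h1 h2) (sp1_le h3)) (by rw [cd_sup_sp1 hz, cd_sp2 hx hy, hc])

namespace Sys
variable {S : Sys G V U} [Finite G] [Finite V] [Finite U]

theorem Mid.cN (m : S.Mid 2) {x y : V} (hx : x ≠ 0) (hy : y ∉ sp1 x) : cd (S.N (sp2 x y)) = 4 :=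
  m.p.cN hx hy

theorem Mid.cT (m : S.Mid 2) {x : V} {φ : U} (hx : x ≠ 0) (hφ : φ ≠ 0) (e : S.b φ x = 0) :
    cd (S.T x φ) = 8 := m.p.cT hx hφ e

theorem Mid.NN (m : S.Mid 2) {x y : V} {φ ψ : U} (hx : x ≠ 0) (hy : y ∉ sp1 x) (hφ : φ ≠ 0)
    (hψ : ψ ∉ sp1 φ) (h1 : φ ∈ S.N (sp2 x y)) (h2 : ψ ∈ S.N (sp2 x y)) :
    sp2 φ ψ = S.N (sp2 x y) ∧ sp2 x y = S.flip.N (sp2 φ ψ) ∧ sp2 x y = S.T x φ ⊓ S.T x ψ := by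
  have h3 := m.flip.r3 hx hy hφ hψ h1 h2
  have h4 : sp2 x y = S.flip.N (sp2 φ ψ) :=
    eq_of_cd (sp2_le h3.1 h3.2) (by rw [m.flip.cN hφ hψ, cd_sp2 hx hy])
  exact ⟨eq_of_cd (sp2_le h1 h2) (by rw [m.cN hx hy, cd_sp2 hφ hψ]), h4,
    h4.trans (m.r2 hφ hψ hx h3.1)⟩

theorem Mid.Tsym (m : S.Mid 2) {x y : V} {φ : U} (hx : x ≠ 0) (hφ : φ ≠ 0) (e : S.b φ x = 0)
    (hy : y ∈ S.T x φ) (h0 : y ≠ 0) : x ∈ S.T y φ := by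
  by_cases a : y = x
  · rw [a]; exact x_T e
  have hy' := nsp1 h0 a
  exact (m.NT h0 (sp1_symm hx hy') hφ (T_ker hy)).1
    (by rw [sp2_comm]; exact (m.NT hx hy' hφ e).2 hy)

theorem Mid.exists_N2 (m : S.Mid 2) {x y : V} (hx : x ≠ 0) (hy : y ∉ sp1 x) (φ : U) :
    ∃ ψ ∈ S.N (sp2 x y), ψ ∉ sp1 φ := exists_nsp1 (by rw [m.cN hx hy]; omega) φ

theorem Mid.exists_T3 (m : S.Mid 2) {x y : V} {φ : U} (hx : x ≠ 0) (hφ : φ ≠ 0) (e : S.b φ x = 0)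
    (hy : y ∉ sp1 x) : ∃ z ∈ S.T x φ, z ∉ sp2 x y :=
  exists_not_mem (by rw [m.cT hx hφ e, cd_sp2 hx hy]; omega)

theorem Mid.theta (m : S.Mid 2) {x y : V} {φ : U} (hx : x ≠ 0) (hφ : φ ≠ 0) (e : S.b φ x = 0)
    (hy : y ∈ S.T x φ) (h0 : y ≠ 0) : ∃ χ, χ ≠ 0 ∧ S.b χ y = 0 ∧ S.T y χ = S.T x φ := by
  by_cases a : y = x
  · exact ⟨φ, hφ, T_ker hy, by rw [a]⟩
  have hy' := nsp1 h0 a
  obtain ⟨z, hz, hz'⟩ := m.exists_T3 hx hφ e hy'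
  obtain ⟨g, g1, g2, g3⟩ := m.h.f6 (ne0_of hz') (sp1_symm hx (nsp1_of hz'))
    (by rw [sp2_comm]; exact sp2_exch hy' hz')
  have e' : S.b (g • φ) y = 0 := by rw [← g2, S.inv, e]
  refine ⟨g • φ, smul_ne0 g hφ, e', ?_⟩
  rw [← eq_sp3 hx hy' hz' (x_T e) hy hz (m.cT hx hφ e)]
  refine (eq_sp3 hx hy' hz' ?_ (x_T e') ?_ (m.cT h0 (smul_ne0 g hφ) e')).symm
  · have := T_smul' g hy
    rwa [g2, g3] at this
  · have := T_smul' g hz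
    rwa [g2, g1] at this

theorem Mid.theta' (m : S.Mid 2) {x y : V} {φ : U} (hx : x ≠ 0) (hy : y ∉ sp1 x) (hφ : φ ≠ 0)
    (hN : φ ∈ S.N (sp2 x y)) : ∃ χ ∈ S.N (sp2 x y), χ ∉ sp1 φ ∧ S.T x χ = S.T y φ := by
  have h1 := (m.NT hx hy hφ (N_x hN)).1 hN
  obtain ⟨χ, h2, h3, h4⟩ := m.theta (ne0_of hy) hφ (N_y hN)
    (m.Tsym hx hφ (N_x hN) h1 (ne0_of hy)) hx
  refine ⟨χ, (m.NT hx hy h2 h3).2 (h4 ▸ x_T (N_y hN)), nsp1 h2 ?_, h4⟩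
  rintro rfl
  exact m.b1 hx hφ (N_x hN) h1 hy h4.symm

theorem Mid.line (m : S.Mid 2) {x y : V} {φ : U} (hx : x ≠ 0) (hφ : φ ≠ 0) (e : S.b φ x = 0)
    (hy : y ∈ S.T x φ) (hy' : y ∉ sp1 x) : sp2 x y = S.T x φ ⊓ S.T y φ := by
  have hN := (m.NT hx hy' hφ e).2 hy
  obtain ⟨χ, h1, h2, h3⟩ := m.theta' hx hy' hφ hN
  rw [← h3]
  exact (m.NN hx hy' hφ h2 hN h1).2.2

theorem Mid.tri (m : S.Mid 2) {u v : V} {φ ψ χ : U} (hu : u ≠ 0) (hφ : φ ≠ 0) (e : S.b φ u = 0)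
    (h1 : ψ ∈ S.flip.T φ u) (h2 : χ ∈ S.flip.T φ u) (hψ : ψ ∉ sp1 φ) (hχ : χ ∉ sp2 φ ψ)
    (h3 : v ∈ S.T u ψ) (h4 : v ∈ S.T u χ) : v ∈ sp1 u := by
  by_contra hv
  have e1 : S.b ψ u = 0 := (T_ker h1 :)
  have a1 := (m.NT hu hv (ne0_of hψ) e1).2 h3
  have a2 := (m.NT hu hv (ne0_of hχ) (T_ker h2 :)).2 h4
  apply m.flip.b1 hφ hu e h1 hψ
  rw [← eq_sp3 hφ hψ hχ (x_T (S := S.flip) e) h1 h2 (m.flip.cT hφ hu e)]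
  exact (eq_sp3 hφ hψ hχ (m.flip.Tsym hφ hu e h1 (ne0_of hψ)) (x_T (S := S.flip) e1)
    (m.flip.r1 hu hv (ne0_of hψ) a1 a2) (m.flip.cT (ne0_of hψ) hu e1)).symm

theorem Mid.quad (m : S.Mid 2) {x v v' w : V} {φ : U} (hx : x ≠ 0) (hφ : φ ≠ 0) (e : S.b φ x = 0)
    (h1 : v ∈ S.T x φ) (h2 : v' ∈ S.T x φ) (hv : v ∉ sp1 x) (hv' : v' ∉ sp1 x) (hne : v' ≠ v)
    (h3 : w ∈ S.T v φ) (h4 : w ∈ S.T v' φ) : w ∈ S.T x φ := by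
  have a1 := (m.NT hx hv hφ e).2 h1
  have a2 := (m.NT hx hv' hφ e).2 h2
  by_cases a : v' ∈ sp2 x v
  · have b1 : v' ∉ sp1 v := nsp1 (ne0_of hv') hne
    have b2 := sp2_eq_of_mem (ne0_of hv) b1 (y_sp2 x v) a hx hv
    have b3 := m.line (ne0_of hv) hφ (T_ker h1)
      ((m.NT (ne0_of hv) b1 hφ (T_ker h1)).1 (b2 ▸ a1)) b1
    exact sp2_le (x_T e) h1 (by rw [← b2, b3]; exact ⟨h3, h4⟩)
  · obtain ⟨χ, b1, b2, b3⟩ := m.theta' hx hv hφ a1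
    obtain ⟨χ', c1, c2, c3⟩ := m.theta' hx hv' hφ a2
    refine sp1_le (x_T e) (m.tri hx hφ e (m.flip.r1 hx hv hφ a1 b1) (m.flip.r1 hx hv' hφ a2 c1)
      b2 (fun d => a ?_) (b3 ▸ h3) (c3 ▸ h4))
    rw [(m.NN hx hv hφ b2 a1 b1).2.1, ← sp2_of_mem d c2, ← (m.NN hx hv' hφ c2 a2 c1).2.1]
    exact y_sp2 _ _

theorem Mid.sg (m : S.Mid 2) {u w : V} {φ ψ : U} (hu : u ≠ 0) (hφ : φ ≠ 0) (e : S.b φ u = 0)
    (h1 : ψ ∈ S.flip.T φ u) (hψ : ψ ∉ sp1 φ) (hw : w ∈ S.T u φ ⊔ S.T u ψ) :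
    w ∈ S.T u φ ∨ w ∈ S.T u ψ ∨ w ∈ S.T u (φ + ψ) := by
  have e1 : S.b ψ u = 0 := (T_ker h1 :)
  have a := (m.flip.NT hφ hψ hu e).2 h1
  have b1 := m.r2 hφ hψ hu a
  have c1 : sp2 φ (φ + ψ) = sp2 φ ψ := sp2_of_mem (Or.inr (Or.inr (Or.inr rfl))) (add_sp1 hψ)
  have c2 : sp2 ψ (φ + ψ) = sp2 φ ψ := by
    rw [sp2_comm φ ψ, add_comm]
    exact sp2_of_mem (Or.inr (Or.inr (Or.inr rfl))) (add_sp1 (sp1_symm hφ hψ))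
  have b2 := m.r2 hφ (add_sp1 hψ) hu (c1 ▸ a)
  have b3 := m.r2 (ne0_of hψ) (add_sp1' (sp1_symm hφ hψ)) hu (c2 ▸ a)
  rw [c1] at b2
  rw [c2] at b3
  have d := m.flip.cN hφ hψ
  obtain ⟨t, t1, t2⟩ := exists_not_mem (A := S.flip.N (sp2 φ ψ)) (B := S.T u (φ + ψ)) (by
    rw [d, m.cT hu (ne0_of (add_sp1 hψ)) (by simp [e, e1])]; omega)
  exact three (D := S.flip.N (sp2 φ ψ)) (b1 ▸ inf_le_left) (b1 ▸ inf_le_right) (b2 ▸ inf_le_right)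
    (by rw [d, m.cT hu hφ e]) (by rw [d, m.cT hu (ne0_of hψ) e1]) (m.h.tsum hu hφ hψ e e1) t1
    (fun a => t2 (b2 ▸ ⟨a, t1⟩)) (fun a => t2 (b3 ▸ ⟨a, t1⟩)) hw

theorem Mid.row_aux (m : S.Mid 2) {z p q : V} {φ ψ χ ω : U} (hz : z ≠ 0) (hφ : φ ≠ 0)
    (e : S.b φ z = 0) (h1 : ψ ∈ S.flip.T φ z) (h2 : χ ∈ S.flip.T φ z) (hψ : ψ ∉ sp1 φ)
    (hχ : χ ∉ sp2 φ ψ) (hω : ω ∈ S.ann (S.T z φ)) (hn : ω ∉ S.ann (S.T z χ)) (hp : p ∈ S.T z ψ)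
    (hq : q ∈ S.T z χ) (hpq : p + q ∈ S.T z (ψ + χ)) (e1 : S.b ω p = 1) (e2 : S.b ω q = 0) :
    False := by
  have hχ' := nsp1_of hχ
  have a1 : q ∈ S.T z φ := by
    by_contra a
    simp only [mem_ann, not_forall] at hn
    obtain ⟨t, t1, t2⟩ := hn
    have := idx2 (D := S.T z φ ⊓ S.T z χ) inf_le_right
      (by rw [m.i2 hφ hz e h2 hχ', m.cT hz (ne0_of hχ) (T_ker h2 :)]; omega) hq t1
      (fun b => a b.1) (fun b => t2 (hω t b.1))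
    have := hω _ this.1
    rw [S.addr, e2, zero_add] at this
    exact t2 this
  have a2 : S.b ω (p + q) ≠ 0 := by simp [e1, e2]
  have a3 : p + q ∉ sp1 z := fun b => a2 (hω _ (sp1_le (x_T e) b))
  have a4 : ψ + χ ∉ sp2 φ ψ := by rwa [add_comm, add_mem_iff' (y_sp2 _ _)]
  rcases m.sg hz hφ e h1 hψ (Submodule.add_mem _ (Submodule.mem_sup_right hp)
    (Submodule.mem_sup_left a1)) with b | b | b
  · exact a2 (hω _ b)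
  · exact a3 (m.tri hz hφ e h1 (Submodule.add_mem _ h1 h2) hψ a4 b hpq)
  · exact a3 (m.tri hz hφ e (Submodule.add_mem _ (x_T (S := S.flip) e) h1)
      (Submodule.add_mem _ h1 h2) (add_sp1 hψ)
      (by rwa [sp2_of_mem (Or.inr (Or.inr (Or.inr rfl))) (add_sp1 hψ)]) b hpq)

theorem Mid.row (m : S.Mid 2) {z : V} {φ ω : U} (hz : z ≠ 0) (hφ : φ ≠ 0) (e : S.b φ z = 0)
    (hω : ω ∈ S.ann (S.T z φ)) : ∃ ψ ∈ S.flip.T φ z, ψ ∉ sp1 φ ∧ ω ∈ S.ann (S.T z ψ) := by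
  by_contra hn
  push Not at hn
  obtain ⟨ψ, h1, hψ⟩ := m.q.exists_T hφ hz e
  obtain ⟨χ, h2, hχ⟩ := m.flip.exists_T3 hφ hz e hψ
  have a4 : ψ + χ ∉ sp2 φ ψ := by rwa [add_comm, add_mem_iff' (y_sp2 _ _)]
  have h3 := hn _ (Submodule.add_mem _ h1 h2) (nsp1_of a4)
  simp only [mem_ann, not_forall] at h3
  obtain ⟨t, t1, t2⟩ := h3
  obtain ⟨p, hp, q, hq, rfl⟩ := Submodule.mem_sup.1
    (m.h.tsum hz (ne0_of hψ) (nsp1_of' hχ) (T_ker h1 :) (T_ker h2 :) t1)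
  rw [S.addr] at t2
  rcases F01 (S.b ω p) with a | a
  · exact m.row_aux hz hφ e h2 h1 (nsp1_of hχ) (sp2_exch hψ hχ) hω (hn _ h1 hψ) hq hp
      (by rwa [add_comm q, add_comm χ]) (F_ne0.1 (by simpa [a] using t2)) a
  · exact m.row_aux hz hφ e h1 h2 hψ hχ hω (hn _ h2 (nsp1_of hχ)) hp hq t1 a
      (F_ne1.1 (fun b => t2 (by simp [a, b])))

theorem Mid.ssum (m : S.Mid 2) {x y : V} {φ : U} (hx : x ≠ 0) (hy : y ∉ sp1 x) (hφ : φ ≠ 0)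
    (hN : φ ∈ S.N (sp2 x y)) : S.T (x + y) φ ≤ S.T x φ ⊔ S.T y φ := by
  obtain ⟨χ, b1, b2, b3⟩ := m.theta' hx hy hφ hN
  have c1 : sp2 x (x + y) = sp2 x y := sp2_of_mem (Or.inr (Or.inr (Or.inr rfl))) (add_sp1 hy)
  obtain ⟨χ', d1, d2, d3⟩ := m.theta' hx (add_sp1 hy) hφ (c1 ▸ hN)
  rw [c1, ← (m.NN hx hy hφ b2 hN b1).1] at d1
  rw [← d3, ← b3]
  rcases d1 with rfl | rfl | rfl | rfl
  · exact absurd (Or.inl rfl) d2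
  · exact le_sup_left
  · exact le_sup_right
  · exact m.h.tsum hx hφ b2 (N_x hN) (N_x b1)

theorem Mid.deep (m : S.Mid 2) {w : V} {φ ω : U} (hw : w ≠ 0) (hφ : φ ≠ 0) (e : S.b φ w = 0)
    (hω : ω ∉ sp1 φ) : ω ∈ S.ann (S.T w φ) ↔
      ∀ z ∈ S.flip.N (sp2 φ ω), z ≠ 0 → w ∈ S.flip.ann (S.flip.T φ z) := by
  constructor
  · intro h z hz h0
    refine m.h.flip.ksym hφ hw h0 e fun ψ hψ => ?_
    by_cases a : ψ ∈ sp2 φ ω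
    · exact hz.2 ψ a
    · have a' := nsp1_of a
      exact m.h.flip.bsym hφ a' (sp2_exch hω a)
        (fun v hv => h v (m.r1 hφ a' hw ((m.flip.NT hφ a' hw e).2 hψ) hv)) z hz
  · intro h v hv
    obtain ⟨ψ, h1, h2, h3⟩ : ∃ ψ ∈ S.flip.T φ w, ψ ∉ sp1 φ ∧ v ∈ S.flip.N (sp2 φ ψ) := by
      by_cases a : v ∈ sp1 w
      · obtain ⟨ψ, h1, hψ⟩ := m.q.exists_T hφ hw e
        exact ⟨ψ, h1, hψ, sp1_le ((m.flip.NT hφ hψ hw e).2 h1) a⟩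
      · obtain ⟨ψ, h1, hψ⟩ := m.exists_N2 hw a φ
        have hN := (m.NT hw a hφ e).2 hv
        exact ⟨ψ, m.flip.r1 hw a hφ hN h1, hψ, (m.flip.r3 hw a hφ hψ hN h1).2⟩
    by_cases a : ω ∈ sp2 φ ψ
    · exact h3.2 ω a
    · refine m.h.flip.bsym hφ hω (sp2_exch h2 a) (fun z hz => ?_) v h3
      by_cases h0 : z = 0
      · simp [h0]
      · exact m.h.flip.ksym hφ h0 hw (N_x hz :) (h z hz h0) ψ h1

theorem Mid.deep_add (m : S.Mid 2) {v w : V} {φ ω : U} (hv : v ≠ 0) (hw : w ≠ 0) (h0 : v + w ≠ 0)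
    (hφ : φ ≠ 0) (e1 : S.b φ v = 0) (e2 : S.b φ w = 0) (h1 : ω ∈ S.ann (S.T v φ))
    (h2 : ω ∈ S.ann (S.T w φ)) : ω ∈ S.ann (S.T (v + w) φ) := by
  by_cases a : ω ∈ sp1 φ
  · exact sp1_le (A := S.ann (S.T (v + w) φ)) (fun t ht => T_ker ht) a
  rw [m.deep hv hφ e1 a] at h1
  rw [m.deep hw hφ e2 a] at h2
  rw [m.deep h0 hφ (by simp [e1, e2]) a]
  exact fun z hz hz' => Submodule.add_mem _ (h1 z hz hz') (h2 z hz hz')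

end Sys

end Cfsg.Agent.H32.CK
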