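import Cfsg.Agent.H32.CKf

/-!
The middle case with parameter two is impossible.
-/

set_option autoImplicit false

namespace Cfsg.Agent.H32.CK

theorem z5 : ¬ (31 • (1 : ZMod 5) = 0 ^ 5) := by decide

theorem friend {α : Type*} [Finite α] (X : Set α) (adj : α → α → Prop) (hne : X.Nonempty)
    (hc : X.ncard ≤ 31) (hs : ∀ a ∈ X, ∀ c ∈ X, adj a c → adj c a) (hi : ∀ a ∈ X, ¬ adj a a)
    (hd : ∀ a ∈ X, {c | c ∈ X ∧ adj a c}.ncard = 6)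
    (hu : ∀ a ∈ X, ∀ c ∈ X, a ≠ c → {v | v ∈ X ∧ adj a v ∧ adj c v}.ncard ≤ 1) : False := by
  classical
  haveI := Fintype.ofFinite X
  haveI : Fact (Nat.Prime 5) := ⟨by norm_num⟩
  have key : ∀ a ∈ X, X.ncard = 31 ∧
      ∀ c ∈ X, c ≠ a → {v | v ∈ X ∧ adj a v ∧ adj c v}.ncard = 1 := by
    intro a ha
    have h1 : (X \ {a}).ncard = X.ncard - 1 := Set.ncard_diff_singleton_of_mem ha
    have hm : ∀ v ∈ {c | c ∈ X ∧ adj a c}, {c | c ∈ X \ {a} ∧ adj c v}.ncard = 5 := by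
      intro v hv
      have h2 := Set.ncard_diff_singleton_of_mem (s := {c | c ∈ X ∧ adj v c}) (a := a)
        ⟨ha, hs _ ha _ hv.1 hv.2⟩
      rw [hd v hv.1] at h2
      rw [← show 6 - 1 = 5 from rfl, ← h2]
      congr 1; ext c
      exact ⟨fun b => ⟨⟨b.1.1, hs _ b.1.1 _ hv.1 b.2⟩, b.1.2⟩,
        fun b => ⟨⟨b.1.1, b.2⟩, hs _ hv.1 _ b.1.1 b.1.2⟩⟩
    have he : ∀ c, {v | v ∈ {c | c ∈ X ∧ adj a c} ∧ adj c v} = {v | v ∈ X ∧ adj a v ∧ adj c v} :=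
      fun c => by ext v; simp [and_assoc]
    have hk : ∀ c ∈ X \ {a}, {v | v ∈ {c | c ∈ X ∧ adj a c} ∧ adj c v}.ncard ≤ 1 :=
      fun c hc => by rw [he]; exact hu a ha c hc.1 (Ne.symm hc.2)
    have h3 := dc_le {c | c ∈ X ∧ adj a c} (X \ {a}) (fun v c => adj c v) 5 1
      (fun v hv => (hm v hv).ge) hk
    rw [hd a ha, h1] at h3
    refine ⟨by omega, fun c hc hca => ?_⟩
    rw [← he]
    exact dc_force {c | c ∈ X ∧ adj a c} (X \ {a}) (fun v c => adj c v) 5 1 hm hk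
      (by rw [hd a ha, h1]; omega) c ⟨hc, hca⟩
  obtain ⟨a0, ha0⟩ := hne
  have hX : Fintype.card X = 31 := by rw [← (key a0 ha0).1, ← Nat.card_eq_fintype_card]; rfl
  have cnt : ∀ (p : α → Prop) [DecidablePred p], (∑ v : X, if p v then (1 : ZMod 5) else 0) =
      ({v | v ∈ X ∧ p v}.ncard : ZMod 5) := by
    intro p _
    rw [Finset.sum_boole]
    congr 1
    rw [← Set.ncard_coe_finset, ← Set.ncard_image_of_injective _ Subtype.val_injective]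
    congr 1; ext v; simp [and_comm]
  let A : Matrix X X (ZMod 5) := Matrix.of fun a c => if adj a c then 1 else 0
  let J : Matrix X X (ZMod 5) := Matrix.of fun _ _ => 1
  have h1 : A * A = J := by
    ext a c
    have : ∀ v : X, A a v * A v c = if adj a v ∧ adj c v then 1 else 0 := fun v => by
      have : adj v c ↔ adj c v := ⟨hs _ v.2 _ c.2, hs _ c.2 _ v.2⟩
      simp only [A, this, Matrix.of_apply]
      by_cases b1 : adj a v <;> by_cases b2 : adj c v <;> simp [b1, b2]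
    simp only [Matrix.mul_apply, this]
    rw [cnt (fun v => adj a v ∧ adj c v)]
    by_cases b : a = c
    · subst b
      simp only [and_self]
      rw [hd a a.2]; rfl
    · rw [(key a a.2).2 c c.2 (fun e => b (Subtype.ext e.symm))]; rfl
  have h2 : A * J = J := by
    ext a c
    simp only [Matrix.mul_apply, J, mul_one, A, Matrix.of_apply]
    rw [cnt (fun v => adj a v), hd a a.2]; rfl
  have h3 : J * J = J := by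
    ext a c
    simp only [Matrix.mul_apply, J, mul_one, Finset.sum_const, Finset.card_univ, hX,
      Matrix.of_apply]; rfl
  have h4 : A ^ 5 = J := by
    rw [show A ^ 5 = A * ((A * A) * (A * A)) by noncomm_ring, h1, h3, h2]
  have h5 := ZMod.trace_pow_card A
  have h6 : A.trace = 0 := Finset.sum_eq_zero fun a _ => if_neg (hi a a.2)
  rw [h4, h6] at h5
  simp only [Matrix.trace, Matrix.diag, J, Finset.sum_const, Finset.card_univ, hX,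
    Matrix.of_apply] at h5
  exact z5 h5

variable {G V U : Type*} [Group G] [AddCommGroup V] [Module F V] [AddCommGroup U]
    [Module F U] [DistribMulAction G V] [DistribMulAction G U]

namespace Sys

/-- `ω` kills all special planes through a line. -/
def QL (S : Sys G V U) (ω : U) (L : Submodule F V) : Prop :=
  ∀ u ∈ L, u ≠ 0 → ∀ φ ∈ S.N L, φ ≠ 0 → ω ∈ S.ann (S.T u φ)

/-- `ω` kills all special planes through a point adjacent to a given one. -/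
def RR (S : Sys G V U) (ω : U) (x : V) (φ : U) : Prop :=
  ∀ ψ ∈ S.flip.T φ x, ψ ≠ 0 → ω ∈ S.ann (S.T x ψ)

/-- The functionals killing all special planes adjacent to a given one. -/
def Om (S : Sys G V U) (E : Submodule F V) : Submodule F U :=
  mkSub (fun ω => ∀ u χ, u ≠ 0 → χ ≠ 0 → S.b χ u = 0 → S.T u χ = E → S.RR ω u χ)
    (fun _ _ _ _ _ _ _ _ _ => Submodule.zero_mem _)
    (fun _ _ h1 h2 u χ a1 a2 a3 a4 ψ a5 a6 =>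
      Submodule.add_mem _ (h1 u χ a1 a2 a3 a4 ψ a5 a6) (h2 u χ a1 a2 a3 a4 ψ a5 a6))

variable {S : Sys G V U} [Finite G] [Finite V] [Finite U]

theorem Hyp.kill (h : S.Hyp) {x : V} {φ ω : U} (hx : x ≠ 0) (hφ : φ ≠ 0) (e : S.b φ x = 0)
    (h1 : ω ∈ S.ann (S.T x φ)) {A : Submodule F U} (hA : ω ≠ 0 → A ≤ S.ann (S.T x ω)) {ψ : U}
    (hψ : ψ ∈ A) (h0 : ψ ≠ 0) : ω ∈ S.ann (S.T x ψ) := by
  by_cases a : ω = 0
  · rw [a]; exact Submodule.zero_mem _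
  · exact h.ksym hx a h0 (h1 x (x_T e)) (hA a hψ)

theorem Mid.QL_of (m : S.Mid 2) {x y : V} {φ ψ ω : U} (hx : x ≠ 0) (hy : y ∉ sp1 x) (hφ : φ ≠ 0)
    (hψ : ψ ∉ sp1 φ) (h1 : φ ∈ S.N (sp2 x y)) (h2 : ψ ∈ S.N (sp2 x y))
    (k1 : ω ∈ S.ann (S.T x φ)) (k2 : ω ∈ S.ann (S.T x ψ)) : S.QL ω (sp2 x y) := by
  have a : ∀ χ ∈ S.N (sp2 x y), χ ≠ 0 → ω ∈ S.ann (S.T x χ) := fun χ b1 b2 =>
    m.h.kill hx hφ (N_x h1) k1 (fun a => by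
      rw [← (m.NN hx hy hφ hψ h1 h2).1]
      exact sp2_le (m.h.ksym hx hφ a (N_x h1) k1) (m.h.ksym hx (ne0_of hψ) a (N_x h2) k2)) b1 b2
  intro u hu h0 χ b1 b2
  by_cases c : u = x
  · rw [c]; exact a χ b1 b2
  have c' := nsp1 h0 c
  rw [← sp2_of_mem hu c'] at b1
  obtain ⟨χ', d1, d2, d3⟩ := m.theta' hx c' b2 b1
  rw [← d3]
  exact a χ' (sp2_of_mem hu c' ▸ d1) (ne0_of d2)

theorem Mid.RR_QL (m : S.Mid 2) {x y : V} {φ ω : U} (hx : x ≠ 0) (hφ : φ ≠ 0) (e : S.b φ x = 0)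
    (hy : y ∈ S.T x φ) (hy' : y ∉ sp1 x) (h : S.RR ω x φ) : S.QL ω (sp2 x y) := by
  have hN := (m.NT hx hy' hφ e).2 hy
  obtain ⟨ψ, h1, hψ⟩ := m.exists_N2 hx hy' φ
  exact m.QL_of hx hy' hφ hψ hN h1 (h φ (x_T (S := S.flip) e) hφ)
    (h ψ (m.flip.r1 hx hy' hφ hN h1) (ne0_of hψ))

theorem Mid.RR_two (m : S.Mid 2) {x y z : V} {φ ω : U} (hx : x ≠ 0) (hφ : φ ≠ 0) (e : S.b φ x = 0)
    (hy : y ∈ S.T x φ) (hz : z ∈ S.T x φ) (hy' : y ∉ sp1 x) (hz' : z ∉ sp2 x y)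
    (q1 : S.QL ω (sp2 x y)) (q2 : S.QL ω (sp2 x z)) : S.RR ω x φ := by
  have n1 := (m.NT hx hy' hφ e).2 hy
  have n2 := (m.NT hx (nsp1_of hz') hφ e).2 hz
  obtain ⟨ψ, h1, hψ⟩ := m.exists_N2 hx hy' φ
  obtain ⟨χ, h2, hχ⟩ := m.exists_N2 hx (nsp1_of hz') φ
  have hχ' : χ ∉ sp2 φ ψ := fun d => hz' (by
    rw [(m.NN hx hy' hφ hψ n1 h1).2.1, ← sp2_of_mem d hχ,
      ← (m.NN hx (nsp1_of hz') hφ hχ n2 h2).2.1]
    exact y_sp2 _ _)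
  have k := q1 x (x_sp2 _ _) hx φ n1 hφ
  intro θ b1 b2
  refine m.h.kill hx hφ e k (fun a => ?_) b1 b2
  rw [← eq_sp3 hφ hψ hχ' (x_T (S := S.flip) e) (m.flip.r1 hx hy' hφ n1 h1)
    (m.flip.r1 hx (nsp1_of hz') hφ n2 h2) (m.flip.cT hφ hx e)]
  exact sup_le (sp2_le (m.h.ksym hx hφ a e k)
    (m.h.ksym hx (ne0_of hψ) a (N_x h1) (q1 x (x_sp2 _ _) hx ψ h1 (ne0_of hψ))))
    (sp1_le (m.h.ksym hx (ne0_of hχ) a (N_x h2) (q2 x (x_sp2 _ _) hx χ h2 (ne0_of hχ))))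

theorem Mid.RR_out (m : S.Mid 2) {x y u : V} {φ χ ψ ω : U} (hx : x ≠ 0) (hy : y ∉ sp1 x)
    (hu : u ∉ sp2 x y) (hφ : φ ≠ 0) (hχ : χ ≠ 0) (hψ : ψ ≠ 0) (e1 : S.b φ x = 0)
    (e2 : S.b χ y = 0) (e3 : S.b ψ u = 0) (t1 : S.T x φ = S.T u ψ) (t2 : S.T y χ = S.T u ψ)
    (r1 : S.RR ω x φ) (r2 : S.RR ω y χ) : S.RR ω u ψ := by
  refine m.RR_two (ne0_of hu) hψ e3 (t1 ▸ x_T e1) (t2 ▸ x_T e2) (sp1_symm hx (nsp1_of hu))
    (by rw [sp2_comm]; exact sp2_exch hy hu) ?_ ?_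
  · rw [sp2_comm]; exact m.RR_QL hx hφ e1 (t1 ▸ x_T e3) (nsp1_of hu) r1
  · rw [sp2_comm]; exact m.RR_QL (ne0_of hy) hχ e2 (t2 ▸ x_T e3) (nsp1_of' hu) r2

theorem Mid.col (m : S.Mid 2) {x y : V} {φ ψ ω : U} (hx : x ≠ 0) (hy : y ∉ sp1 x) (hφ : φ ≠ 0)
    (hψ : ψ ∉ sp1 φ) (h1 : φ ∈ S.N (sp2 x y)) (h2 : ψ ∈ S.N (sp2 x y)) (r1 : S.RR ω x φ)
    (r2 : S.RR ω x ψ) : S.RR ω x (φ + ψ) := by
  intro θ b1 b2
  refine m.h.kill hx hφ (N_x h1) (r1 φ (x_T (S := S.flip) (N_x h1 :)) hφ) (fun a => ?_) b1 b2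
  have k : ∀ χ, S.RR ω x χ → S.flip.T χ x ≤ S.ann (S.T x ω) := fun χ r θ hθ => by
    by_cases c : θ = 0
    · rw [c]; exact Submodule.zero_mem _
    · exact m.h.ksym hx c a (T_ker hθ :) (r θ hθ c)
  exact (m.flip.ssum hφ hψ hx (m.flip.r3 hx hy hφ hψ h1 h2).1).trans (sup_le (k φ r1) (k ψ r2))

theorem Mid.RR_deep (m : S.Mid 2) {x : V} {φ ω : U} (hx : x ≠ 0) (hφ : φ ≠ 0) (e : S.b φ x = 0) :
    S.RR ω x φ ↔ ∀ w ∈ S.T x φ, w ≠ 0 → ω ∈ S.ann (S.T w φ) := by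
  constructor
  · intro r w hw h0
    by_cases a : w = x
    · rw [a]; exact r φ (x_T (S := S.flip) e) hφ
    · have a' := nsp1 h0 a
      exact m.RR_QL hx hφ e hw a' r w (y_sp2 _ _) h0 φ ((m.NT hx a' hφ e).2 hw) hφ
  · intro h
    have q : ∀ w ∈ S.T x φ, w ∉ sp1 x → S.QL ω (sp2 x w) := fun w hw a => by
      have hN := (m.NT hx a hφ e).2 hw
      obtain ⟨χ, d1, d2, d3⟩ := m.theta' hx a hφ hN
      exact m.QL_of hx a hφ d2 hN d1 (h x (x_T e) hx) (d3 ▸ h w hw (ne0_of a))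
    obtain ⟨y, hy, hy'⟩ := m.p.exists_T hx hφ e
    obtain ⟨z, hz, hz'⟩ := m.exists_T3 hx hφ e hy'
    exact m.RR_two hx hφ e hy hz hy' hz' (q y hy hy') (q z hz (nsp1_of hz'))

theorem Mid.sym (m : S.Mid 2) {x y : V} {φ ω : U} (hx : x ≠ 0) (hy : y ∉ sp1 x) (hφ : φ ≠ 0)
    (h1 : φ ∈ S.N (sp2 x y)) (r1 : S.RR ω x φ) (r2 : S.RR ω y φ) : S.RR ω (x + y) φ := by
  rw [m.RR_deep hx hφ (N_x h1)] at r1
  rw [m.RR_deep (ne0_of hy) hφ (N_y h1)] at r2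
  rw [m.RR_deep (ne0_of (add_sp1 hy)) hφ (by simp [N_x h1, N_y h1])]
  intro w hw h0
  obtain ⟨p, hp, q, hq, rfl⟩ := Submodule.mem_sup.1 (m.ssum hx hy hφ h1 hw)
  by_cases a : p = 0
  · subst a; rw [zero_add] at h0 ⊢; exact r2 q hq h0
  by_cases c : q = 0
  · subst c; rw [add_zero] at h0 ⊢; exact r1 p hp h0
  exact m.deep_add a c h0 hφ (T_ker hp) (T_ker hq) (r1 p hp a) (r2 q hq c)

theorem Mid.cells (m : S.Mid 2) {x y v : V} {φ ψ χ ω : U} (hx : x ≠ 0) (hy : y ∉ sp1 x)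
    (hφ : φ ≠ 0) (hψ : ψ ∉ sp1 φ) (h1 : φ ∈ S.N (sp2 x y)) (h2 : ψ ∈ S.N (sp2 x y))
    (r1 : S.RR ω x φ) (r2 : S.RR ω y ψ) (r3 : S.RR ω (x + y) (φ + ψ)) (hv : v ∈ sp2 x y)
    (hχ : χ ∈ sp2 φ ψ) (v0 : v ≠ 0) (χ0 : χ ≠ 0) (n1 : ¬ (v = x ∧ χ = φ)) (n2 : ¬ (v = y ∧ χ = ψ))
    (n3 : ¬ (v = x + y ∧ χ = φ + ψ)) (r : S.RR ω v χ) :
    ∀ u ∈ sp2 x y, u ≠ 0 → ∀ θ ∈ sp2 φ ψ, θ ≠ 0 → S.RR ω u θ := by
  have C : ∀ u ∈ sp2 x y, u ≠ 0 → ∀ a ∈ sp2 φ ψ, a ≠ 0 → ∀ c ∈ sp2 φ ψ, c ≠ 0 → c ≠ a →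
      S.RR ω u a → S.RR ω u c → S.RR ω u (a + c) := by
    intro u hu u0 a ha a0 c hc c0 ca b1 b2
    obtain ⟨w, hw, hw'⟩ := exists_nsp1 (A := sp2 x y) (by rw [cd_sp2 hx hy]; omega) u
    have := sp2_eq_of_mem u0 hw' hu hw hx hy
    exact m.col u0 hw' a0 (nsp1 c0 ca) (this ▸ sp2_le h1 h2 ha) (this ▸ sp2_le h1 h2 hc) b1 b2
  have D : ∀ a ∈ sp2 φ ψ, a ≠ 0 → ∀ u ∈ sp2 x y, u ≠ 0 → ∀ w ∈ sp2 x y, w ≠ 0 → w ≠ u →
      S.RR ω u a → S.RR ω w a → S.RR ω (u + w) a := by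
    intro a ha a0 u hu u0 w hw w0 wu b1 b2
    have := sp2_eq_of_mem u0 (nsp1 w0 wu) hu hw hx hy
    exact m.sym u0 (nsp1 w0 wu) a0 (this ▸ sp2_le h1 h2 ha) b1 b2
  have y0 := ne0_of hy
  have ψ0 := ne0_of hψ
  have xy0 := ne0_of (add_sp1 hy)
  have φψ0 := ne0_of (add_sp1 hψ)
  have yx : y ≠ x := fun e => hy (Or.inr e)
  have ψφ : ψ ≠ φ := fun e => hψ (Or.inr e)
  have xyx : x + y ≠ x := by simpa using y0
  have xyy : x + y ≠ y := by simpa using hx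
  have a1 : φ + ψ ≠ φ := by simpa using ψ0
  have a2 : φ + ψ ≠ ψ := by simpa using hφ
  have mx := x_sp2 x y
  have my := y_sp2 x y
  have mxy := Submodule.add_mem _ mx my
  have mφ := x_sp2 φ ψ
  have mψ := y_sp2 φ ψ
  have mφψ := Submodule.add_mem _ mφ mψ
  have c1 := C x mx hx φ mφ hφ ψ mψ ψ0 ψφ r1
  have c2 := C x mx hx φ mφ hφ _ mφψ φψ0 a1 r1
  have c3 := C y my y0 ψ mψ ψ0 φ mφ hφ ψφ.symm r2
  have c4 := C y my y0 ψ mψ ψ0 _ mφψ φψ0 a2 r2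
  have c5 := C _ mxy xy0 _ mφψ φψ0 φ mφ hφ a1.symm r3
  have c6 := C _ mxy xy0 _ mφψ φψ0 ψ mψ ψ0 a2.symm r3
  have d1 := D φ mφ hφ x mx hx y my y0 yx r1
  have d2 := D φ mφ hφ x mx hx _ mxy xy0 xyx r1
  have d3 := D ψ mψ ψ0 y my y0 x mx hx yx.symm r2
  have d4 := D ψ mψ ψ0 y my y0 _ mxy xy0 xyy r2
  rw [vvw] at c2 d2
  rw [add_comm ψ φ] at c3
  rw [add_comm y x] at d3
  rw [add_comm ψ, wvv] at c4
  rw [add_comm y, wvv] at d4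
  rw [add_comm (φ + ψ), vvw] at c5
  rw [wvv] at c6
  have all : S.RR ω x ψ := by
    rcases hv with b | b | b | b <;> rcases hχ with b' | b' | b' | b' <;>
      first
      | exact absurd b v0
      | exact absurd b' χ0
      | exact (n1 (And.intro b b')).elim
      | exact (n2 (And.intro b b')).elim
      | exact (n3 (And.intro b b')).elim
      | skip
    all_goals rw [b, b'] at r
    exacts [r, c2 r, d4 (c5 (d1 r)), d4 (c5 (d1 (c4 r))), d4 (c5 r), d4 r]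
  intro u hu u0 θ hθ θ0
  rcases hu with b | b | b | b <;> rcases hθ with b' | b' | b' | b' <;>
    first
    | exact absurd b u0
    | exact absurd b' θ0
    | rw [b, b']
  exacts [r1, all, c1 all, d2 (c6 (d3 all)), r2, c3 (d2 (c6 (d3 all))), c6 (d3 all), d3 all, r3]

theorem Mid.latin (m : S.Mid 2) {x : V} {φ φ' : U} (hx : x ≠ 0) (hφ : φ ≠ 0) (e : S.b φ x = 0)
    (h1 : φ' ∈ S.flip.T φ x) (h0 : φ' ≠ 0) : S.Om (S.T x φ) ≤ S.Om (S.T x φ') := by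
  by_cases a : φ' = φ
  · rw [a]
  have hφ' := nsp1 h0 a
  have e' : S.b φ' x = 0 := (T_ker h1 :)
  intro ω hω
  have n0 := (m.flip.NT hφ hφ' hx e).2 h1
  obtain ⟨y, n1, hy⟩ := m.flip.exists_N2 hφ hφ' x
  obtain ⟨n2, n3⟩ := m.r3 hφ hφ' hx hy n0 n1
  have hL := (m.NN hx hy hφ hφ' n2 n3).2.2
  have y1 : y ∈ S.T x φ := (hL ▸ y_sp2 x y : y ∈ S.T x φ ⊓ S.T x φ').1
  have y2 : y ∈ S.T x φ' := (hL ▸ y_sp2 x y : y ∈ S.T x φ ⊓ S.T x φ').2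
  have inN : ∀ {u : V} {χ θ : U}, u ∈ sp2 x y → u ≠ 0 → χ ≠ 0 → S.b χ u = 0 → S.b θ x = 0 →
      y ∈ S.T x θ → S.T u χ = S.T x θ → χ ∈ S.N (sp2 x y) := by
    intro u χ θ b1 b2 b3 b4 b5 b6 b7
    obtain ⟨w, hw, hw'⟩ := exists_nsp1 (A := sp2 x y) (by rw [cd_sp2 hx hy]; omega) u
    rw [← sp2_eq_of_mem b2 hw' b1 hw hx hy]
    exact (m.NT b2 hw' b3 b4).2 (b7 ▸ sp2_le (x_T b5) b6 hw)
  obtain ⟨ψ, ψ0, eψ, tψ⟩ := m.theta hx hφ e y1 (ne0_of hy)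
  obtain ⟨χ, χ0, eχ, tχ⟩ := m.theta hx hφ e (Submodule.add_mem _ (x_T e) y1) (ne0_of (add_sp1 hy))
  have mxy := Submodule.add_mem _ (x_sp2 x y) (y_sp2 x y)
  have nψ := inN (y_sp2 x y) (ne0_of hy) ψ0 eψ e y1 tψ
  have nχ := inN mxy (ne0_of (add_sp1 hy)) χ0 eχ e y1 tχ
  have hψ : ψ ∉ sp1 φ := nsp1 ψ0 (by rintro rfl; exact m.b1 hx hφ e y1 hy tψ)
  have hD := (m.NN hx hy hφ hψ n2 nψ).1
  obtain rfl : χ = φ + ψ := by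
    rw [← hD] at nχ
    rcases nχ with rfl | rfl | rfl | rfl
    · exact absurd rfl χ0
    · exact absurd tχ (m.b1 hx hφ e (Submodule.add_mem _ (x_T e) y1) (add_sp1 hy))
    · exact absurd (tχ.trans tψ.symm) (m.b1 (ne0_of hy) ψ0 eψ
        (tψ ▸ Submodule.add_mem _ (x_T e) y1) (add_sp1' (sp1_symm hx hy)))
    · rfl
  have r1 := hω x φ hx hφ e rfl
  have q := m.RR_QL hx hφ e y1 hy r1
  obtain ⟨z, hz, hz'⟩ := m.exists_T3 hx h0 e' hy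
  obtain ⟨ζ, ζ0, eζ, tζ⟩ := m.theta hx h0 e' hz (ne0_of hz')
  have k : ω ∈ S.ann (S.T z ζ) := tζ ▸ r1 φ' h1 h0
  obtain ⟨η, η1, η2, η3⟩ := m.row (ne0_of hz') ζ0 eζ k
  have l0 := (m.flip.NT ζ0 η2 (ne0_of hz') eζ).2 η1
  have l1 := m.r1 ζ0 η2 (ne0_of hz') l0
  obtain ⟨v, hv, v0⟩ : ∃ v ∈ S.flip.N (sp2 ζ η) ⊓ sp2 x y, v ∉ (⊥ : Submodule F V) := by
    apply exists_not_mem
    have b1 := cd_sup_inf (S.flip.N (sp2 ζ η)) (sp2 x y)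
    have b2 := cd_mono (sup_le (tζ ▸ l1) (sp2_le (x_T e') y2) :
      S.flip.N (sp2 ζ η) ⊔ sp2 x y ≤ S.T x φ')
    rw [m.flip.cN ζ0 η2, cd_sp2 hx hy] at b1
    rw [m.cT hx h0 e'] at b2
    rw [cd_bot]
    by_contra b3
    have := Nat.mul_le_mul b2 (not_lt.1 b3)
    omega
  rw [Submodule.mem_bot] at v0
  have vz : v ∉ sp1 z := nsp1 v0 (by rintro rfl; exact hz' hv.2)
  obtain ⟨n4, n5⟩ := m.r3 ζ0 η2 (ne0_of hz') vz l0 hv.1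
  have q2 := m.QL_of (ne0_of hz') vz ζ0 η2 n4 n5 k η3
  have v1 : v ∈ S.T x φ' := sp2_le (x_T e') y2 hv.2
  obtain ⟨ξ, ξ0, eξ, tξ⟩ := m.theta hx h0 e' v1 v0
  obtain ⟨w, hw, hw'⟩ := exists_nsp1 (A := sp2 x y) (by rw [cd_sp2 hx hy]; omega) v
  have hvw := sp2_eq_of_mem v0 hw' hv.2 hw hx hy
  have r := m.RR_two v0 ξ0 eξ (tξ ▸ sp2_le (x_T e') y2 hw) (tξ ▸ hz) hw' (hvw ▸ hz') (hvw ▸ q)
    (sp2_comm z v ▸ q2)
  have hne : S.T x φ' ≠ S.T x φ := fun b => hz' (hL ▸ ⟨b ▸ hz, hz⟩)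
  have all := m.cells hx hy hφ hψ n2 nψ r1 (hω y ψ (ne0_of hy) ψ0 eψ tψ)
    (hω _ _ (ne0_of (add_sp1 hy)) χ0 eχ tχ) hv.2 (hD ▸ inN hv.2 v0 ξ0 eξ e' y2 tξ) v0 ξ0
    (by rintro ⟨rfl, rfl⟩; exact hne tξ.symm) (by rintro ⟨rfl, rfl⟩; exact hne (tξ.symm.trans tψ))
    (by rintro ⟨rfl, rfl⟩; exact hne (tξ.symm.trans tχ)) r
  intro u θ u0 θ0 eθ tθ
  by_cases b : u ∈ sp2 x y
  · exact all u b u0 θ (hD ▸ inN b u0 θ0 eθ e' y2 tθ) θ0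
  · obtain ⟨κ, κ0, eκ, tκ⟩ := m.theta hx h0 e' y2 (ne0_of hy)
    exact m.RR_out hx hy b h0 κ0 θ0 e' eκ eθ tθ.symm (tκ.trans tθ.symm)
      (all x (x_sp2 _ _) hx φ' (hD ▸ n3) h0)
      (all y (y_sp2 _ _) (ne0_of hy) κ (hD ▸ inN (y_sp2 _ _) (ne0_of hy) κ0 eκ e' y2 tκ) κ0)

theorem Mid.exists_a (m : S.Mid 2) {u w : V} {χ : U} (hu : u ≠ 0) (hχ : χ ≠ 0) (e : S.b χ u = 0)
    (hw : w ∈ S.T u χ) (hw' : w ∉ sp1 u) :
    ∃ a, ∀ ω ∈ S.ann (S.T u χ), S.b ω a = 0 → S.QL ω (sp2 u w) := by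
  have hN := (m.NT hu hw' hχ e).2 hw
  obtain ⟨ψ, h1, hψ⟩ := m.exists_N2 hu hw' χ
  obtain ⟨a, ha, ha'⟩ := m.exists_T3 hu (ne0_of hψ) (N_x h1) hw'
  refine ⟨a, fun ω b1 b2 => m.QL_of hu hw' hχ hψ hN h1 b1 ?_⟩
  rw [← eq_sp3 hu hw' ha' (x_T (N_x h1)) ((m.NT hu hw' (ne0_of hψ) (N_x h1)).1 h1) ha
    (m.cT hu (ne0_of hψ) (N_x h1)), ann_sup, Submodule.mem_inf, mem_ann_sp2, mem_ann_sp1]
  exact ⟨⟨b1 u (x_T e), b1 w hw⟩, b2⟩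

theorem cd_sup_sp1_le (A : Submodule F V) (v : V) : cd (A ⊔ sp1 v) ≤ 2 * cd A := by
  by_cases b : v ∈ A
  · rw [sup_eq_left.2 (sp1_le b)]; omega
  · rw [cd_sup_sp1 b]

theorem Mid.cd_Om (m : S.Mid 2) {x : V} {φ : U} (hx : x ≠ 0) (hφ : φ ≠ 0) (e : S.b φ x = 0) :
    cd (S.flip.ann (S.Om (S.T x φ))) ≤ 64 := by
  obtain ⟨y, hy, hy'⟩ := m.p.exists_T hx hφ e
  obtain ⟨z, hz, hz'⟩ := m.exists_T3 hx hφ e hy'
  obtain ⟨ψ, ψ0, eψ, tψ⟩ := m.theta hx hφ e hy (ne0_of hy')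
  obtain ⟨χ, χ0, eχ, tχ⟩ := m.theta hx hφ e hz (ne0_of hz')
  obtain ⟨a1, k1⟩ := m.exists_a hx hφ e hy hy'
  obtain ⟨a2, k2⟩ := m.exists_a hx hφ e hz (nsp1_of hz')
  obtain ⟨a3, k3⟩ := m.exists_a (ne0_of hy') ψ0 eψ (tψ ▸ hz) (nsp1_of' hz')
  have hle : S.ann (S.T x φ ⊔ sp1 a1 ⊔ sp1 a2 ⊔ sp1 a3) ≤ S.Om (S.T x φ) := by
    intro ω hω
    simp only [ann_sup, Submodule.mem_inf, mem_ann_sp1] at hω
    have q1 := k1 ω hω.1.1.1 hω.1.1.2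
    have q2 := k2 ω hω.1.1.1 hω.1.2
    have q3 := k3 ω (tψ ▸ hω.1.1.1) hω.2
    have i1 : x ∉ sp2 y z := sp2_exch (sp1_symm hx hy') (sp2_comm x y ▸ hz')
    have i2 : y ∉ sp2 x z := sp2_exch hy' hz'
    have r1 := m.RR_two hx hφ e hy hz hy' hz' q1 q2
    have r2 := m.RR_two (ne0_of hy') ψ0 eψ (tψ ▸ x_T e) (tψ ▸ hz) (sp1_symm hx hy')
      (sp2_comm x y ▸ hz') (sp2_comm x y ▸ q1) q3
    have r3 := m.RR_two (ne0_of hz') χ0 eχ (tχ ▸ x_T e) (tχ ▸ hy) (sp1_symm hx (nsp1_of hz'))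
      (sp2_comm x z ▸ i2) (sp2_comm x z ▸ q2) (sp2_comm y z ▸ q3)
    intro u θ u0 θ0 eθ tθ
    by_cases b : u ∈ sp2 x y
    · by_cases c : u = x
      · exact m.RR_out (ne0_of hy') (nsp1_of' hz') (c ▸ i1) ψ0 χ0 θ0 eψ eχ eθ (tψ.trans tθ.symm)
          (tχ.trans tθ.symm) r2 r3
      · refine m.RR_out hx (nsp1_of hz') ?_ hφ χ0 θ0 e eχ eθ tθ.symm (tχ.trans tθ.symm) r1 r3
        exact sp2_exch (nsp1 u0 c) (by rwa [sp2_of_mem b (nsp1 u0 c)])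
    · exact m.RR_out hx hy' b hφ ψ0 θ0 e eψ eθ tθ.symm (tψ.trans tθ.symm) r1 r2
  have h1 : S.flip.ann (S.Om (S.T x φ)) ≤ S.T x φ ⊔ sp1 a1 ⊔ sp1 a2 ⊔ sp1 a3 := by
    rw [← S.ann_ann (S.T x φ ⊔ sp1 a1 ⊔ sp1 a2 ⊔ sp1 a3)]
    exact fun v hv ω hω => hv ω (hle hω)
  have h2 := cd_mono h1
  have h3 := cd_sup_sp1_le (S.T x φ ⊔ sp1 a1 ⊔ sp1 a2) a3
  have h4 := cd_sup_sp1_le (S.T x φ ⊔ sp1 a1) a2
  have h5 := cd_sup_sp1_le (S.T x φ) a1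
  rw [m.cT hx hφ e] at h5
  omega

theorem Mid.bound (m : S.Mid 2) {u : V} {φ : U} (hu : u ≠ 0) (hφ : φ ≠ 0) (e : S.b φ u = 0) :
    {ψ | ψ ≠ 0 ∧ S.b ψ u = 0 ∧ S.Om (S.T u ψ) = S.Om (S.T u φ)}.ncard ≤ 31 := by
  have k : ∀ ψ, ψ ≠ 0 → S.b ψ u = 0 → S.T u ψ ≤ S.flip.ann (S.Om (S.T u ψ)) :=
    fun ψ a1 a2 v hv ω hω => hω u ψ hu a1 a2 rfl ψ (x_T (S := S.flip) a2) a1 v hv
  have := dc_le {ψ | ψ ≠ 0 ∧ S.b ψ u = 0 ∧ S.Om (S.T u ψ) = S.Om (S.T u φ)}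
    {v | v ∈ S.flip.ann (S.Om (S.T u φ)) ∧ v ∉ sp1 u} (fun ψ v => v ∈ S.T u ψ) 6 3
    (fun ψ hψ => by
      have := ncard_diff_sub (sp1_le (x_T hψ.2.1))
      rw [m.cT hu hψ.1 hψ.2.1, cd_sp1 hu] at this
      rw [← show 8 - 2 = 6 from rfl, ← this]
      exact Set.ncard_le_ncard (fun v hv => ⟨⟨hψ.2.2 ▸ k ψ hψ.1 hψ.2.1 hv.1, hv.2⟩, hv.1⟩)
        (Set.toFinite _))
    (fun v hv => by
      have := ncard_ne0 (S.N (sp2 u v))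
      rw [m.cN hu hv.2] at this
      rw [← show 4 - 1 = 3 from rfl, ← this]
      exact Set.ncard_le_ncard (fun ψ hψ => ⟨(m.NT hu hv.2 hψ.1.1 hψ.1.2.1).2 hψ.2, hψ.1.1⟩)
        (Set.toFinite _))
  rw [ncard_diff_sub (sp1_le (k φ hφ e (x_T e))), cd_sp1 hu] at this
  have := m.cd_Om hu hφ e
  omega

theorem Mid.false {c : ℕ} (m : S.Mid c) : False := by
  obtain rfl := m.two
  obtain ⟨x, φ, hx, hφ, e⟩ := m.h.exists_flag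
  have cl : ∀ a w, a ≠ 0 → S.b φ a = 0 → w ∈ S.T a φ → w ≠ 0 →
      S.flip.Om (S.flip.T φ w) = S.flip.Om (S.flip.T φ a) := fun a w a0 ea hw w0 =>
    le_antisymm (m.flip.latin hφ w0 (T_ker hw :) (m.Tsym a0 hφ ea hw w0) a0)
      (m.flip.latin hφ a0 ea hw w0)
  refine friend {w | w ≠ 0 ∧ S.b φ w = 0 ∧ S.flip.Om (S.flip.T φ w) = S.flip.Om (S.flip.T φ x)}
    (fun a w => w ∈ S.T a φ ∧ w ∉ sp1 a) ⟨x, hx, e, rfl⟩ (m.flip.bound hφ hx e)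
    (fun a ha c hc h => ⟨m.Tsym ha.1 hφ ha.2.1 h.1 hc.1, sp1_symm ha.1 h.2⟩)
    (fun a _ h => h.2 (x_sp1 a)) (fun a ha => ?_) (fun a ha c hc ac => ?_)
  · have := ncard_diff_sub (sp1_le (x_T (S := S) ha.2.1))
    rw [m.cT ha.1 hφ ha.2.1, cd_sp1 ha.1] at this
    rw [← show 8 - 2 = 6 from rfl, ← this]
    congr 1; ext w
    exact ⟨fun h => h.2, fun h => ⟨⟨ne0_of h.2, (T_ker h.1 :),
      (cl a w ha.1 ha.2.1 h.1 (ne0_of h.2)).trans ha.2.2⟩, h⟩⟩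
  · rw [Set.ncard_le_one (Set.toFinite _)]
    intro v hv w hw
    by_contra vw
    have c1 := m.Tsym hc.1 hφ hc.2.1 hv.2.2.1 hv.1.1
    have c2 := m.Tsym hc.1 hφ hc.2.1 hw.2.2.1 hw.1.1
    have c3 := m.quad ha.1 hφ ha.2.1 hv.2.1.1 hw.2.1.1 hv.2.1.2 hw.2.1.2 (Ne.symm vw) c1 c2
    have k : ∀ v, v ∈ S.T a φ → v ∉ sp1 a → c ∈ S.T v φ → v ∉ sp1 c → c = a + v := by
      intro v b1 b2 b3 b4
      have : c ∈ sp2 a v := by rw [m.line ha.1 hφ ha.2.1 b1 b2]; exact ⟨c3, b3⟩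
      rcases this with b | b | b | b
      · exact absurd b hc.1
      · exact absurd b.symm ac
      · exact absurd (Or.inr b.symm) b4
      · exact b
    exact vw (add_left_cancel ((k v hv.2.1.1 hv.2.1.2 c1 hv.2.2.2).symm.trans
      (k w hw.2.1.1 hw.2.1.2 c2 hw.2.2.2)))

end Sys

end Cfsg.Agent.H32.CK
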