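import Cfsg.Agent.H32.CKe

/-!
The case of parameter one: an alternating trilinear form without singular vectors.
-/

set_option autoImplicit false

namespace Cfsg.Agent.H32.CK

open MvPolynomial Matrix

theorem adj_rel {ι R : Type*} [Fintype ι] [DecidableEq ι] [CommRing R] (A : Matrix ι ι R)
    (x : ι → R) (h : A *ᵥ x = 0) (i j k : ι) : A.adjugate k j * x i = x k * A.adjugate i j := by
  let A' := A.updateRow j (Pi.single k 1)
  have h1 : A' *ᵥ x = Pi.single j (x k) := by
    ext l
    by_cases e : l = j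
    · subst e; simp [A', Matrix.mulVec]
    · have := congrFun h l
      simp only [Matrix.mulVec] at this
      simp [A', Matrix.mulVec, Matrix.updateRow_ne e, e, this]
  have h2 := congrFun (Matrix.mulVec_mulVec x A'.adjugate A') i
  rw [h1, Matrix.adjugate_mul, Matrix.mulVec_single, Matrix.smul_mulVec, Matrix.one_mulVec] at h2
  have h3 : A'.adjugate i j = A.adjugate i j := by
    rw [Matrix.adjugate_apply, Matrix.adjugate_apply, Matrix.updateRow_idem]
  rw [Matrix.adjugate_apply A k j, mul_comm (x k), ← h3]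
  simpa using h2.symm

theorem no_form {ι : Type*} [Fintype ι] [DecidableEq ι] (hn : 4 ≤ Fintype.card ι)
    (t : ι → ι → ι → F) (s1 : ∀ i j k, t i j k = t j i k) (s2 : ∀ i j k, t i j k = t i k j)
    (s3 : ∀ i k, t i i k = 0)
    (nd : ∀ a w : ι → F, a ≠ 0 → (∀ k, ∑ j, (∑ i, t i k j * a i) * w j = 0) → w = 0 ∨ w = a) :
    False := by
  let A : Matrix ι ι (MvPolynomial ι F) := Matrix.of fun j k => ∑ i, C (t i j k) * X i
  have hA : A *ᵥ X = 0 := by
    funext j
    simp only [Matrix.mulVec, dotProduct, A, Matrix.of_apply, Finset.sum_mul, Pi.zero_apply]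
    rw [← Finset.sum_product']
    refine Finset.sum_involution (fun p _ => p.swap) (fun p _ => ?_) (fun p _ h e => h ?_)
      (fun p _ => by simp) (fun p _ => rfl)
    · simp only [Prod.fst_swap, Prod.snd_swap]
      rw [s1 p.1 j p.2, s2 j p.1 p.2, s1 j p.2 p.1, mul_right_comm (C _) (X p.1)]
      exact CharTwo.add_self_eq_zero _
    · have : p.2 = p.1 := congrArg Prod.fst e
      rw [this, s2, s3]; simp
  have hT : Aᵀ = A := by ext1 j k; simp only [A, transpose_apply, Matrix.of_apply, s2 _ j k]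
  have hB : ∀ j k, A.adjugate j k = A.adjugate k j := fun j k => by
    conv_lhs => rw [← hT, ← Matrix.adjugate_transpose, transpose_apply]
  obtain ⟨o, i, hi⟩ : ∃ o i : ι, o ≠ i := Fintype.exists_pair_of_one_lt_card (by omega)
  have rel := adj_rel A X hA
  have dv : ∀ p : MvPolynomial ι F, X o ∣ p * X i → X o ∣ p := fun p h =>
    (X_prime.dvd_or_dvd h).resolve_right (by rw [X_dvd_X]; exact hi)
  obtain ⟨ν, hν⟩ := dv (A.adjugate o o) ⟨_, rel i o o⟩
  have h1 : ∀ k, A.adjugate k o = X k * ν := fun k =>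
    mul_left_cancel₀ (X_ne_zero o) (by rw [← rel k o o, hν]; ring)
  obtain ⟨μ, hμ⟩ := dv ν (dv _ ⟨A.adjugate i i, by
    rw [← rel i i o, hB o i, h1 i]; ring⟩)
  have h2 : ∀ j, A.adjugate j j = X j ^ 2 * μ := fun j =>
    mul_left_cancel₀ (X_ne_zero o) (by rw [← rel j j o, hB o j, h1 j, hμ]; ring)
  have h3 : ∀ a : ι → F, a ≠ 0 → eval a μ ≠ 0 := by
    intro a ha h
    obtain ⟨j, hj⟩ := Function.ne_iff.1 ha
    have hj : a j = 1 := F_ne0.1 hj
    have e1 := congrArg (eval a) (h2 j)
    rw [map_mul, h, mul_zero, Matrix.adjugate_apply, RingHom.map_det,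
      ← Matrix.exists_mulVec_eq_zero_iff] at e1
    obtain ⟨w, w0, hw⟩ := e1
    have e2 : w j = 0 := by
      simpa [Matrix.mulVec, dotProduct, Pi.single_apply, apply_ite (eval a)] using congrFun hw j
    have e3 : ∀ k, k ≠ j → ∑ l, (∑ i, t i k l * a i) * w l = 0 := fun k hk => by
      simpa [Matrix.mulVec, dotProduct, Matrix.updateRow_ne hk, A] using congrFun hw k
    have e4 : ∑ k, a k * ∑ l, (∑ i, t i k l * a i) * w l = 0 := by
      have : ∀ l, ∑ k, (∑ i, t i l k * a i) * a k = 0 := fun l => by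
        simpa [Matrix.mulVec, dotProduct, A] using congrArg (eval a) (congrFun hA l)
      simp only [Finset.mul_sum]
      rw [Finset.sum_comm]
      refine Finset.sum_eq_zero fun l _ => ?_
      rw [← mul_zero (w l), ← this l, Finset.mul_sum]
      refine Finset.sum_congr rfl fun k _ => ?_
      simp only [s2 _ l k]; ring
    rw [Finset.sum_eq_single j (fun k _ hk => by rw [e3 k hk, mul_zero]) (by simp), hj,
      one_mul] at e4
    rcases nd a w ha (fun k => by
      by_cases hk : k = j
      · rw [hk]; exact e4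
      · exact e3 k hk) with e | e
    · exact w0 e
    · rw [e, hj] at e2; exact one_ne_zero e2
  have h4 : (A.adjugate o o).IsHomogeneous (Fintype.card ι - 1) := by
    rw [Matrix.adjugate_apply, Matrix.det_apply']
    refine IsHomogeneous.sum _ _ _ fun σ _ => ?_
    rw [← map_intCast (C : F →+* MvPolynomial ι F)]
    refine IsHomogeneous.C_mul ?_ _
    have : Fintype.card ι - 1 = ∑ k : ι, if σ k = o then 0 else 1 := by
      rw [Equiv.sum_comp σ (fun l => if l = o then 0 else 1), Finset.sum_ite]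
      simp [Finset.filter_ne', Finset.card_erase_of_mem]
    rw [this]
    refine IsHomogeneous.prod _ _ _ fun k _ => ?_
    split_ifs with e
    · rw [e, Matrix.updateRow_self, Pi.single_apply]
      split_ifs
      exacts [isHomogeneous_one _ _, isHomogeneous_zero _ _ _]
    · rw [Matrix.updateRow_ne e]
      exact IsHomogeneous.sum _ _ _ fun l _ => (isHomogeneous_X _ _).C_mul _
  have μ0 : μ ≠ 0 := fun e => h3 (fun _ => 1) (fun e' => one_ne_zero (congrFun e' o)) (by simp [e])
  have h5 := h4.totalDegree_le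
  rw [h2 o, totalDegree_mul_of_isDomain (pow_ne_zero _ (X_ne_zero o)) μ0] at h5
  have h6 : eval 0 μ = 0 := by
    have := h4.coeff_eq_zero (d := Finsupp.single o 2 + 0) (by simp; omega)
    rw [h2 o, X_pow_eq_monomial, coeff_monomial_mul, one_mul] at this
    simpa [constantCoeff_eq] using this
  have h7 := char_dvd_card_solutions 2 (f := μ) (by omega)
  have : Fintype.card {x : ι → F // eval x μ = 0} = 1 :=
    Fintype.card_eq_one_iff.2 ⟨⟨0, h6⟩, fun y => Subtype.ext (by_contra fun e => h3 y e y.2)⟩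
  omega

variable {G V U : Type*} [Group G] [AddCommGroup V] [Module F V] [AddCommGroup U]
    [Module F U] [DistribMulAction G V] [DistribMulAction G U]

theorem lin_sum {ι : Type*} [Fintype ι] (f : V → F) (h : ∀ v w, f (v + w) = f v + f w)
    (a : ι → F) (e : ι → V) : f (∑ i, a i • e i) = ∑ i, f (e i) * a i := by
  have := map_sum ((AddMonoidHom.mk' f h).toZModLinearMap 2) (fun i => a i • e i) Finset.univ
  simp only [map_smul] at this
  exact this.trans (Finset.sum_congr rfl fun i _ => mul_comm _ _)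

namespace Sys
variable {S : Sys G V U} [Finite G] [Finite V] [Finite U]

theorem Hyp.not_one (h : S.Hyp) (p : S.Par 1) (h16 : 16 ≤ Nat.card V) : False := by
  classical
  let Z : V → V → V → Prop := fun x y z =>
    x ≠ 0 → y ∉ sp1 x → z ∈ S.flip.ann (S.N (sp2 x y))
  let f : V → V → V → F := fun x y z => if Z x y z then 0 else 1
  have f0 : ∀ x y z, Z x y z → f x y z = 0 := fun x y z a => if_pos a
  have f1 : ∀ x y, x ≠ 0 → y ∉ sp1 x → ∃ φ, φ ≠ 0 ∧ ∀ z, f x y z = S.b φ z := by
    intro x y hx hy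
    obtain ⟨φ, h1, h2⟩ := exists_not_mem (A := ⊥) (B := S.N (sp2 x y))
      (by rw [cd_bot, p.cN hx hy]; omega)
    have h2 := ne0_of h2
    have e : sp1 φ = S.N (sp2 x y) := eq_of_cd (sp1_le h1) (by rw [cd_sp1 h2, p.cN hx hy]; omega)
    refine ⟨φ, h2, fun z => ?_⟩
    simp only [f, Z, ← e, mem_ann_sp1, flip_b]
    rcases F01 (S.b φ z) with a | a <;> simp [a, hx, hy]
  have f2 : ∀ x y v w, f x y (v + w) = f x y v + f x y w := by
    intro x y v w
    by_cases a : x ≠ 0 ∧ y ∉ sp1 x
    · obtain ⟨φ, -, e⟩ := f1 x y a.1 a.2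
      simp [e]
    · have : ∀ z, f x y z = 0 := fun z => f0 x y z fun b c => absurd ⟨b, c⟩ a
      simp [this]
  have z1 : ∀ x y z, Z x y z → Z y x z := fun x y z a hy hx => by
    rw [sp2_comm]; exact a (ne0_of hx) (sp1_symm hy hx)
  have z2 : ∀ x y z, Z x y z → Z x z y := fun x y z a hx hz => by
    by_cases b : y ∈ sp2 x z
    · exact fun φ hφ => hφ.2 y b
    · exact h.bsym hx (nsp1_of b) (sp2_exch hz b) (a hx (nsp1_of b))
  have s1 : ∀ x y z, f x y z = f y x z := fun x y z => by
    simp only [f, (⟨z1 x y z, z1 y x z⟩ : Z x y z ↔ Z y x z)]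
  have s2 : ∀ x y z, f x y z = f x z y := fun x y z => by
    simp only [f, (⟨z2 x y z, z2 x z y⟩ : Z x y z ↔ Z x z y)]
  let e := Module.finBasis F V
  have hn : 4 ≤ Module.finrank F V := by
    have := Module.natCard_eq_pow_finrank (K := F) (V := V)
    rw [Nat.card_zmod] at this
    rw [this] at h16
    exact (Nat.pow_le_pow_iff_right (a := 2) (by norm_num)).1 h16
  refine no_form (by simpa using hn) (fun i j k => f (e i) (e j) (e k)) (fun _ _ _ => s1 _ _ _)
    (fun _ _ _ => s2 _ _ _) (fun i k => f0 _ _ _ fun _ b => absurd (x_sp1 _) b) fun a w ha hw => ?_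
  have inj := e.equivFun.symm.injective
  have hx : e.equivFun.symm a ≠ 0 := fun b => ha (inj (b.trans (map_zero _).symm))
  by_contra hc
  have hy : e.equivFun.symm w ∉ sp1 (e.equivFun.symm a) := by
    rintro (b | b)
    · exact hc (Or.inl (inj (b.trans (map_zero _).symm)))
    · exact hc (Or.inr (inj b))
  obtain ⟨φ, h1, h2⟩ := f1 _ _ hx hy
  refine h1 (S.sepU φ fun v => ?_)
  rw [← e.sum_equivFun v, lin_sum (S.b φ) (S.addr φ)]
  refine Finset.sum_eq_zero fun k _ => ?_
  rw [← h2, s2, Module.Basis.equivFun_symm_apply e w, lin_sum _ (f2 _ _), ← zero_mul, ← hw k]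
  congr 1
  refine Finset.sum_congr rfl fun j _ => ?_
  congr 1
  rw [s1, s2, Module.Basis.equivFun_symm_apply e a, lin_sum _ (f2 _ _)]
  exact Finset.sum_congr rfl fun i _ => by rw [s2, s1]

end Sys

end Cfsg.Agent.H32.CK
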