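import Cfsg.Agent.H32.CKg
import Cfsg.Agent.H32.CKh

/-!
The theorem of Cameron and Kantor over the field with two elements.
-/

set_option autoImplicit false

namespace Cfsg.Agent.H32.CK

/-- The dual space. -/
def Du (V : Type*) [AddCommGroup V] := V →+ F

instance (V : Type*) [AddCommGroup V] : AddCommGroup (Du V) :=
  inferInstanceAs (AddCommGroup (V →+ F))
instance (V : Type*) [AddCommGroup V] : Module F (Du V) := inferInstanceAs (Module F (V →+ F))
instance (V : Type*) [AddCommGroup V] [Finite V] : Finite (Du V) :=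
  (Finite.of_injective _ DFunLike.coe_injective : Finite (V →+ F))

/-- Evaluation of a functional. -/
def Du.ev {V : Type*} [AddCommGroup V] (f : Du V) : V →+ F := f

instance (G V : Type*) [Group G] [AddCommGroup V] [DistribMulAction G V] :
    DistribMulAction G (Du V) where
  smul g f := f.ev.comp (DistribMulAction.toAddMonoidHom V g⁻¹)
  one_smul f := AddMonoidHom.ext fun v => congrArg f.ev (by simp)
  mul_smul g h f := AddMonoidHom.ext fun v => congrArg f.ev (by simp [mul_smul])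
  smul_zero _ := rfl
  smul_add _ _ _ := rfl

/-- A space paired with its dual. -/
def duSys (G V : Type*) [Group G] [AddCommGroup V] [Module F V] [DistribMulAction G V] :
    Sys G V (Du V) where
  b f v := f.ev v
  addl _ _ _ := rfl
  addr f v w := map_add f.ev v w
  inv g f v := congrArg f.ev (inv_smul_smul g v)
  sepV v h := (Module.forall_dual_apply_eq_zero_iff F v).1 fun f => h f.toAddMonoidHom
  sepU _ h := AddMonoidHom.ext h

variable {G V U : Type*} [Group G] [AddCommGroup V] [Module F V] [AddCommGroup U]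
    [Module F U] [DistribMulAction G V] [DistribMulAction G U]

theorem smul_smulF (g : G) (c : F) (v : V) : g • c • v = c • g • v := by
  rcases F01 c with rfl | rfl <;> simp

namespace Sys

/-- All transvections are induced. -/
def Full (S : Sys G V U) : Prop :=
  ∀ v φ, S.b φ v = 0 → ∃ g : G, ∀ w, g • w = w + S.b φ w • v

/-- The annihilator of a vector as a type. -/
def Sub (S : Sys G V U) (x : V) : Submodule F U := S.flip.ker x

instance (S : Sys G V U) (x : V) : DistribMulAction (MulAction.stabilizer G x) (S.Sub x) where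
  smul g φ := ⟨(g : G) • φ.1, by
    change S.b _ x = 0
    rw [S.invl, inv_fix (show (g : G) • x = x from g.2)]; exact φ.2⟩
  one_smul φ := Subtype.ext (one_smul G φ.1)
  mul_smul g h φ := Subtype.ext (mul_smul (g : G) (h : G) φ.1)
  smul_zero g := Subtype.ext (smul_zero (g : G))
  smul_add g φ ψ := Subtype.ext (smul_add (g : G) φ.1 ψ.1)

/-- All transvections are induced modulo a fixed vector. -/
def KF (S : Sys G V U) (x : V) : Prop :=
  ∀ v θ, S.b θ x = 0 → S.b θ v = 0 → ∃ g : G, g • x = x ∧ ∀ w, g • w + w + S.b θ w • v ∈ sp1 x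

variable {S : Sys G V U}

@[simp] theorem smull (c : F) (φ : U) (v : V) : S.b (c • φ) v = c * S.b φ v := by
  rcases F01 c with rfl | rfl <;> simp

@[simp] theorem smulr (c : F) (φ : U) (v : V) : S.b φ (c • v) = c * S.b φ v := by
  rcases F01 c with rfl | rfl <;> simp

theorem Full.of_flip (h : S.flip.Full) : S.Full := by
  intro v φ e
  obtain ⟨g, hg⟩ := h φ v e
  exact ⟨g⁻¹, fun w => S.extV fun ψ => by rw [← S.invl, hg]; simp [mul_comm]⟩

variable [Finite G] [Finite V] [Finite U]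

theorem Hyp.tv (h : S.Hyp) {φ : U} (hφ : φ ≠ 0) {g : G} (h1 : ∀ w, S.b φ w = 0 → g • w = w)
    {u : V} (h2 : g • u ≠ u) : S.Full := by
  have e1 : S.b φ u = 1 := F_ne0.1 (mt (h1 u) h2)
  have e2 : S.b φ (g • u) = 1 := F_ne0.1 fun a => h2 (by simpa using h1 _ a)
  have e3 : ∀ w, g • w = w + S.b φ w • (g • u + u) := fun w => by
    rcases F01 (S.b φ w) with a | a
    · simp [a, h1 w a]
    · have := h1 (w + u) (by simp [a, e1])
      rw [smul_add] at this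
      rw [a, one_smul, add_comm (g • u), ← add_assoc, ← this, wvv]
  intro v ψ e
  by_cases a : v = 0
  · exact ⟨1, by simp [a]⟩
  by_cases c : ψ = 0
  · exact ⟨1, by simp [c]⟩
  obtain ⟨k, rfl, rfl⟩ := h.pair (mt add_eq0.1 h2) a hφ c (by simp [e1, e2, e])
  refine ⟨k * g * k⁻¹, fun w => ?_⟩
  rw [mul_smul, mul_smul, e3, smul_add, smul_inv_smul, smul_smulF, S.invl]

theorem Hyp.tv' (h : S.Hyp) {x : V} (hx : x ≠ 0) {g : G} (h1 : ∀ w, g • w + w ∈ sp1 x)
    {u : V} (h2 : g • u ≠ u) : S.Full := by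
  have k : ∀ ψ w, S.b (g⁻¹ • ψ) w = S.b ψ (g • w) := fun ψ w => (S.invr g ψ w).symm
  obtain ⟨ψ, hψ⟩ := S.ex1 (mt add_eq0.1 h2)
  refine (h.flip.tv hx (g := g⁻¹) (fun θ hθ => S.flip.extV fun w => ?_) (u := ψ) fun a => ?_).of_flip
  · have := S.mem_ann_sp1.2 hθ _ (h1 w)
    rw [flip_b, flip_b, k]
    exact F_add_eq0.1 (by simpa using this)
  · rw [S.addr, ← k, a] at hψ
    simp at hψ

omit [Finite G] in
theorem KF_of {x : V} (h : (duSys (MulAction.stabilizer G x) (S.Sub x)).Full) : S.KF x := by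
  intro v θ e1 e2
  obtain ⟨g, hg⟩ := h ⟨θ, e1⟩ (AddMonoidHom.mk' (fun ψ => S.b ψ.1 v) fun _ _ => S.addl _ _ _) e2
  refine ⟨(g : G)⁻¹, inv_fix g.2, fun w => ?_⟩
  by_contra a
  obtain ⟨ψ, h1, h2⟩ := S.sep a
  have : (g : G) • ψ = ψ + S.b ψ v • θ := congrArg Subtype.val (hg ⟨ψ, S.mem_ann_sp1.1 h1⟩)
  rw [S.addr, S.addr, ← S.invl, this] at h2
  simp only [addl, smull, smulr] at h2
  revert h2
  generalize S.b ψ w = a, S.b ψ v = c, S.b θ w = d
  revert a c d; decide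

theorem Hyp.sub (h : S.Hyp) (h8 : 8 ≤ Nat.card V) {x : V} (hx : x ≠ 0)
    (hT : ∀ φ, φ ≠ 0 → S.b φ x = 0 → S.T x φ = S.ker φ) :
    (duSys (MulAction.stabilizer G x) (S.Sub x)).Hyp := by
  constructor
  · intro φ ψ φ' ψ' h1 h2 h3 h4
    have n0 : ∀ {φ : S.Sub x}, φ ≠ 0 → φ.1 ≠ 0 := fun a b => a (Subtype.ext b)
    have n1 : ∀ {φ ψ : S.Sub x}, ψ ∉ sp1 φ → ψ.1 ∉ sp1 φ.1 := fun a b =>
      a (b.imp Subtype.ext Subtype.ext)
    have n2 : ∀ {θ : U}, θ ∉ sp1 φ'.1 → θ ∉ S.ann (S.T x φ'.1) := fun a b => by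
      obtain ⟨m, hm, e⟩ := S.flip.sep a
      rw [hT _ (n0 h3) φ'.2] at b
      have := b m (S.flip.mem_ann_sp1.1 hm)
      rw [show S.b _ m = 1 from e] at this
      exact one_ne_zero this
    obtain ⟨g, e1, e2⟩ := h.f2 hx (n0 h1) (n0 h3) (φ.2.trans φ'.2.symm)
    obtain ⟨k, hk, e3⟩ := T_trU (ψ := g • ψ.1) (by rw [S.invl, inv_fix e1]; exact ψ.2) ψ'.2
      (n2 (by rw [← e2, smul_mem_sp1]; exact n1 h2)) (n2 (n1 h4))
    refine ⟨⟨k * g, ?_⟩, Subtype.ext ?_, Subtype.ext ?_⟩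
    · rw [MulAction.mem_stabilizer_iff, mul_smul, e1, hk.1]
    · exact (mul_smul k g φ.1).trans (by rw [e2, hk.2])
    · exact (mul_smul k g ψ.1).trans e3
  · have := S.flip.cd_ker hx
    rw [S.card_eq] at this
    change 4 ≤ cd (S.flip.ker x)
    omega

theorem Hyp.full_of_KF (h : S.Hyp) (h32 : 32 ≤ Nat.card V) {x : V} (hx : x ≠ 0) (hK : S.KF x) :
    S.Full := by
  have c1 := S.flip.cd_ker hx
  rw [S.card_eq] at c1
  obtain ⟨φ, eφ, hφ⟩ := exists_nsp1 (A := S.flip.ker x) (by omega) 0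
  have hφ := ne0_of hφ
  have eφ : S.b φ x = 0 := eφ
  have c2 := S.cd_ker hφ
  obtain ⟨y, ey, hy⟩ := exists_nsp1 (A := S.ker φ) (by omega) x
  have ey : S.b φ y = 0 := ey
  obtain ⟨g, g1, g2⟩ := hK y φ eφ ey
  by_cases a : ∀ w, S.b φ w = 0 → g • w = w
  · obtain ⟨u, hu⟩ := S.flip.ex1 hφ
    refine h.tv hφ a (u := u) fun b => hy ?_
    simpa [b, vv, show S.b φ u = 1 from hu] using g2 u
  push Not at a
  obtain ⟨z, ez, hz⟩ := a
  have gz : g • z = z + x := by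
    rcases g2 z with b | b
    · exact absurd (add_eq0.1 (by simpa [ez] using b)) hz
    · rw [← b, ez, zero_smul, add_zero, add_comm z, wvv]
  obtain ⟨w, ew, hw⟩ := exists_not_mem (A := sp2 x y ⊔ sp1 z) (B := S.ker φ) (by
    have := cd_sup_sp1_le (sp2 x y) z
    rw [cd_sp2 hx hy] at this; omega)
  have ew : S.b φ w = 0 := ew
  obtain ⟨ψ, h1, e1⟩ := S.sep hw
  rw [ann_sup, Submodule.mem_inf, mem_ann_sp2, mem_ann_sp1] at h1
  obtain ⟨k, k1, k2⟩ := hK z ψ h1.1.1 h1.2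
  have fx : ∀ {l : G}, l • x = x → ∀ v ∈ sp1 x, l • v = v := by
    rintro l hl v (rfl | rfl) <;> simp [hl]
  have key : ∀ v, (g * k) • v + (k * g) • v = S.b ψ v • x + S.b φ v • (k • y + y) := by
    intro v
    have a1 : g • v = (g • v + v + S.b φ v • y) + v + S.b φ v • y := by
      rw [add_right_comm, wvv, wvv]
    have a2 : k • v = (k • v + v + S.b ψ v • z) + v + S.b ψ v • z := by
      rw [add_right_comm, wvv, wvv]
    have a3 := fx k1 _ (g2 v)
    have a4 := fx g1 _ (k2 v)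
    generalize g • v + v + S.b φ v • y = p at *
    generalize k • v + v + S.b ψ v • z = q at *
    rw [mul_smul, mul_smul, a1, a2]
    simp only [smul_add, a3, a4, smul_smulF, gz]
    rw [a1, a2]
    apply S.extV
    intro θ
    simp only [addr, smulr]
    generalize S.b θ p = b1, S.b θ q = b2, S.b θ v = b3, S.b θ x = b4, S.b θ y = b5, S.b θ z = b6,
      S.b θ (k • y) = b7, S.b φ v = b8, S.b ψ v = b9
    revert b1 b2 b3 b4 b5 b6 b7 b8 b9; decide
  have kg : (k * g)⁻¹ • x = x := inv_fix (by rw [mul_smul, g1, k1])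
  have ky : k • y + y ∈ sp1 x := by simpa [h1.1.2] using k2 y
  refine h.tv' hx (g := (k * g)⁻¹ * (g * k)) (fun v => ?_) (u := w) fun b => hx ?_
  · have : ((k * g)⁻¹ * (g * k)) • v + v = (k * g)⁻¹ • ((g * k) • v + (k * g) • v) := by
      rw [smul_add, inv_smul_smul, mul_smul]
    have m : S.b ψ v • x + S.b φ v • (k • y + y) ∈ sp1 x :=
      Submodule.add_mem _ (Submodule.smul_mem _ _ (x_sp1 x)) (Submodule.smul_mem _ _ ky)
    rw [this, key, fx kg _ m]; exact m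
  · rw [mul_smul, inv_smul_eq_iff] at b
    have := key w
    rw [b, vv, e1, ew] at this
    simpa using this.symm

theorem Hyp.five (h : S.Hyp) (h32 : Nat.card V = 32) {x : V} (hx : x ≠ 0)
    (hs : (duSys (MulAction.stabilizer G x) (S.Sub x)).Hyp) : S.Full := by
  have c1 := S.flip.cd_ker hx
  rw [S.card_eq] at c1
  obtain ⟨P, hP⟩ := exists_syl (MulAction.stabilizer G x)
  have Px : ∀ g ∈ P, g • x = x := fun g hg => hP.1 hg
  have i : ∀ g ∈ MulAction.stabilizer G x, ∀ φ, S.b (g • φ) x = S.b φ x := fun g hg φ => by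
    conv_lhs => rw [← show g • x = x from hg, S.inv]
  have cX : {φ | φ ∈ (⊤ : Submodule F U) ∧ φ ∉ S.flip.ker x}.ncard = 2 ^ 4 := by
    rw [ncard_diff_sub le_top, cd_top, S.card_eq]; omega
  have t := hP.tr cX (fun g hg φ hφ => ⟨trivial, by rw [mem_ker, flip_b, i g hg]; exact hφ.2⟩)
    (fun φ h1 ψ h2 => h.f2 hx (ne0_of h1.2) (ne0_of h2.2)
      ((F_ne0.1 h1.2).trans (F_ne0.1 h2.2).symm))
  have iP : ∀ g ∈ P, ∀ φ ∈ S.flip.ker x, g • φ ∈ S.flip.ker x := fun g hg φ hφ => by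
    rw [mem_ker, flip_b, i g (hP.1 hg)]; exact hφ
  obtain ⟨ψ₁, m1, f1⟩ := fix_odd (X := {v | v ∈ S.flip.ker x ∧ v ≠ 0}) hP.2.1
    (by rw [ncard_ne0, show cd (S.flip.ker x) = 16 by omega]; decide)
    (fun g hg v hv => ⟨iP g hg v hv.1, smul_ne0 g hv.2⟩)
  obtain ⟨ψ₂, m2, n2, f2⟩ := S.flip.fix_pair hP.2.1 m1.2 f1 m1.1 iP (by omega)
  have iD : ∀ g ∈ P, ∀ φ ∈ sp2 ψ₁ ψ₂, g • φ ∈ sp2 ψ₁ ψ₂ := fun g hg φ hφ => by
    have := (smul_mem_sp2 (g := g)).2 hφ
    rw [f1 g hg] at this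
    refine sp2_le (x_sp2 _ _) ?_ this
    rcases f2 g hg with a | a <;> rw [a]
    exacts [y_sp2 _ _, Submodule.add_mem _ (y_sp2 _ _) (x_sp2 _ _)]
  have c2 := S.flip.cd_ann' (sp2 ψ₁ ψ₂)
  rw [cd_sp2 m1.2 n2] at c2
  obtain ⟨y, my, ny, fy⟩ := S.fix_pair hP.2.1 hx Px (M := S.flip.ann (sp2 ψ₁ ψ₂))
    (S.flip.mem_ann_sp2.2 ⟨m1.1, m2⟩) (fun g hg v hv φ hφ => by
      rw [flip_b, S.invr]; exact hv _ (iD _ (P.inv_mem hg) φ hφ)) (by omega)
  have c3 := S.cd_ann (sp2 x y)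
  rw [cd_sp2 hx ny] at c3
  have le : sp2 ψ₁ ψ₂ ≤ S.ann (sp2 x y) := fun φ hφ =>
    S.mem_ann_sp2.2 ⟨sp2_le (A := S.flip.ker x) m1.1 m2 hφ, my φ hφ⟩
  obtain ⟨ψ₃, m3, n3⟩ := exists_not_mem (A := sp2 ψ₁ ψ₂) (B := S.ann (sp2 x y))
    (by rw [cd_sp2 m1.2 n2]; omega)
  obtain ⟨φ₀, e0⟩ := S.ex1 hx
  have m0 : φ₀ ∈ {φ | φ ∈ (⊤ : Submodule F U) ∧ φ ∉ S.flip.ker x} := ⟨trivial, F_ne0.2 e0⟩
  choose! s s1 s2 using t φ₀ m0
  obtain ⟨φ, h1, φ', h2, h3, h4⟩ := Set.exists_ne_map_eq_of_ncard_lt_of_maps_to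
    (s := {φ | φ ∈ (⊤ : Submodule F U) ∧ φ ∉ S.flip.ker x})
    (t := ({ψ₂, ψ₂ + ψ₁} : Set U) ×ˢ {θ | θ ∈ S.ann (sp2 x y) ∧ θ ∉ sp2 ψ₁ ψ₂})
    (f := fun φ => (s φ • ψ₂, s φ • ψ₃)) (by
      rw [cX, Set.ncard_prod, ncard_diff_sub le, cd_sp2 m1.2 n2]
      have := Set.ncard_insert_le ψ₂ {ψ₂ + ψ₁}
      rw [Set.ncard_singleton] at this
      have : cd (S.ann (sp2 x y)) - 4 = 4 := by omega
      rw [this]; omega) (fun φ hφ => ⟨f2 _ (s1 φ hφ), by
      have a := S.mem_ann_sp2.1 m3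
      refine S.mem_ann_sp2.2 ⟨iP _ (s1 φ hφ) _ a.1, ?_⟩
      rw [S.invl]
      rcases fy _ (P.inv_mem (s1 φ hφ)) with b | b <;> simp [b, a.1, a.2], fun a => n3 (by
        simpa using iD _ (P.inv_mem (s1 φ hφ)) _ a)⟩)
  have hg := P.mul_mem (P.inv_mem (s1 φ' h2)) (s1 φ h1)
  have g0 : ((s φ')⁻¹ * s φ) • φ₀ ≠ φ₀ := fun a => h3 (by
    rw [mul_smul, inv_smul_eq_iff, s2 φ h1, s2 φ' h2] at a; exact a)
  have g2 : ((s φ')⁻¹ * s φ) • ψ₂ = ψ₂ := by
    rw [mul_smul, inv_smul_eq_iff]; exact congrArg Prod.fst h4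
  have g3 : ((s φ')⁻¹ * s φ) • ψ₃ = ψ₃ := by
    rw [mul_smul, inv_smul_eq_iff]; exact congrArg Prod.snd h4
  generalize (s φ')⁻¹ * s φ = g at *
  by_cases a : ∀ θ, S.b θ x = 0 → g • θ = θ
  · exact (h.flip.tv hx a g0).of_flip
  push Not at a
  obtain ⟨θ, a1, a2⟩ := a
  refine h.full_of_KF h32.ge hx (KF_of (hs.tv (g := ⟨g, hP.1 hg⟩) (u := ⟨θ, a1⟩)
    (φ := AddMonoidHom.mk' (fun ψ => S.b ψ.1 y) fun _ _ => S.addl _ _ _) (fun b => ?_)
    (fun χ hχ => Subtype.ext ?_) fun b => a2 (congrArg Subtype.val b)))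
  · obtain ⟨m, hm, e⟩ := S.sep ny
    have : S.b m y = 0 := congrArg (fun f : Du (S.Sub x) => f.ev ⟨m, S.mem_ann_sp1.1 hm⟩) b
    rw [e] at this; exact one_ne_zero this
  · have b : χ.1 ∈ S.ann (sp2 x y) := S.mem_ann_sp2.2 ⟨χ.2, hχ⟩
    rw [← eq_sp3 m1.2 n2 n3 (le (x_sp2 _ _)) (le (y_sp2 _ _)) m3 (by omega)] at b
    exact (sup_le (sp2_le (f1 g hg) g2) (sp1_le g3) :
      _ ≤ mkSub (fun v : U => g • v = v) (smul_zero g)
        (fun a c h1 h2 => by rw [smul_add, h1, h2])) b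

end Sys

universe u

theorem ck2 (n : ℕ) : ∀ (G V U : Type u) [Group G] [AddCommGroup V] [Module F V] [AddCommGroup U]
    [Module F U] [DistribMulAction G V] [DistribMulAction G U] [Finite G] [Finite V] [Finite U]
    (S : Sys G V U), Nat.card V = 2 ^ n → S.Hyp → S.Full ∨ n = 4 := by
  induction n with
  | zero => intro G V U _ _ _ _ _ _ _ _ _ _ S hn h; have := h.big; omega
  | succ n ih =>
    intro G V U _ _ _ _ _ _ _ _ _ _ S hn h
    have hb := h.big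
    obtain ⟨x, -, hx⟩ := exists_nsp1 (A := (⊤ : Submodule F V)) (by rw [cd_top]; omega) 0
    have hx := ne0_of hx
    obtain ⟨y, -, hy⟩ := exists_nsp1 (A := (⊤ : Submodule F V)) (by rw [cd_top]; omega) x
    rcases Nat.lt_or_ge n 4 with hl | hl
    · interval_cases n
      · omega
      · obtain ⟨g, g1, g2⟩ := h.two x y x (x + y) hx hy hx (add_sp1 hy)
        obtain ⟨φ, h1, h2⟩ := S.sep hy
        have c := S.cd_ker (Sys.ne0_of_one' h2)
        have e : sp1 x = S.ker φ := eq_of_cd h1 (by rw [cd_sp1 hx]; omega)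
        refine Or.inl (h.tv (Sys.ne0_of_one' h2) (g := g) (fun w hw => ?_) (u := y)
          (by rw [g2]; simpa using hx))
        rcases (e ▸ hw : w ∈ sp1 x) with rfl | rfl <;> simp [g1]
      · obtain ⟨z, -, hz⟩ := exists_not_mem (A := sp2 x y) (B := ⊤)
          (by rw [cd_top, cd_sp2 hx hy]; omega)
        obtain ⟨g, g1, g2⟩ := h.f5 hx hy hz (x_sp2 _ _)
        obtain ⟨φ, h1, h2⟩ := S.sep hz
        have c := S.cd_ker (Sys.ne0_of_one' h2)
        have e : sp2 x y = S.ker φ := eq_of_cd h1 (by rw [cd_sp2 hx hy]; omega)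
        exact Or.inl (h.tv (Sys.ne0_of_one' h2) (g := g)
          (fun w hw => mem_fixer_sp2.2 g1 w (e ▸ hw)) (u := z) (by rw [g2]; simpa using hx))
      · exact Or.inr rfl
    left
    have h32 : 16 ≤ 2 ^ n := Nat.pow_le_pow_right (n := 2) (by norm_num) hl
    rw [pow_succ] at hn
    obtain ⟨c, p⟩ := h.par (by omega)
    obtain ⟨d, q⟩ := h.flip.par (by rw [S.card_eq]; omega)
    have hc : c ≠ 1 := by rintro rfl; exact h.not_one p (by omega)
    have hd : d ≠ 1 := by rintro rfl; exact h.flip.not_one q (by rw [S.card_eq]; omega)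
    have h4 : 4 * 2 ^ c = Nat.card V := by
      by_contra a; exact (h.mid (by omega) p q hc hd a).false
    have hs := h.sub (by omega) hx fun φ h1 h2 => eq_of_cd (fun v hv => Sys.T_ker hv) (by
      have := S.cd_ker h1
      rw [p.cT hx h1 h2]; omega)
    have c1 := S.flip.cd_ker hx
    rw [S.card_eq] at c1
    rcases ih _ _ _ _ (by change cd (S.flip.ker x) = _; omega) hs with a | rfl
    · exact h.full_of_KF (by omega) hx (Sys.KF_of a)
    · exact h.five (by omega) hx hs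

end Cfsg.Agent.H32.CK
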