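import Cfsg.Agent.H74.CksDefs
import Cfsg.Agent.H29.Dickson
import Cfsg.Agent.H29.Subfield

/-! Subgroups of `GL₂(q)` that are transitive on the projective line. -/

set_option autoImplicit false

namespace Cfsg.Agent.H32.CksPan

open Cfsg.Agent.H74.Cks Cfsg.Agent.H29 Matrix MulAction
open scoped MatrixGroups

/-- **ARI** -/
theorem ari : AriStmt := by
  intro p f b c hp _ hb h
  by_contra hc
  obtain ⟨h1, h2⟩ := not_or.1 hc
  obtain ⟨e, rfl⟩ := Nat.exists_eq_add_of_le hb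
  obtain ⟨e, rfl⟩ : ∃ e', e = e' + 1 := ⟨e - 1, by omega⟩
  obtain ⟨y, hy⟩ : ∃ y, p ^ b = y + 2 := ⟨p ^ b - 2, by have := Nat.one_lt_pow h1 hp.one_lt; omega⟩
  rw [pow_add, hy, show y + 2 - 1 = y + 1 from rfl] at h
  obtain ⟨j, -, hj⟩ := (Nat.dvd_prime_pow hp).1
    (show p ^ (e + 1) * (y + 1) + 1 ∣ p ^ c from ⟨y + 2, by rw [← h]; ring⟩)
  rcases j with _ | j
  · have := Nat.pos_of_ne_zero
      (mul_ne_zero (pow_ne_zero (e + 1) hp.ne_zero) (by omega : y + 1 ≠ 0))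
    rw [pow_zero] at hj
    omega
  · exact hp.one_lt.ne' (Nat.dvd_one.1 ((Nat.dvd_add_right
      (Dvd.dvd.mul_right (dvd_pow_self p e.succ_ne_zero) (y + 1))).1
      (hj ▸ dvd_pow_self p j.succ_ne_zero)))

theorem arith (q u h : ℕ) (a : q < 60) (b : u < 21) (c : h < 21) (d : 2 ≤ q) (e : u ∣ q)
    (f : h ∣ q - 1)
    (g : (q + 1) * (u * h) = 12 ∨ (q + 1) * (u * h) = 24 ∨ (q + 1) * (u * h) = 60) :
    u = q ∨ ((u ≤ 2 ∨ q = 9) ∧ (h ≤ 2 ∨ q.Prime)) := by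
  have key : ∀ q ∈ List.range 60, ∀ u ∈ List.range 21, ∀ h ∈ List.range 21,
      ((q + 1) * (u * h) = 12 ∨ (q + 1) * (u * h) = 24 ∨ (q + 1) * (u * h) = 60) →
      2 ≤ q → u ∣ q → h ∣ q - 1 →
      u = q ∨ ((u ≤ 2 ∨ q = 9) ∧ (h ≤ 2 ∨ q ∈ [5, 7, 11, 19])) := by
    decide +kernel
  refine (key q (List.mem_range.2 a) u (List.mem_range.2 b) h (List.mem_range.2 c) g d e
    f).imp_right (And.imp_right (Or.imp_right fun k => ?_))
  simp only [List.mem_cons, List.not_mem_nil, or_false] at k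
  rcases k with rfl | rfl | rfl | rfl <;> norm_num

variable {F : Type} [Field F] (H : Subgroup PGL(2, F))

/-- The translations. -/
def U0 : AddSubgroup F where
  carrier := {t | aff 1 t ∈ H}
  zero_mem' := by simp [aff_one_zero]
  add_mem' := fun {a b} ha hb => by
    have := H.mul_mem hb ha
    rwa [aff_mul, mul_one, Units.val_one, one_mul] at this
  neg_mem' := fun {a} ha => by
    have := H.inv_mem ha
    rwa [aff_inv, inv_one, Units.val_one, neg_one_mul] at this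

/-- The multipliers. -/
def C0 : Subgroup Fˣ where
  carrier := {a | ∃ b, aff a b ∈ H}
  one_mem' := ⟨0, by simp [aff_one_zero]⟩
  mul_mem' := by
    rintro a a' ⟨b, hb⟩ ⟨b', hb'⟩
    exact ⟨_, aff_mul a a' b b' ▸ mul_mem hb hb'⟩
  inv_mem' := by
    rintro a ⟨b, hb⟩
    exact ⟨_, aff_inv a b ▸ inv_mem hb⟩

theorem card_stab : Nat.card (stabilizer H (inf : P1 F)) = Nat.card (U0 H) * Nat.card (C0 H) := by
  choose β hβ using fun a : C0 H => a.2
  have k : ∀ (t : F) (a : C0 H), aff 1 t * aff a (β a) = aff a (β a + t) := fun t a => by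
    rw [aff_mul, one_mul, Units.val_one, one_mul]
  rw [← Nat.card_prod]
  refine (Nat.card_eq_of_bijective (fun x : U0 H × C0 H =>
    (⟨⟨aff x.2 (β x.2 + x.1), k x.1 x.2 ▸ mul_mem x.1.2 (hβ x.2)⟩, aff_smul_inf _ _⟩ :
      stabilizer H (inf : P1 F))) ⟨?_, ?_⟩).symm
  · rintro ⟨t, a⟩ ⟨t', a'⟩ e
    obtain ⟨h1, h2⟩ := aff_inj.1 (congrArg (fun g => g.1.1) e)
    obtain rfl : a = a' := Subtype.ext h1
    obtain rfl : t = t' := Subtype.ext (add_left_cancel h2)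
    rfl
  · rintro ⟨⟨g, hg⟩, h⟩
    obtain ⟨a, b, rfl⟩ := (smul_inf_eq_inf_iff g).1 h
    let a' : C0 H := ⟨a, b, hg⟩
    have e : aff 1 (b - β a') * aff a (β a') = aff a b := by rw [k _ a', add_sub_cancel]
    refine ⟨(⟨b - β a', (mul_mem_cancel_right (hβ a')).1 (e ▸ hg)⟩, a'), ?_⟩
    exact Subtype.ext (Subtype.ext (by simp [a']))

theorem main [Finite F] (tr : ∀ x y : P1 F, ∃ g ∈ H, g • x = y) :
    U0 H = ⊤ ∨ ((Nat.card (U0 H) ≤ 2 ∨ Nat.card F = 9) ∧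
      (Nat.card (C0 H) ≤ 2 ∨ (Nat.card F).Prime)) := by
  haveI := finite_PGL2 (F := F)
  haveI : IsPretransitive H (P1 F) := ⟨fun x y => by
    obtain ⟨g, hg, e⟩ := tr x y
    exact ⟨⟨g, hg⟩, e⟩⟩
  have hc : (Nat.card F + 1) * (Nat.card (U0 H) * Nat.card (C0 H)) = Nat.card H := by
    rw [← (stabilizer H (inf : P1 F)).index_mul_card, index_stabilizer_of_transitive, card_P1,
      card_stab]
  have hq : 2 ≤ Nat.card F := Finite.one_lt_card
  have hu : 0 < Nat.card (U0 H) := Nat.card_pos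
  have hh : 0 < Nat.card (C0 H) := Nat.card_pos
  have small : Nat.card H = 12 ∨ Nat.card H = 24 ∨ Nat.card H = 60 → U0 H = ⊤ ∨
      ((Nat.card (U0 H) ≤ 2 ∨ Nat.card F = 9) ∧ (Nat.card (C0 H) ≤ 2 ∨ (Nat.card F).Prime)) :=
    fun h => by
      have h1 : (Nat.card F + 1) * (Nat.card (U0 H) * Nat.card (C0 H)) ≤ 60 := by omega
      have h2 : Nat.card (U0 H) * Nat.card (C0 H) ≤ 20 := by nlinarith
      refine (arith _ _ _ (by nlinarith [Nat.mul_pos hu hh]) (by nlinarith) (by nlinarith) hq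
        (AddSubgroup.card_addSubgroup_dvd_card _)
        (Nat.card_units F ▸ Subgroup.card_subgroup_dvd_card _) (hc ▸ h)).imp_left fun e => ?_
      exact AddSubgroup.eq_top_of_card_eq _ e
  have a4 : Nat.card (alternatingGroup (Fin 4)) = 12 := by
    rw [nat_card_alternatingGroup]; simp [Nat.factorial]
  have a5 : Nat.card (alternatingGroup (Fin 5)) = 60 := by
    rw [nat_card_alternatingGroup]; simp [Nat.factorial]
  have s4 : Nat.card (Equiv.Perm (Fin 4)) = 24 := by rw [Nat.card_perm]; simp [Nat.factorial]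
  obtain ⟨p, _, _, -⟩ := exists_char_card F
  rcases dickson p H with ⟨x, hx⟩ | ⟨T, D, hT, -, hD⟩ | ⟨-, ⟨⟨e⟩⟩ | ⟨⟨e⟩⟩ | ⟨⟨e⟩⟩⟩ | ⟨-, ⟨e⟩⟩ |
    ⟨c, k, -, h⟩
  · obtain ⟨g, hg, e⟩ := tr x inf
    obtain ⟨g', hg', e'⟩ := tr x (pt 0)
    exact absurd (e.symm.trans ((hx hg).trans ((hx hg').symm.trans e'))) (inf_ne_pt 0)
  · have h1 := Subgroup.card_le_of_le hD
    have h2 := hT.card
    rw [hT.card_D, ← hc] at h1
    have h3 : Nat.card (U0 H) * Nat.card (C0 H) ≤ 2 :=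
      Nat.le_of_mul_le_mul_left (h1.trans (by omega)) (Nat.succ_pos _)
    exact Or.inr ⟨Or.inl (by nlinarith), Or.inl (by nlinarith)⟩
  · exact small (Or.inl ((Nat.card_congr e.toEquiv).trans a4))
  · exact small (Or.inr (Or.inl ((Nat.card_congr e.toEquiv).trans s4)))
  · exact small (Or.inr (Or.inr ((Nat.card_congr e.toEquiv).trans a5)))
  · exact small (Or.inr (Or.inr ((Nat.card_congr e.toEquiv).trans a5)))
  have h1 : H.map (MulAut.conj c).toMonoidHom ≤ PGLsub k.subtype := by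
    rcases h with h | h <;> rw [h]
    intro g hg
    obtain ⟨A, rfl, hA⟩ := (mem_PSLsub_iff _).1 hg
    exact (mem_PGLsub_iff _).2 ⟨_, rfl, hA⟩
  obtain rfl : k = ⊤ := eq_top_iff.2 fun t _ => by
    obtain ⟨g, hg, e⟩ := tr (c⁻¹ • inf) (c⁻¹ • pt t)
    rw [← conj_smul_eq_iff c, smul_inv_smul, smul_inv_smul] at e
    obtain ⟨A, e', hA⟩ := (mem_PGLsub_iff _).1 (h1 (conj_mem_map_conj_iff.2 hg))
    rw [← e', pmk_smul_inf_eq_pt] at e
    have h2 : A 1 0 ≠ 0 := fun z => GL2_det_ne_zero A (by rw [e, z]; ring)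
    rw [range_subfield_subtype] at hA
    rw [show t = A 0 0 / A 1 0 by rw [e, mul_div_cancel_left₀ _ h2]]
    exact div_mem (hA 0 0) (hA 1 0)
  have h2 : Lsub F ≤ H.map (MulAut.conj c).toMonoidHom := by
    rcases h with h | h <;> rw [h]
    · rw [PGLsub_top]; exact le_top
    · rw [PSLsub_top]
  exact Or.inl (eq_top_iff.2 fun t _ => conj_mem_map_conj_iff.1
    (h2 (Lsub_normal.conj_mem _ ((aff_mem_L 1 t).2 (by simp)) c)))

/-- **PAN** -/
theorem pan : PanStmt := by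
  intro F _ _ K hZ hT
  have mem : ∀ A, pmk A ∈ K.map pmk → A ∈ K := by
    rintro A ⟨k, hk, e⟩
    obtain ⟨h1, h2, h3⟩ := (pmk_eq_one_iff (k⁻¹ * A)).1 (by rw [map_mul, map_inv, e, inv_mul_cancel])
    refine (mul_mem_cancel_left (inv_mem hk)).1 (hZ _ ⟨(k⁻¹ * A) 1 1, ?_⟩)
    ext i j
    fin_cases i <;> fin_cases j <;> simp [-Units.val_mul, h1, h2, h3]
  have t0 : ∀ x : P1 F, ∃ g ∈ K.map pmk, g • inf = x := fun x => by
    obtain ⟨c, hc⟩ := exists_smul_eq_inf x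
    obtain ⟨A, e⟩ := pmk_surj c⁻¹
    obtain ⟨k, hk, h⟩ := hT A
    rw [← pmk_smul_inf_eq_inf, map_mul, map_inv, mul_smul, inv_smul_eq_iff, e] at h
    exact ⟨_, ⟨k, hk, rfl⟩, by rw [← h, ← hc, inv_smul_smul]⟩
  rcases main (K.map pmk) (fun x y => by
    obtain ⟨g, hg, rfl⟩ := t0 x
    obtain ⟨g', hg', rfl⟩ := t0 y
    exact ⟨g' * g⁻¹, mul_mem hg' (inv_mem hg), by rw [mul_smul, inv_smul_smul]⟩) with h | ⟨h1, h2⟩
  · exact Or.inl fun t => ⟨_, mem _ (h.ge (AddSubgroup.mem_top t)), rfl⟩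
  rw [Nat.card_eq_fintype_card (α := F)] at h1 h2
  refine Or.inr ⟨h1.imp_left (le_trans ?_), h2.imp_left (le_trans ?_)⟩
  · refine Set.ncard_le_ncard (t := (U0 (K.map pmk) : Set F)) ?_
    rintro t ⟨k, hk, e⟩
    exact ⟨k, hk, congrArg pmk (Units.ext e)⟩
  · rw [← Nat.card_coe_set_eq, Nat.card_coe_set_eq]
    refine (Set.ncard_le_ncard (t := Units.val '' (C0 (K.map pmk) : Set Fˣ)) ?_).trans
      (Set.ncard_image_le (s := (C0 (K.map pmk) : Set Fˣ)))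
    rintro c ⟨k, hk, e1, e2⟩
    obtain ⟨a, b, e⟩ := (smul_inf_eq_inf_iff _).1 ((pmk_smul_inf_eq_inf k).2 e1)
    refine ⟨a, ⟨b, e ▸ ⟨k, hk, rfl⟩⟩, ?_⟩
    obtain ⟨d, d1, -, -, d2⟩ := (pmk_eq_pmk_iff _ _).1 e
    have h3 : k 1 1 ≠ 0 := fun z => GL2_det_ne_zero k (by rw [e1, z]; ring)
    refine mul_right_cancel₀ h3 (Eq.trans ?_ e2)
    rw [d1, d2]
    simp [mul_comm]

end Cfsg.Agent.H32.CksPan
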