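import Cfsg.Agent.H96.D4Defs

/-! D4F-AQE: the group on `V` contains the reflection and the torus of the short root `SL₂`. -/

set_option autoImplicit false

namespace Cfsg.Agent.H32.D4Q

open Cfsg.Agent.H96.DF

universe u

theorem hua_id {K : Type u} [Field K] {x y : K} (hx : x ≠ 0) (hy : y ≠ 0) (h : y⁻¹ ≠ x) :
    x ^ 2 * y = x - (x⁻¹ + (y⁻¹ - x)⁻¹)⁻¹ := by
  have h1 : 1 - x * y ≠ 0 := fun e => h (by field_simp; linear_combination e)
  have h2 : (y⁻¹ - x)⁻¹ = y * (1 - x * y)⁻¹ := by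
    rw [show y⁻¹ - x = (1 - x * y) * y⁻¹ by field_simp, mul_inv, inv_inv, mul_comm]
  have h3 : x⁻¹ + y * (1 - x * y)⁻¹ = (x * (1 - x * y))⁻¹ := by
    field_simp
    ring
  rw [h2, h3, inv_inv]
  ring

/-- Hua's theorem for a pair of additive maps compatible with inversion. -/
theorem hua {K : Type u} [Field K] [Finite K] (φ ψ : K →+ K) (h1 : φ 1 = 1)
    (h : ∀ s, s ≠ 0 → ψ s * φ s⁻¹ = 1) : (∀ y, ψ y = φ y) ∧ ∀ x y, φ (x * y) = φ x * φ y := by
  have i1 : ∀ a, φ a⁻¹ = (ψ a)⁻¹ := fun a => by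
    by_cases ha : a = 0
    · simp [ha]
    · exact eq_inv_of_mul_eq_one_right (h a ha)
  have i2 : ∀ a, ψ a⁻¹ = (φ a)⁻¹ := fun a => by rw [← inv_inv (ψ _), ← i1, inv_inv]
  have hne : ∀ s, s ≠ 0 → φ s ≠ 0 := fun s hs => by
    simpa using right_ne_zero_of_mul_eq_one (h _ (inv_ne_zero hs))
  have m1 : ∀ x y, φ (x ^ 2 * y) = φ x ^ 2 * ψ y := fun x y => by
    by_cases hx : x = 0
    · simp [hx]
    by_cases hy : y = 0
    · simp [hy]
    by_cases e : y⁻¹ = x
    · have e1 : y = x⁻¹ := by rw [← e, inv_inv]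
      rw [e1, i2, pow_two, pow_two, mul_inv_cancel_right₀ hx, mul_inv_cancel_right₀ (hne x hx)]
    have e2 : (ψ y)⁻¹ ≠ φ x := fun e' =>
      hne _ (sub_ne_zero.2 e) (by rw [map_sub, i1, e', sub_self])
    rw [hua_id hx hy e, map_sub, i1, map_add, i2, i2, map_sub, i1,
      hua_id (hne x hx) (left_ne_zero_of_mul_eq_one (h y hy)) e2]
  have m2 : ∀ y, ψ y = φ y := fun y => by simpa [h1] using (m1 1 y).symm
  have m3 : ∀ x, φ (x ^ 2) = φ x ^ 2 := fun x => by simpa [m2, h1] using m1 x 1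
  refine ⟨m2, fun x y => ?_⟩
  by_cases h2 : (2 : K) = 0
  · have : CharP K 2 := CharTwo.of_one_ne_zero_of_two_eq_zero one_ne_zero h2
    obtain ⟨z, rfl⟩ := FiniteField.isSquare_of_char_two (ringChar.eq K 2) x
    rw [← pow_two, m1, m2, m3]
  · have := m3 (x + y)
    rw [show (x + y) ^ 2 = x ^ 2 + (x * y + x * y) + y ^ 2 by ring] at this
    simp only [map_add, m3] at this
    exact mul_left_cancel₀ h2 (by linear_combination this)

variable {F K : Type u} [Field F] [Field K] [Algebra F K] {C : Tri F K}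

/-- D4F-AQE -/
theorem aqe [Finite K] {p : ℕ} : AqeStmt C p := by
  rintro D hD orb ⟨n, hn, ⟨μ, h0⟩, ⟨ν, h3⟩, hx, hy⟩
  obtain ⟨B, hB⟩ : ∃ B : K →ₗ[F] K, ∀ k, n (0, k, 0, 0) = (0, 0, B k, 0) :=
    ⟨LinearMap.fst F K F ∘ₗ LinearMap.snd F K _ ∘ₗ LinearMap.snd F F _ ∘ₗ n.toLinearMap ∘ₗ
      LinearMap.inr F F _ ∘ₗ LinearMap.inl F K _, fun k => by
        obtain ⟨l, hl⟩ := hx k
        exact hl.trans (by rw [show l = _ from congrArg (fun v : V F K => v.2.2.1) hl.symm]; rfl)⟩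
  obtain ⟨G, hG⟩ : ∃ G : K →ₗ[F] K, ∀ k, n (0, 0, k, 0) = (0, G k, 0, 0) :=
    ⟨LinearMap.fst F K _ ∘ₗ LinearMap.snd F F _ ∘ₗ n.toLinearMap ∘ₗ
      LinearMap.inr F F _ ∘ₗ LinearMap.inr F K _ ∘ₗ LinearMap.inl F K F, fun k => by
        obtain ⟨l, hl⟩ := hy k
        exact hl.trans (by rw [show l = _ from congrArg (fun v : V F K => v.2.1) hl.symm]; rfl)⟩
  have en : ∀ a x y u, n (a, x, y, u) = (ν * u, G y, B x, μ * a) := fun a x y u => by
    rw [show ((a, x, y, u) : V F K) = a • e0 + (0, x, 0, 0) + (0, 0, y, 0) + u • e3 by simp [e0, e3]]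
    simp only [map_add, map_smul, h0, h3, hB, hG]
    simp [e0, e3, mul_comm]
  have m0 : μ ≠ 0 := fun e => by simpa [e, e0] using h0
  have n0 : ν ≠ 0 := fun e => by simpa [e, e3] using h3
  have key : ∀ s, s ≠ 0 → G s * B s⁻¹ = algebraMap F K (μ * ν) ∧ C.N (B s⁻¹) * C.N s = μ ^ 2 * ν := by
    intro s hs
    have hN : C.N s ≠ 0 := by simpa using hs
    have md := mul_mem (mul_mem hn (hD.rho s)) hn
    have ev : (n * ρ C s * n) e0 = (ν * μ, μ • G s, (μ * C.N s) • B s⁻¹, μ * (C.N s * μ)) := by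
      have : C.sh s = C.N s • s⁻¹ := by rw [Algebra.smul_def, ← C.mul_sh]; field_simp
      simp [e0, en, ρ_apply, rmap, this, mul_smul]
    rcases orb _ md with k | ⟨t, c, k⟩
    · obtain ⟨t, c, θ, e, -⟩ := hD.nm _ md k
      rw [e] at ev
      simpa [e0, ρ_apply, rmap, torV_apply, vmap, galV_apply, m0, hN] using
        congrArg (fun v : V F K => v.2.2.2) ev
    · rw [ev] at k
      simp only [ρ_apply, rmap, e3, mul_zero, map_zero, Tri.cr_zero, add_zero, zero_add, mul_one,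
        one_smul, Prod.smul_mk, smul_eq_mul, Prod.mk.injEq] at k
      obtain ⟨k1, k2, k3, rfl⟩ := k
      have j2 : G s = (C.N s * μ) • C.sh t := smul_right_injective K m0 (by simpa [mul_smul] using k2)
      have j3 : B s⁻¹ = μ • t :=
        smul_right_injective K (mul_ne_zero m0 hN) (by simpa [mul_smul] using k3)
      refine ⟨?_, by rw [j3, C.N_smul]; linear_combination -μ * k1⟩
      rw [j2, j3, mul_comm μ ν, k1, map_mul _ _ (C.N t), ← C.mul_sh]
      simp only [Algebra.smul_def, map_mul]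
      ring
  obtain ⟨k1, k2⟩ := key 1 one_ne_zero
  rw [inv_one] at k1 k2
  rw [C.N_one, mul_one] at k2
  have a0 : algebraMap F K μ ≠ 0 := by simpa using m0
  have a1 : algebraMap F K ν ≠ 0 := by simpa using n0
  have b0 : B 1 ≠ 0 := fun e => by simp [e, m0, n0] at k1
  obtain ⟨q1, q2⟩ := hua ((AddMonoidHom.mulRight (B 1)⁻¹).comp B.toAddMonoidHom)
    ((AddMonoidHom.mulRight (B 1 / algebraMap F K (μ * ν))).comp G.toAddMonoidHom) (by simp [b0])
    fun s hs => by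
      have := (key s hs).1
      simp only [map_mul] at this
      simp only [AddMonoidHom.comp_apply, AddMonoidHom.coe_mulRight, LinearMap.toAddMonoidHom_coe, map_mul]
      generalize B s⁻¹ = b at this ⊢
      field_simp
      linear_combination this
  simp only [AddMonoidHom.comp_apply, AddMonoidHom.coe_mulRight, LinearMap.toAddMonoidHom_coe,
    map_mul] at q1 q2
  obtain ⟨θ, hθ⟩ : ∃ θ : RingAut K, ∀ x, θ x = B x * (B 1)⁻¹ :=
    let f : K →+* K := ⟨⟨⟨fun x => B x * (B 1)⁻¹, mul_inv_cancel₀ b0⟩, q2⟩, by simp, by simp [add_mul]⟩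
    ⟨RingEquiv.ofBijective f (Finite.injective_iff_bijective.1 f.injective), fun _ => rfl⟩
  have ta : ∀ c, θ (algebraMap F K c) = algebraMap F K c := fun c => by
    rw [hθ, Algebra.algebraMap_eq_smul_one, map_smul, smul_mul_assoc, mul_inv_cancel₀ b0]
  have tT : ∀ a, C.T (θ a) = C.T a := fun a => Tri.inj (K := K) (by
    rw [← ta (C.T a)]; simp only [Tri.hT, map_add, C.aut_σ])
  have tN : ∀ a, C.N (θ a) = C.N a := fun a => Tri.inj (K := K) (by
    rw [← ta (C.N a)]; simp only [Tri.hN, map_mul, C.aut_σ])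
  obtain ⟨β, hβ⟩ : ∃ β, B 1 = β := ⟨_, rfl⟩
  rw [hβ] at q1 hθ k2 b0
  have eB : ∀ x, B x = β * θ x := fun x => by rw [hθ]; field_simp
  have eG : ∀ x, G x = algebraMap F K μ * algebraMap F K ν / β * θ x := fun x => by
    rw [hθ, ← q1]; field_simp
  have k3 := congrArg (algebraMap F K) k2
  rw [C.hN, map_mul, map_pow] at k3
  have b1 : C.σ β ≠ 0 := by simpa using b0
  have b2 : C.σ (C.σ β) ≠ 0 := by simpa using b0
  have cj : ∀ r, wV * ρ C r * wV⁻¹ ∈ D := fun r => by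
    obtain ⟨s, hs⟩ := θ.surjective (-β * r / algebraMap F K μ)
    have e : wV * ρ C r * wV⁻¹ * n = n * ρ C s := LinearEquiv.ext fun ⟨a, x, y, u⟩ => by
      simp only [LinearEquiv.mul_apply, ρ_apply, wV_apply, wV_inv_apply, rmap, en, eB, eG]
      rw [← tT (s * x), ← tT (C.sh s * y), ← tN s]
      have k4 : algebraMap F K ν = β * C.σ β * C.σ (C.σ β) / algebraMap F K μ ^ 2 := by
        rw [k3]; field_simp
      apply V.ext' <;> simp only [Tri.sh, Tri.cr, Algebra.smul_def, map_add, map_mul, map_neg, map_div₀,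
        map_pow, Tri.hT, Tri.hN, Tri.σ3, AlgEquiv.commutes, C.aut_σ, hs, ta] <;> (try rw [k4]) <;>
        field_simp <;> ring
    exact (D.mul_mem_cancel_right hn).1 (e ▸ mul_mem hn (hD.rho s))
  have rel : ∀ l : Kˣ, torV C (ha C l) * wV ∈ D := fun l =>
    wV_rel (C := C) l ▸ mul_mem (mul_mem (hD.rho _) (cj _)) (hD.rho _)
  have w : wV ∈ D := by simpa [ha, ← Prod.one_eq_mk] using rel 1
  exact ⟨w, fun l => (D.mul_mem_cancel_right w).1 (rel l)⟩

end Cfsg.Agent.H32.D4Q
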