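import Cfsg.Agent.H37.FkKit
import Cfsg.Agent.S1251
import Cfsg.Agent.S0205

/-! Project FK, pieces EXT and LQ: strongly closed subgroups and a quasisimple subgroup of index at
most two. -/

set_option autoImplicit false

namespace Cfsg.Agent.H32.FkExt

open Cfsg Subgroup Cfsg.Agent.H37.FK
open scoped commutatorElement

universe u

variable {K : Type*} [Group K] {L : Type*} [Group L]

/-- the image of a class under a surjection -/
theorem xc_map [Finite K] {X : Set K} (h : XC ⊤ X) (f : K →* L) (hf : Function.Surjective f) :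
    XC ⊤ (f '' X) where
  sub _ _ := trivial
  two := by rintro _ ⟨x, hx, rfl⟩; exact (h.two x hx).map f
  one := ⟨1, h.one, map_one f⟩
  conj := by
    rintro _ ⟨x, hx, rfl⟩ g -
    obtain ⟨g, rfl⟩ := hf g
    exact ⟨_, h.conj x hx g trivial, by simp⟩
  mul := by
    rintro P hP _ ⟨x, hx, rfl⟩ _ ⟨y, hy, rfl⟩ h1 h2
    have : Finite L := Finite.of_surjective f hf
    obtain ⟨R⟩ : Nonempty (Sylow 2 (P.comap f)) := inferInstance
    have sj := f.subgroupComap_surjective_of_surjective P hf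
    have hR : ((R.mapSurjective sj : Sylow 2 P) : Subgroup P) = ⊤ :=
      ((R.mapSurjective sj).3 (hP.to_subgroup ⊤) le_top).symm
    have key : ∀ z ∈ X, f z ∈ P → ∃ z' ∈ X, f z' = f z ∧
        z' ∈ (R : Subgroup (P.comap f)).map (P.comap f).subtype := fun z hz hzP => by
      obtain ⟨k, hk⟩ := h.two z hz
      obtain ⟨g, hg⟩ := exists_conj_sylow R
        (Two.zpowers (x := (⟨z, hzP⟩ : P.comap f)) ⟨k, Subtype.ext hk⟩)
      obtain ⟨r, hr, e⟩ : f.subgroupComap P g ∈
          ((R.mapSurjective sj : Sylow 2 P) : Subgroup P) := hR ▸ mem_top _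
      have e' : f r = f g := congrArg Subtype.val e
      refine ⟨(r⁻¹ * g) * z * (r⁻¹ * g)⁻¹, h.conj z hz _ trivial, by simp [e'], _,
        mul_mem (mul_mem (inv_mem hr) (hg _ (mem_zpowers _))) hr, by simp [mul_assoc]⟩
    obtain ⟨x', hx', e1, m1⟩ := key x hx h1
    obtain ⟨y', hy', e2, m2⟩ := key y hy h2
    exact ⟨_, h.mul _ (R.isPGroup'.map _) x' hx' y' hy' m1 m2, by rw [map_mul, e1, e2]⟩

theorem xc_sub {X : Set K} (h : XC ⊤ X) (M : Subgroup K) : XC ⊤ (M.subtype ⁻¹' X) :=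
  h.comap _ (by rw [ker_subtype]; exact IsPGroup.of_bot)

theorem mem_of_pow {T : Subgroup K} {z : K} (hz : Two z) {n : ℕ} (hn : ¬ 2 ∣ n) (h : z ^ n ∈ T) :
    z ∈ T := by
  obtain ⟨k, hk⟩ := hz
  refine zpowers_le.2 h (mem_zpowers_pow_iff.2 ?_)
  exact Nat.Coprime.coprime_dvd_right (orderOf_dvd_of_pow_eq_one hk)
    (((Nat.Prime.coprime_iff_not_dvd Nat.prime_two).2 hn).symm.pow_right k)

/-- a class covering the 2-elements modulo the centre of a perfect group is everything -/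
theorem all_of_cover [Finite K] (hp : commutator K = ⊤) {X : Set K} (h : XC ⊤ X)
    (hc : ∀ s, Two s → ∃ x ∈ X, x⁻¹ * s ∈ center K) : ∀ s, Two s → s ∈ X := fun s hs => by
  obtain ⟨R, hR⟩ := hs.zpowers.exists_le_sylow
  set T := h.part R R.isPGroup'
  have dec : ∀ a ∈ (R : Subgroup K), ∃ x ∈ T, ∃ z ∈ (R : Subgroup K), z ∈ center K ∧ a = x * z :=
    fun a ha => by
      have h1 := Two.of_mem R.isPGroup' ha
      obtain ⟨x, hx, hz⟩ := hc a h1
      have h2 : Two (x⁻¹ * a) := (h.two x hx).inv.mul_of_commute h1 (by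
        have := mem_center_iff.1 hz a
        rw [← mul_assoc] at this
        exact (mul_right_cancel this).symm)
      obtain ⟨g, hg⟩ := exists_conj_sylow R h2.zpowers
      have h3 := hg _ (mem_zpowers _)
      rw [mem_center_iff.1 hz g, mul_inv_cancel_right] at h3
      exact ⟨x, ⟨hx, by simpa using (mul_mem_cancel_right ha).1 h3⟩, _, h3, hz, by group⟩
  have com : commutator R ≤ T.subgroupOf R := commutator_le.2 fun a _ b _ => by
    obtain ⟨x, hx, z, -, hz, e1⟩ := dec a a.2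
    obtain ⟨y, hy, w, -, hw, e2⟩ := dec b b.2
    change (a : K) * b * (a : K)⁻¹ * (b : K)⁻¹ ∈ T
    rw [e1, e2, mul_assoc x z, ← mem_center_iff.1 hz,
      show x * (y * w * z) * (x * z)⁻¹ * (y * w)⁻¹ = x * y * (w * x⁻¹) * w⁻¹ * y⁻¹ by group,
      ← mem_center_iff.1 hw, mul_assoc _ _ w⁻¹, mul_inv_cancel_right]
    exact mul_mem (mul_mem (mul_mem hx hy) (inv_mem hx)) (inv_mem hy)
  obtain ⟨x, hx, z, hzR, hz, rfl⟩ := dec s (hR (mem_zpowers s))
  refine (mul_mem hx (mem_of_pow (Two.of_mem R.isPGroup' hzR) R.not_dvd_index ?_) :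
    x * z ∈ T).1
  have h1 := MonoidHom.transfer_eq_pow (Abelianization.of (G := R)) z fun k g _ => by
    rw [mem_center_iff.1 (pow_mem hz k) g⁻¹, inv_mul_cancel_right]
  have h2 := Abelianization.commutator_subset_ker (MonoidHom.transfer (Abelianization.of (G := R)))
    (hp ▸ mem_top z)
  rw [MonoidHom.mem_ker, h1, ← MonoidHom.mem_ker, Abelianization.ker_of] at h2
  exact com h2

theorem perf {M : Subgroup K} (h : ⁅M, M⁆ = M) : commutator M = ⊤ :=
  map_injective M.subtype_injective (by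
    rw [_root_.commutator, map_commutator, ← MonoidHom.range_eq_map, range_subtype, h])

/-- first alternative -/
theorem all_two [Finite K] {M : Subgroup K} (hM : ⁅M, M⁆ = M) {π : M →* L}
    (hπ : Function.Surjective π) (hk : π.ker ≤ center M) (hL : NSC L) {X : Set K} (h : XC ⊤ X)
    (h1 : ∃ x : M, (x : K) ∈ X ∧ π x ≠ 1) : ∀ s ∈ M, Two s → s ∈ X := fun s hs ⟨k, e⟩ => by
  have : Finite L := Finite.of_surjective π hπ
  obtain ⟨x, hx, x1⟩ := h1
  refine all_of_cover (perf hM) (xc_sub h M) (fun a ha => ?_) ⟨s, hs⟩ ⟨k, Subtype.ext e⟩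
  obtain ⟨y, hy, e⟩ := hL.xc (xc_map (xc_sub h M) π hπ) ⟨_, ⟨x, hx, rfl⟩, x1⟩ _ (ha.map π)
  exact ⟨y, hy, hk (by rw [MonoidHom.mem_ker, map_mul, map_inv, e, inv_mul_cancel])⟩

theorem core_eq_bot [Finite L] (h : NAS L) : oddCore L = ⊥ := by
  have := h.1
  refine sSup_eq_bot.2 fun N hN => (IsSimpleGroup.eq_bot_or_eq_top_of_normal N hN.1).resolve_right ?_
  rintro rfl
  exact h.2 ⟨⟨IsSimpleGroup.comm_iff_isSolvable.2
    (S0205.result (by simpa [Nat.coprime_two_right] using hN.2))⟩⟩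

theorem center_le_ker {M : Type*} [Group M] {π : M →* L} (hπ : Function.Surjective π)
    (hL : NAS L) : center M ≤ π.ker := fun z hz => by
  have := hL.1
  have h1 : center L = ⊥ := (IsSimpleGroup.eq_bot_or_eq_top_of_normal _ inferInstance).resolve_right
    fun e => hL.2 ⟨⟨fun a b => mem_center_iff.1 (e ▸ mem_top b) a⟩⟩
  refine mem_bot.1 (h1 ▸ mem_center_iff.2 fun g => ?_)
  obtain ⟨g, rfl⟩ := hπ g
  rw [← map_mul, mem_center_iff.1 hz g, map_mul]

/-- second alternative -/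
theorem cent [Finite K] {M : Subgroup K} [M.Normal] (hM : ⁅M, M⁆ = M) {π : M →* L}
    (hπ : Function.Surjective π) (hk : π.ker ≤ center M) (hL : NAS L) {X : Set K} (h : XC ⊤ X)
    (h1 : ∀ x : M, (x : K) ∈ X → π x = 1) : ∀ x ∈ X, x ∈ centralizer (M : Set K) := by
  set Z := M ⊓ centralizer (M : Set K) with hZ
  set f := QuotientGroup.mk' Z
  have sj : Function.Surjective f := QuotientGroup.mk'_surjective Z
  have mZ : ∀ x : M, x ∈ center M ↔ (x : K) ∈ Z := fun x =>
    ⟨fun e => ⟨x.2, fun m hm => congrArg Subtype.val (mem_center_iff.1 e ⟨m, hm⟩)⟩,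
      fun e => mem_center_iff.2 fun m => Subtype.ext (e.2 m m.2)⟩
  have e : π.ker = (f.subgroupMap M).ker := by
    ext x
    rw [le_antisymm hk (center_le_ker hπ hL), mZ, MonoidHom.mem_ker, Subtype.ext_iff]
    exact (QuotientGroup.eq_one_iff (x : K)).symm
  have hN : NAS (M.map f) := hL.congr
    ((QuotientGroup.quotientKerEquivOfSurjective _ (f.subgroupMap_surjective M)).symm.trans
      ((QuotientGroup.quotientMulEquivOfEq e.symm).trans
        (QuotientGroup.quotientKerEquivOfSurjective π hπ)))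
  have hn : (M.map f).Normal := Normal.map inferInstance f sj
  have hX := xc_map h f sj
  obtain ⟨S⟩ : Nonempty (Sylow 2 (K ⧸ Z)) := inferInstance
  have h2 := S1251.result S _ (hX.sc S S.isPGroup') (M.map f) le_normalizer_of_normal
    (core_eq_bot hN) (eq_bot_iff.2 (by
      rintro _ ⟨⟨⟨x, hx, rfl⟩, -⟩, hm⟩
      have h3 : x ∈ M := by
        have hm : x ∈ (M.map f).comap f := hm
        rwa [comap_map_eq, QuotientGroup.ker_mk', sup_eq_left.2 inf_le_left] at hm
      exact (QuotientGroup.eq_one_iff x).2 ((mZ ⟨x, h3⟩).1 (hk (h1 ⟨x, h3⟩ hx)))))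
  set A := (centralizer (M.map f : Set (K ⧸ Z))).comap f
  have h4 : ⁅⁅M, A⁆, M⁆ = ⊥ := commutator_eq_bot_iff_le_centralizer.2 (le_trans
    (commutator_le.2 fun m hm a ha => (QuotientGroup.eq_one_iff _).1 (by
      change f ⁅m, a⁆ = 1
      rw [map_commutatorElement, commutatorElement_eq_one_iff_mul_comm]
      exact ha _ (mem_map_of_mem f hm))) (inf_le_right : Z ≤ _))
  have h5 := commutator_commutator_eq_bot_of_rotate h4 (commutator_comm M A ▸ h4)
  rw [hM, commutator_comm, commutator_eq_bot_iff_le_centralizer] at h5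
  intro x hx
  obtain ⟨g, hg⟩ := exists_conj_sylow S ((h.two x hx).map f).zpowers
  have h6 := h2 ⟨hX.conj _ ⟨x, hx, rfl⟩ g trivial, hg _ (mem_zpowers _)⟩
  refine h5 (mem_comap.2 ?_)
  simpa [mul_assoc] using
    (inferInstance : (centralizer (M.map f : Set (K ⧸ Z))).Normal).conj_mem _ h6 g⁻¹

theorem normal_of_dvd {M : Subgroup K} (h : M.index ∣ 2) : M.Normal := by
  rcases (Nat.dvd_prime Nat.prime_two).1 h with e | e
  · rw [index_eq_one.1 e]; infer_instance
  · exact normal_of_index_eq_two e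

theorem rel_dvd {T S M D : Subgroup K} (h1 : S ≤ D) (h2 : M.relIndex D ∣ 2) (h3 : M ⊓ S ≤ T) :
    T.relIndex S ∣ 2 := by
  refine (relIndex_dvd_of_le_left S h3).trans ?_
  have h4 : M.relIndex D ≠ 0 := fun e => by simp [e] at h2
  have h5 := (relIndex_le_of_le_right h1 h4).trans (Nat.le_of_dvd two_pos h2)
  have h6 : M.relIndex S ≠ 0 := fun e => h4 (relIndex_eq_zero_of_le_right h1 e)
  rw [inf_relIndex_right]
  interval_cases M.relIndex S <;> simp_all

theorem ext : ExtStmt.{u} := by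
  intro H _ _ hO M hi hM L _ π hπ hk _ hL hn S T hT h0
  have := normal_of_dvd hi
  have hX := xc_inX hT
  by_cases h1 : ∃ x : M, (x : H) ∈ InX T ∧ π x ≠ 1
  · refine ⟨rel_dvd le_top (by rwa [relIndex_top_right]) fun s hs => InX.mem hT
      (all_two hM hπ hk hn hX h1 s hs.1 (Two.of_mem S.isPGroup' hs.2)) hs.2,
      (closure_le _).2 fun g hg => ?_⟩
    set N := normalClosure (T : Set H)
    obtain ⟨x, ⟨y, hy⟩, x1⟩ := h1
    have hx : x ∈ N.subgroupOf M := by
      simpa [mul_assoc, mem_subgroupOf] using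
        (inferInstance : N.Normal).conj_mem _ (subset_normalClosure hy) y⁻¹
    have := hL.1
    have h2 := (IsSimpleGroup.eq_bot_or_eq_top_of_normal ((N.subgroupOf M).map π)
      (Normal.map inferInstance π hπ)).resolve_left
      fun e => x1 (mem_bot.1 (e ▸ mem_map_of_mem π hx))
    have h3 : commutator M ≤ N.subgroupOf M := commutator_le.2 fun a _ b _ => by
      obtain ⟨n, hn, e⟩ : π a ∈ (N.subgroupOf M).map π := h2 ▸ mem_top _
      have h4 := mem_center_iff.1 (hk (show π (n⁻¹ * a) = 1 by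
        rw [map_mul, map_inv, e, inv_mul_cancel])) b
      rw [show ⁅a, b⁆ = n * (n⁻¹ * a * b * a⁻¹ * b⁻¹) by rw [commutatorElement_def]; group, ← h4,
        show b * (n⁻¹ * a) * a⁻¹ * b⁻¹ = b * n⁻¹ * b⁻¹ by group]
      exact mul_mem hn ((inferInstance : (N.subgroupOf M).Normal).conj_mem _ (inv_mem hn) b)
    have h5 : g ∈ M := by
      obtain ⟨c, hc⟩ := hi
      have h6 : g ^ 2 ∈ M := by rw [hc, pow_mul]; exact pow_mem (M.pow_index_mem g) c
      exact zpowers_le.2 h6 (mem_zpowers_pow_iff.2 (Nat.coprime_two_left.2 hg.2))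
    exact h3 (perf hM ▸ mem_top (⟨g, h5⟩ : M))
  · push Not at h1
    have h2 : M ≤ normalizer (T : Set H) := fun m hm => mem_normalizer_fintype fun t ht => by
      rwa [cent hM hπ hk hL hX h1 t (mem_inX ht) m hm, mul_inv_cancel_right]
    have h3 : (S : Subgroup H) ≤ normalizer (T : Set H) := fun s hs =>
      mem_normalizer_fintype fun t ht => sc_normal hT hs ht
    have h4 := ((Nat.dvd_prime Nat.prime_two).1 ((index_dvd_of_le h2).trans hi)).resolve_right
      fun e => S.not_dvd_index ((dvd_of_eq e.symm).trans (index_dvd_of_le h3))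
    have h5 : T ≤ pCore 2 H :=
      le_sSup ⟨normalizer_eq_top_iff.1 (index_eq_one.1 h4), S.isPGroup'.to_le hT.1⟩
    exact absurd (eq_bot_iff.2 (h5.trans hO.le)) h0

theorem lq (hg : GoldStmt.{u}) (h2 : Idx2Stmt.{u}) : LqStmt.{u} := by
  intro K _ _ hK h8 D M hD hMD hi hM L _ π hπ hk hL hn
  obtain ⟨R⟩ : Nonempty (Sylow 2 D) := inferInstance
  have hS : ¬ 2 ∣ ((R : Subgroup D).map D.subtype).index := by
    rw [index_map_subtype, Nat.prime_two.dvd_mul]
    exact fun e => e.elim R.not_dvd_index hD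
  let S : Sylow 2 K := (R.isPGroup'.map D.subtype).toSylow hS
  have hSD : (S : Subgroup K) ≤ D := map_subtype_le _
  refine nsc_of_one S fun T hT h0 => ?_
  have hX := xc_inX hT
  by_cases h1 : ∃ x : M, (x : K) ∈ InX T ∧ π x ≠ 1
  · exact (h2 K hK.index_ne_two S T hT (rel_dvd hSD hi fun s hs => InX.mem hT
      (all_two hM hπ hk hn hX h1 s hs.1 (Two.of_mem S.isPGroup' hs.2)) hs.2)).ge
  push Not at h1
  have := normal_of_dvd (M := M.subgroupOf D) hi
  have h3 := cent (M := M.subgroupOf D) (π := π.comp (subgroupOfEquivOfLe hMD).toMonoidHom)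
    (map_injective D.subtype_injective (by
      rw [map_commutator, subgroupOf_map_subtype, inf_eq_left.2 hMD, hM]))
    (hπ.comp (subgroupOfEquivOfLe hMD).surjective)
    (fun x hx => mem_center_iff.2 fun g => (subgroupOfEquivOfLe hMD).injective (by
      rw [map_mul, map_mul]; exact mem_center_iff.1 (hk hx) _)) hL (xc_sub hX D)
    fun x hx => h1 _ hx
  have h4 : ∀ a ∈ T, ∀ m ∈ T, m ∈ M → m * a = a * m := fun a ha m hm hm' =>
    congrArg Subtype.val (h3 ⟨a, hSD (hT.1 ha)⟩ (mem_inX ha) ⟨m, hMD hm'⟩ hm')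
  refine absurd (hg K hK h8 S T hT fun a ha b hb => ?_) h0
  by_cases c1 : a ∈ M
  · exact h4 b hb a ha c1
  by_cases c2 : b ∈ M
  · exact (h4 a ha b hb c2).symm
  have c3 : a * b ∈ M := by
    rcases (Nat.dvd_prime Nat.prime_two).1 hi with e | e
    · exact absurd (relIndex_eq_one.1 e (hSD (hT.1 ha))) c1
    · exact (mul_mem_iff_of_index_two (H := M.subgroupOf D) e (a := ⟨a, hSD (hT.1 ha)⟩)
        (b := ⟨b, hSD (hT.1 hb)⟩)).2 (iff_of_false c1 c2)
  have c4 := h4 a ha _ (mul_mem ha hb) c3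
  rw [mul_assoc] at c4
  exact (mul_left_cancel c4).symm

end Cfsg.Agent.H32.FkExt
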