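import Cfsg.Agent.H78.G40B

/-! Project L40G: Hilbert 90 for `SL₃(9)`. -/

set_option autoImplicit false

namespace Cfsg.Agent.H32.G40Cls3

open Matrix Cfsg.Agent.H28 Cfsg.Agent.H78.G40

theorem det_lin {R : Type} [CommRing R] (c d : R) (x : Matrix (Fin 3) (Fin 3) R) :
    (c • (1 : Matrix (Fin 3) (Fin 3) R) + d • x).det = c ^ 3 + c ^ 2 * d * (x 0 0 + x 1 1 + x 2 2) +
      c * d ^ 2 * (x 0 0 * x 1 1 - x 0 1 * x 1 0 + x 0 0 * x 2 2 - x 0 2 * x 2 0 +
        x 1 1 * x 2 2 - x 1 2 * x 2 1) + d ^ 3 * x.det := by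
  simp [det_fin_three]
  ring

theorem fin1 : ∀ a b : F9, ∃ c : F9,
    c ^ 3 + c ^ 2 * star c * a + c * star c ^ 2 * b + star c ^ 3 * 1 ≠ 0 := by decide +kernel

theorem fin2 : ∀ d : F9, star d = d → d ≠ 0 → d = 1 ∨ d = -1 := by decide +kernel

theorem cls3 : Cls3S := by
  intro x hx
  have hx' : x.1 * x.1.map (starRingEnd F9) = 1 := congrArg Subtype.val hx
  have key : ∀ y : Matrix (Fin 3) (Fin 3) F9, x.1 * y.map (starRingEnd F9) = y → y.det = 1 →
      ∃ y, x = y * (τ3 y)⁻¹ := fun y h hd =>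
    ⟨⟨y, hd⟩, eq_mul_inv_of_mul_eq (Subtype.ext h)⟩
  obtain ⟨c, hc⟩ := fin1 (x.1 0 0 + x.1 1 1 + x.1 2 2) (x.1 0 0 * x.1 1 1 - x.1 0 1 * x.1 1 0 +
    x.1 0 0 * x.1 2 2 - x.1 0 2 * x.1 2 0 + x.1 1 1 * x.1 2 2 - x.1 1 2 * x.1 2 1)
  replace hc : (c • (1 : Matrix (Fin 3) (Fin 3) F9) + star c • x.1).det ≠ 0 := by
    rwa [det_lin, x.2]
  set y := c • (1 : Matrix (Fin 3) (Fin 3) F9) + star c • x.1 with hy
  have e : y.map (starRingEnd F9) =
      star c • (1 : Matrix (Fin 3) (Fin 3) F9) + c • x.1.map (starRingEnd F9) := by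
    ext i j : 1
    by_cases h : i = j <;> simp [hy, one_apply, h, starRingEnd_apply]
  have h : x.1 * y.map (starRingEnd F9) = y := by
    rw [e, mul_add, Matrix.mul_smul, Matrix.mul_smul, hx', mul_one, add_comm]
  have hd : star y.det = y.det := by
    have := congrArg det h
    rw [det_mul, x.2, one_mul] at this
    exact ((starRingEnd F9).map_det y).trans this
  rcases fin2 _ hd hc with h1 | h1
  · exact key y h h1
  · refine key (-y) ?_ (by rw [det_neg, h1]; simp; norm_num)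
    rw [Matrix.map_neg _ (map_neg _), mul_neg, h]

end Cfsg.Agent.H32.G40Cls3
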