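import Cfsg.Agent.H42.HtDefs
import Cfsg.Agent.H52.Quasisimple

/-!
# Project HT, piece TRW: the wreathed case does not occur
-/

set_option autoImplicit false

namespace Cfsg.Agent.H32.HtTrw

open Cfsg Cfsg.Agent.H42.HT Subgroup

universe u

variable {G : Type u} [Group G]

theorem two {Y : Subgroup G} (hs : IsSimpleGroup Y) (Z : Subgroup G)
    (h1 : ∀ a ∈ Y, ∀ b ∈ Z, a * b * a⁻¹ ∈ Z) (h2 : ∀ a ∈ Y, ∀ b ∈ Z, b * a * b⁻¹ ∈ Y) :
    Y ≤ Z ∨ ∀ a ∈ Y, ∀ b ∈ Z, a * b = b * a := by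
  have hn : (Z.subgroupOf Y).Normal := ⟨fun n hn g => h1 g g.2 n hn⟩
  rcases hn.eq_bot_or_eq_top with h | h
  · refine .inr fun a ha b hb => ?_
    have m1 : a * (b * a⁻¹ * b⁻¹) ∈ Y := mul_mem ha (h2 _ (inv_mem ha) b hb)
    have m2 : (⟨_, m1⟩ : Y) ∈ Z.subgroupOf Y := by
      rw [mem_subgroupOf]
      simpa [mul_assoc] using mul_mem (h1 a ha b hb) (inv_mem hb)
    rw [h, mem_bot, Subtype.ext_iff] at m2
    have m3 : a * (b * a⁻¹ * b⁻¹) = 1 := m2
    calc a * b = a * (b * a⁻¹ * b⁻¹) * (b * a) := by group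
      _ = b * a := by rw [m3, one_mul]
  · exact .inl (subgroupOf_eq_top.1 h)

theorem cen {Y : Subgroup G} (hs : IsSimpleGroup Y) (na : ¬ IsMulCommutative Y) {c : G}
    (hc : c ∈ Y) (h : ∀ a ∈ Y, a * c = c * a) : c = 1 := by
  rcases (inferInstance : (center Y).Normal).eq_bot_or_eq_top with e | e
  · have : (⟨c, hc⟩ : Y) ∈ center Y := mem_center_iff.2 fun g => Subtype.ext (h g g.2)
    rw [e, mem_bot] at this
    exact congrArg Subtype.val this
  · exact absurd ⟨⟨fun a b => mem_center_iff.1 (e ▸ mem_top b) a⟩⟩ na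

theorem trw : TrwStmt.{u} := by
  rintro F G _ _ β τ S hk ⟨Y, hs, na, ⟨iso⟩, cm, inf, sup, le⟩
  have τi : τ⁻¹ = τ := inv_eq_of_mul_eq_one_right S.τ2
  have back : ∀ x : G, τ * (τ * x * τ⁻¹) * τ⁻¹ = x := fun x => by
    rw [τi, show τ * (τ * x * τ) * τ = τ * τ * x * (τ * τ) by group, S.τ2]; simp
  set Y' := Y.map (MulAut.conj τ).toMonoidHom with hY'
  have m1 : ∀ a ∈ Y, τ * a * τ⁻¹ ∈ Y' := fun a ha => ⟨a, ha, rfl⟩
  have m2 : ∀ b ∈ Y', τ * b * τ⁻¹ ∈ Y := by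
    rintro _ ⟨a, ha, rfl⟩
    exact (back a).symm ▸ ha
  have dec : ∀ n ∈ layer G, ∃ a ∈ Y, ∃ b ∈ Y', a * b = n := fun n hn => by
    have h : Y' ≤ normalizer (Y : Set G) := fun b hb =>
      centralizer_le_normalizer _ (mem_centralizer_iff.2 fun a ha => cm a ha b hb)
    have := coe_mul_of_right_le_normalizer_left Y Y' h
    rw [sup] at this
    exact Set.mem_mul.1 (this.le hn)
  have uq : ∀ a ∈ Y, ∀ b ∈ Y', ∀ a' ∈ Y, ∀ b' ∈ Y', a * b = a' * b' → a = a' := by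
    intro a ha b hb a' ha' b' hb' e
    have e' : a'⁻¹ * a = b' * b⁻¹ := by
      rw [inv_mul_eq_iff_eq_mul, ← mul_assoc, ← e, mul_inv_cancel_right]
    have : a'⁻¹ * a ∈ Y ⊓ Y' :=
      ⟨Y.mul_mem (Y.inv_mem ha') ha, e' ▸ Y'.mul_mem hb' (Y'.inv_mem hb)⟩
    rw [inf, mem_bot, inv_mul_eq_one] at this
    exact this.symm
  have ex : ∀ s, ∃ a : Y, β s = a * (τ * a * τ⁻¹) := fun s => by
    obtain ⟨a, ha, b, hb, e⟩ := dec _ (le ⟨s, rfl⟩)
    have e2 : τ * b * τ⁻¹ * (τ * a * τ⁻¹) = a * b := by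
      rw [cm a ha b hb, show τ * b * τ⁻¹ * (τ * a * τ⁻¹) = τ * (b * a) * τ⁻¹ by group,
        ← cm a ha b hb, e, (S.cτ s).eq, mul_inv_cancel_right, ← e, cm a ha b hb]
    have e3 := uq _ (m2 b hb) _ (m1 a ha) a ha b hb e2
    refine ⟨⟨a, ha⟩, ?_⟩
    rw [← e]
    congr 1
    rw [← back b, e3]
  choose γ hγ using ex
  have γm : ∀ s s', γ (s * s') = γ s * γ s' := fun s s' => Subtype.ext <|
    uq _ (γ _).2 _ (m1 _ (γ _).2) _ (γ s * γ s').2 _ (m1 _ (γ s * γ s').2) (by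
      rw [← hγ, map_mul, hγ, hγ, coe_mul, mul_assoc, ← mul_assoc (τ * _ * τ⁻¹),
        ← cm _ (γ s').2 _ (m1 _ (γ s).2)]
      group)
  let γh : A8 →* Y := MonoidHom.mk' γ γm
  have γi : Function.Injective γh := fun s s' e => S.inj (by
    rw [hγ, hγ, show γ s = γ s' from e])
  have γb : Function.Bijective γh := (Nat.bijective_iff_injective_and_card _).2 ⟨γi,
    (Nat.card_congr (MonoidHom.ofInjective S.inj).toEquiv).trans (Nat.card_congr iso.toEquiv).symm⟩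
  let γe : A8 ≃* Y := MulEquiv.ofBijective γh γb
  rcases hk with ⟨g, x, y, hx, hy, hg⟩ | ⟨-, hz⟩
  swap
  · refine hz (isConj_iff.2 ⟨γ w2', ?_⟩)
    have h2 : (γ w2' : G) * γ w2' = 1 := by
      rw [← coe_mul, ← γm, show w2' * w2' = 1 from Subtype.ext (by decide)]
      exact congrArg Subtype.val γh.map_one
    rw [hγ, cm _ (γ _).2 _ (m1 _ (γ _).2), inv_eq_of_mul_eq_one_right h2, τi, ← mul_assoc,
      ← mul_assoc, ← mul_assoc, S.τ2, one_mul]
  have key : ∀ g : G, (∀ a ∈ Y, g * a * g⁻¹ ∈ Y) → g * β x * g⁻¹ = β y → False := by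
    intro g hn hg
    have hN : g ∈ normalizer (Y : Set G) := mem_normalizer_fintype hn
    have e1 : (γ y : G)⁻¹ * (g * γ x * g⁻¹) =
        τ * γ y * τ⁻¹ * (g * (τ * γ x * τ⁻¹) * g⁻¹)⁻¹ := by
      rw [hγ, hγ] at hg
      rw [inv_mul_eq_iff_eq_mul, ← mul_assoc (γ y : G), ← hg]
      group
    have e2 := cen hs na (mul_mem (inv_mem (γ y).2) (hn _ (γ x).2)) fun a ha => by
      rw [e1]
      refine (Commute.mul_right (cm a ha _ (m1 _ (γ y).2)) (Commute.inv_right ?_)).eq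
      have := (show Commute _ _ from cm _ ((mem_normalizer_iff''.1 hN a).1 ha) _
        (m1 _ (γ x).2)).conj g
      rwa [show g * (g⁻¹ * a * g) * g⁻¹ = a by group] at this
    let c : Y →* Y := ((MulAut.conj g).toMonoidHom.comp Y.subtype).codRestrict Y
      fun a => hn a a.2
    have ci : Function.Injective c := fun a b e =>
      Subtype.ext ((MulAut.conj g).injective (congrArg Subtype.val e))
    obtain ⟨p, hp⟩ := F.a8 2 3 (by decide)
      (A8.subtype.comp (γe.symm.toMonoidHom.comp (c.comp γh)))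
      (A8.subtype_injective.comp (γe.symm.injective.comp (ci.comp γi)))
    have e3 : γe.symm (c (γh x)) = y := by
      rw [MulEquiv.symm_apply_eq]
      exact Subtype.ext (inv_mul_eq_one.1 e2).symm
    have e4 : (y : P) = p * x * p⁻¹ := by rw [← hp x, ← e3]; rfl
    rw [e4, Equiv.Perm.card_support_conj, hx.card_support] at hy
    exact absurd hy (by decide)
  have nE := H52.layer_normal (G := G)
  have YE : ∀ a ∈ Y, a ∈ layer G := fun a ha => sup ▸ mem_sup_left ha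
  have YE' : ∀ a ∈ Y', a ∈ layer G := fun a ha => sup ▸ mem_sup_right ha
  have nY : ∀ n ∈ layer G, ∀ x ∈ Y, n * x * n⁻¹ ∈ Y := fun n hn x hx => by
    obtain ⟨a, ha, b, hb, rfl⟩ := dec n hn
    rw [show a * b * x * (a * b)⁻¹ = a * (b * x * b⁻¹) * a⁻¹ by group, ← cm x hx b hb,
      mul_inv_cancel_right]
    exact mul_mem (mul_mem ha hx) (inv_mem ha)
  have nY' : ∀ n ∈ layer G, ∀ x ∈ Y', n * x * n⁻¹ ∈ Y' := fun n hn x hx => by
    obtain ⟨a, ha, b, hb, rfl⟩ := dec n hn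
    rw [cm a ha b hb, show b * a * x * (b * a)⁻¹ = b * (a * x * a⁻¹) * b⁻¹ by group, cm a ha x hx,
      mul_inv_cancel_right]
    exact mul_mem (mul_mem hb hx) (inv_mem hb)
  have tw : ∀ Z : Subgroup G, (∀ a ∈ Z, a ∈ layer G) → (∀ n ∈ layer G, ∀ x ∈ Z, n * x * n⁻¹ ∈ Z) →
      (∀ a ∈ Y, g * a * g⁻¹ ∈ Z) ∨ ∀ a ∈ Y, ∀ b ∈ Z, g * a * g⁻¹ * b = b * (g * a * g⁻¹) := by
    intro Z h1 h2
    refine (two hs (Z.comap (MulAut.conj g).toMonoidHom) (fun a ha b hb => ?_)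
      fun a ha b hb => nY b ?_ a ha).imp (fun h a ha => h ha) fun h a ha b hb => ?_
    · have := h2 _ (nE.conj_mem a (YE a ha) g) _ hb
      rw [mem_comap, map_mul, map_mul, map_inv]
      exact this
    · have := nE.conj_mem _ (h1 _ hb) g⁻¹
      simpa [mul_assoc] using this
    · have := h a ha (g⁻¹ * b * g) (by simpa [mul_assoc] using hb)
      calc g * a * g⁻¹ * b = g * (a * (g⁻¹ * b * g)) * g⁻¹ := by group
        _ = b * (g * a * g⁻¹) := by rw [this]; group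
  rcases tw Y YE nY with h | h
  · exact key g h hg
  rcases tw Y' YE' nY' with h' | h'
  · refine key (τ * g) (fun a ha => ?_) ?_
    · have := m2 _ (h' a ha)
      rwa [show τ * (g * a * g⁻¹) * τ⁻¹ = τ * g * a * (τ * g)⁻¹ by group] at this
    · rw [show τ * g * β x * (τ * g)⁻¹ = τ * (g * β x * g⁻¹) * τ⁻¹ by group, hg, (S.cτ y).eq,
        mul_inv_cancel_right]
  refine na ⟨⟨fun a b => Subtype.ext ((MulAut.conj g).injective ?_)⟩⟩
  obtain ⟨c, hc, d, hd, e⟩ := dec _ (nE.conj_mem _ (YE b b.2) g)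
  have := (Commute.mul_right (h a a.2 c hc) (h' a a.2 d hd)).eq
  rw [e] at this
  rw [coe_mul, coe_mul, map_mul, map_mul]
  exact this

end Cfsg.Agent.H32.HtTrw
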