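import Cfsg.Agent.H32.L3RingA
import Cfsg.Agent.H86.U3F

/-! Project L3Q, piece RING: coordinates for the doubled root subgroups. -/

set_option autoImplicit false

namespace Cfsg.Agent.H32.L3R

open Cfsg Cfsg.Agent.H63 Cfsg.Agent.H63.SL Subgroup Cfsg.Agent.H35.L3
open scoped commutatorElement

universe u v

variable {F : Type v} [Field F] {G : Type u} [Group G] {L : Subgroup G}
  {x : Fin 3 → Fin 3 → F → G} {t : G} {Xh : Fin 3 → Fin 3 → Subgroup G}

variable (L x) in
/-- Additive coordinates. -/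
noncomputable def yy (η : G) (k l : Fin 3) (u : F × F) : G := x k l u.1 * tau L x 0 2 k l u.2 η

variable (L x) in
/-- The commutator map in coordinates. -/
noncomputable def mu (η : G) (u v : F × F) : F × F :=
  Function.invFun (yy L x η 0 2) ⁅yy L x η 0 1 u, yy L x η 1 2 v⁆

theorem exists_isGen (F : Type*) [Field F] [Finite F] : ∃ l : F, H38.IsGen l := by
  obtain ⟨g, hg⟩ := IsCyclic.exists_monoid_generator (α := Fˣ)
  refine ⟨g, g.ne_zero, fun x hx => ?_⟩
  obtain ⟨n, hn⟩ := hg (Units.mk0 x hx)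
  exact ⟨n, congrArg Units.val hn⟩

namespace X

variable (z : X L x t Xh) {i j k l : Fin 3} {p q g : G} {a b c d : F} [Finite F]
  {η : G} (hη : η ∈ Xh 0 2) (h1 : DH x t 0 2 η 1)
include z hη

theorem ym (e : k ≠ l) (u) : yy L x η k l u ∈ Xh k l :=
  mul_mem (z.H.le _ _ e _) (z.tau_mem (by decide) e hη)

theorem y_add (e : k ≠ l) (u v) : yy L x η k l (u + v) = yy L x η k l u * yy L x η k l v := by
  rw [yy, yy, yy, Prod.fst_add, Prod.snd_add, z.add e, z.tau_add (by decide) e hη,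
    (z.comm e (z.H.le k l e v.1) (z.tau_mem (by decide) e hη)).mul_mul_mul_comm]

omit [Finite F] hη z in
theorem y_res (k l a) : yy L x η k l (a, 0) = x k l a := by rw [yy, tau_zero, mul_one]

theorem y_tr (hg : g ∈ L) (e : Sc x g i j k l c) (u) :
    g * yy L x η i j u * g⁻¹ = yy L x η k l (c • u) := by
  rw [yy, ← conj_mul, e.eq, z.conj_tau (by decide) hg e hη]; rfl

include h1

theorem y_D (e : k ≠ l) (u) : DH x t k l (yy L x η k l u) u.2 := by
  simpa [yy] using z.D_mul e (z.H.le k l e _) (z.D_x e u.1) (z.tau_D (by decide) e hη h1)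

theorem y_inj (e : k ≠ l) : Function.Injective (yy L x η k l) := fun u v h => by
  have a := z.xinj e (mul_left_cancel ((z.y_D hη h1 e u).symm.trans (h ▸ z.y_D hη h1 e v)))
  rw [yy, yy, a] at h
  exact Prod.ext (z.xinj e (mul_right_cancel h)) a

theorem y_surj (e : k ≠ l) (hp : p ∈ Xh k l) : ∃ u, p = yy L x η k l u := by
  obtain ⟨a, ha⟩ := z.val e hp
  have m := z.tau_mem (c := a) (by decide) e hη
  obtain ⟨c, hc⟩ := z.fix e (mul_mem hp m) (by
    simpa only [mul_one, z.add_self] using z.D_mul e hp ha (z.tau_D (c := a) (by decide) e hη h1))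
  exact ⟨(c, a), by rw [yy, ← hc, mul_assoc, z.sq e m, mul_one]⟩

theorem y_conj (e : k ≠ l) (u) : t * yy L x η k l u * t⁻¹ = yy L x η k l (u + (u.2, 0)) := by
  have := z.y_D hη h1 e u
  rw [DH, z.inv_eq e (z.ym hη e u)] at this
  rw [z.y_add hη e, y_res, inv_eq_of_mul_eq_one_right z.tt, ← mul_right_inj (yy L x η k l u),
    ← mul_assoc, ← mul_assoc, this, ← mul_assoc, z.sq e (z.ym hη e u), one_mul, mul_assoc,
    (z.tL (z.xL e _)).eq, ← mul_assoc, z.tt, one_mul]

omit h1 in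
theorem cm (u v) : ⁅yy L x η 0 1 u, yy L x η 1 2 v⁆ ∈ Xh 0 2 :=
  z.com 0 1 2 (by decide) (by decide) (by decide) _ (z.ym hη (by decide) u) _ (z.ym hη (by decide) v)

theorem mu_spec (u v) : ⁅yy L x η 0 1 u, yy L x η 1 2 v⁆ = yy L x η 0 2 (mu L x η u v) := by
  obtain ⟨c, hc⟩ := z.y_surj hη h1 (by decide) (z.cm hη u v)
  exact (Function.invFun_eq ⟨c, hc.symm⟩).symm

theorem add_mu (u u' v) : mu L x η (u + u') v = mu L x η u v + mu L x η u' v :=
  z.y_inj hη h1 (k := 0) (l := 2) (by decide) (by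
    rw [← z.mu_spec hη h1, z.y_add hη (by decide),
      H80.SL.comm_mul_left (z.l01 (z.ym hη (by decide) u) (z.cm hη u' v)),
      z.mu_spec hη h1, z.mu_spec hη h1, ← z.y_add hη (by decide), add_comm])

theorem mu_add (u v v') : mu L x η u (v + v') = mu L x η u v + mu L x η u v' :=
  z.y_inj hη h1 (k := 0) (l := 2) (by decide) (by
    rw [← z.mu_spec hη h1, z.y_add hη (by decide), commutatorElement_mul_right_eq_mul_conj,
      mul_assoc _ (yy L x η 1 2 v), (z.l12 (z.ym hη (by decide) v) (z.cm hη u v')).eq,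
      mul_assoc ⁅_, _⁆, mul_inv_cancel_right, z.mu_spec hη h1, z.mu_spec hη h1,
      ← z.y_add hη (by decide)])

theorem mu_j (u c) : mu L x η u (c, 0) = c • u := z.y_inj hη h1 (k := 0) (l := 2) (by decide) (by
  rw [← z.mu_spec hη h1, y_res, ← z.star (z.ym hη (by decide) u)]
  rcases z.ex (i := 0) (j := 1) (k := 0) (l := 2) (by decide) (by decide) c with ⟨h0, h⟩ | ⟨g, hg, e, h⟩
  · rw [h, h0, zero_smul, ← z.zero (i := 0) (j := 2) (by decide), ← y_res (L := L) (x := x) (η := η)]; rfl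
  · rw [h _ (z.ym hη (by decide) u), z.y_tr hη hg e])

theorem j_mu (c u) : mu L x η (c, 0) u = c • u := z.y_inj hη h1 (k := 0) (l := 2) (by decide) (by
  rw [← z.mu_spec hη h1, y_res, ← z.star' (z.ym hη (by decide) u)]
  rcases z.ex (i := 1) (j := 2) (k := 0) (l := 2) (by decide) (by decide) c with ⟨h0, h⟩ | ⟨g, hg, e, h⟩
  · rw [h, h0, zero_smul, ← z.zero (i := 0) (j := 2) (by decide), ← y_res (L := L) (x := x) (η := η)]; rfl
  · rw [h _ (z.ym hη (by decide) u), z.y_tr hη hg e])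

theorem mu_smul (hc : c ≠ 0) (u v) : mu L x η (c • u) (c • v) = c ^ 2 • mu L x η u v :=
  z.y_inj hη h1 (k := 0) (l := 2) (by decide) (by
    obtain ⟨g, m, h⟩ := z.tor ![Units.mk0 c hc, 1, (Units.mk0 c hc)⁻¹] (by simp)
    have e1 : Sc x g 0 1 0 1 c := by simpa using h.sc (i := 0) (j := 1) (by decide)
    have e2 : Sc x g 1 2 1 2 c := by simpa using h.sc (i := 1) (j := 2) (by decide)
    have e3 : Sc x g 0 2 0 2 (c ^ 2) := by simpa [pow_two] using h.sc (i := 0) (j := 2) (by decide)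
    rw [← z.mu_spec hη h1, ← z.y_tr hη m e1, ← z.y_tr hη m e2, ← z.y_tr hη m e3,
      ← z.mu_spec hη h1, conjugate_commutatorElement])

theorem mu_eta (a c : F) : mu L x η (0, a) (0, c) = (a * c) • mu L x η (0, 1) (0, 1) := by
  have : CharP F 2 := (CharP.charP_iff_prime_eq_zero Nat.prime_two).2 z.two
  obtain ⟨l, hl⟩ := exists_isGen F
  simpa using H86.U3.hua_mod (mu L x η) (z.add_mu hη h1) (z.mu_add hη h1) hl
    (z.mu_smul hη h1 hl.1) a c (0, 1) (0, 1)

theorem e_snd : (mu L x η (0, 1) (0, 1)).2 = 1 := by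
  have := congrArg (fun g => t * g * t⁻¹) (z.mu_spec hη h1 (0, 1) (0, 1))
  simp only [conjugate_commutatorElement] at this
  rw [z.y_conj hη h1 (by decide), z.y_conj hη h1 (by decide), z.y_conj hη h1 (by decide),
    z.mu_spec hη h1] at this
  have := congrArg Prod.fst (z.y_inj hη h1 (by decide) this)
  rw [z.add_mu hη h1, z.mu_add hη h1, z.mu_j hη h1, z.j_mu hη h1] at this
  simpa using this.symm

theorem mu_eq (u v : F × F) : mu L x η u v =
    (u.1 * v.1 + (mu L x η (0, 1) (0, 1)).1 * u.2 * v.2, u.1 * v.2 + u.2 * v.1 + 1 * u.2 * v.2) := by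
  rw [show u = (u.1, 0) + (0, u.2) by simp, z.add_mu hη h1, z.j_mu hη h1,
    show v = (v.1, 0) + (0, v.2) by simp, z.mu_add hη h1, z.mu_j hη h1, z.mu_eta hη h1]
  ext
  · simp; ring
  · simp [z.e_snd hη h1]; ring

theorem rel (e1 : i ≠ j) (e2 : j ≠ k) (e3 : i ≠ k) (u v) :
    ⁅yy L x η i j u, yy L x η j k v⁆ = yy L x η i k (mu L x η u v) := by
  obtain ⟨π, rfl, rfl, rfl⟩ := (by decide : ∀ i j k, i ≠ j → j ≠ k → i ≠ k →
    ∃ π : Equiv.Perm (Fin 3), π 0 = i ∧ π 1 = j ∧ π 2 = k) i j k e1 e2 e3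
  obtain ⟨g, hg, h⟩ := z.wey π
  have n := fun i j e => z.y_tr hη hg (h.sc (i := i) (j := j) e)
  have := congrArg (fun y => g * y * g⁻¹) (z.mu_spec hη h1 u v)
  simp only [conjugate_commutatorElement] at this
  rw [n _ _ (by decide), n _ _ (by decide), n _ _ (by decide)] at this
  simpa using this

theorem dbl {A : Type u} [CommRing A] (e : A ≃+* QuadraticAlgebra F (mu L x η (0, 1) (0, 1)).1 1) :
    Dbl3 x t (e.symm.toRingHom.comp (algebraMap F _)) (e.trans (starRingAut.trans e.symm))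
      fun j k a => yy L x η j k ((e a).re, (e a).im) := by
  have z0 : ∀ j k, j ≠ k → yy L x η j k (0, 0) = 1 := fun j k h => (y_res j k 0).trans (z.zero h)
  have sur : ∀ j k, j ≠ k → ∀ p ∈ Xh j k, ∃ a, p = yy L x η j k ((e a).re, (e a).im) :=
    fun j k h p hp => by
      obtain ⟨u, hu⟩ := z.y_surj hη h1 h hp
      exact ⟨e.symm ⟨u.1, u.2⟩, by simpa using hu⟩
  refine ⟨⟨e.injective ?_, fun j k h a b => ?_, fun i j k e1 e2 e3 a b => ?_,
    fun i j k e1 e2 a b => z.H.row i j k e1 e2 _ (z.ym hη e1 _) _ (z.ym hη e2 _),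
    fun i j k e1 e2 a b => z.H.col i j k e1 e2 _ (z.ym hη e1 _) _ (z.ym hη e2 _),
    fun j k h a h' => ?_⟩, fun j k h a => ?_, fun j k h a => ?_, fun a => by simp, fun a => ?_,
    ⟨e.symm ⟨0, 1⟩, e.injective ?_⟩, ?_, ?_, ?_⟩
  · rw [map_ofNat, map_zero]
    ext
    · exact z.two
    · rfl
  · rw [map_add]
    exact z.y_add hη h ((e a).re, (e a).im) ((e b).re, (e b).im)
  · rw [z.rel hη h1 e1 e2 e3, z.mu_eq hη h1, map_mul]
    rfl
  · have := z.y_inj hη h1 h (h'.trans (z0 j k h).symm)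
    exact e.injective (by
      rw [map_zero]
      exact QuadraticAlgebra.ext (congrArg Prod.fst this) (congrArg Prod.snd this))
  · simpa using y_res j k a
  · rw [z.y_conj hη h1 h]
    refine congrArg _ (Prod.ext (by simp) ?_)
    simp
    linear_combination (e a).im * z.two
  · constructor
    · intro h
      have := congrArg (fun a => (e a).re) h
      refine ⟨(e a).re, e.injective (QuadraticAlgebra.ext (by simp) ?_)⟩
      simpa using this
    · rintro ⟨b, rfl⟩
      exact e.injective (QuadraticAlgebra.ext (by simp) (by simp))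
  · refine QuadraticAlgebra.ext (by simp [QuadraticAlgebra.re_one]) ?_
    simp [QuadraticAlgebra.im_one]
    linear_combination -z.two
  · rw [Nat.card_congr (e.toEquiv.trans (QuadraticAlgebra.equivProd _ _)), Nat.card_prod, pow_two]
  · convert z.H.uR
    refine le_antisymm ((closure_le _).2 ?_) (sup_le (fun p hp => ?_) fun p hp => ?_)
    · rintro _ ⟨j, h, a, rfl⟩
      rcases (by decide : ∀ j : Fin 3, 0 ≠ j → j = 1 ∨ j = 2) j h with rfl | rfl
      exacts [mem_sup_left (z.ym hη h _), mem_sup_right (z.ym hη h _)]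
    · exact subset_closure ⟨1, by decide, sur _ _ (by decide) p hp⟩
    · exact subset_closure ⟨2, by decide, sur _ _ (by decide) p hp⟩
  · convert z.H.uC
    refine le_antisymm ((closure_le _).2 ?_) (sup_le (fun p hp => ?_) fun p hp => ?_)
    · rintro _ ⟨j, h, a, rfl⟩
      rcases (by decide : ∀ j : Fin 3, j ≠ 2 → j = 1 ∨ j = 0) j h with rfl | rfl
      exacts [mem_sup_left (z.ym hη h _), mem_sup_right (z.ym hη h _)]
    · exact subset_closure ⟨1, by decide, sur _ _ (by decide) p hp⟩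
    · exact subset_closure ⟨0, by decide, sur _ _ (by decide) p hp⟩

end X

theorem ring (hP : PinStmt3.{u, v}) : RingStmt3.{u, v} := by
  intro F _ _ G _ _ L x m t Xh T H com
  have z : X L x t Xh := ⟨m, hP x m.st, T, H, com⟩
  obtain ⟨η, hη, h1⟩ := H.surj 0 2 (by decide) 1
  have : Finite (QuadraticAlgebra F (mu L x η (0, 1) (0, 1)).1 1) :=
    Finite.of_equiv _ (QuadraticAlgebra.equivProd _ _).symm
  exact ⟨Shrink.{u} (QuadraticAlgebra F (mu L x η (0, 1) (0, 1)).1 1), inferInstance, _, _, _,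
    z.dbl hη h1 (Shrink.ringEquiv _)⟩

end Cfsg.Agent.H32.L3R
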