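import Cfsg.Agent.H35.L3Defs
import Cfsg.Agent.H80.SLRing

/-! Project L3Q, piece RING, part A: transport of the doubled root subgroups. -/

set_option autoImplicit false

namespace Cfsg.Agent.H32.L3R

open Cfsg Cfsg.Agent.H63 Cfsg.Agent.H63.SL Subgroup Cfsg.Agent.H35.L3
open scoped commutatorElement

universe u v

theorem conj_of_comm {G : Type*} [Group G] {a b : G} (h : Commute a b) : a * b * a⁻¹ = b := by
  rw [h.eq, mul_inv_cancel_right]

theorem comm_of_conj {G : Type*} [Group G] {a b : G} (h : a * b * a⁻¹ = b) : Commute a b :=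
  mul_inv_eq_iff_eq_mul.1 h

variable {F : Type v} [Field F] {G : Type u} [Group G] {L : Subgroup G}
  {x : Fin 3 → Fin 3 → F → G} {t : G} {Xh : Fin 3 → Fin 3 → Subgroup G}

section Mon

variable (x) in
/-- `g` acts as a monomial matrix. -/
def Mon (g : G) (π : Equiv.Perm (Fin 3)) (d : Fin 3 → Fˣ) : Prop :=
  ∀ i j, i ≠ j → ∀ a, g * x i j a * g⁻¹ = x (π i) (π j) (d i * ↑(d j)⁻¹ * a)

variable (x) in
/-- `g` is monomial and maps the root `(i, j)` to `(k, l)` with the factor `c`. -/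
def Sc (g : G) (i j k l : Fin 3) (c : F) : Prop :=
  i ≠ j ∧ ∃ π d, Mon x g π d ∧ π i = k ∧ π j = l ∧ c = d i * ↑(d j)⁻¹

variable {g g' : G} {π π' : Equiv.Perm (Fin 3)} {d d' : Fin 3 → Fˣ} {i j k l m n : Fin 3} {c c' : F}

theorem Mon.mul (h : Mon x g π d) (h' : Mon x g' π' d') :
    Mon x (g * g') (π * π') fun i => d (π' i) * d' i := fun i j e a => by
  rw [mul_inv_rev, ← mul_assoc, mul_assoc g, mul_assoc g, h' i j e, h _ _ (π'.injective.ne e)]
  simp only [Equiv.Perm.mul_apply, mul_inv_rev, Units.val_mul]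
  congr 1
  ring

theorem Mon.inv (h : Mon x g π d) : Mon x g⁻¹ π⁻¹ fun i => (d (π⁻¹ i))⁻¹ := fun i j e a => by
  have := h _ _ (π⁻¹.injective.ne e) (↑(d (π⁻¹ i))⁻¹ * ↑(d (π⁻¹ j))⁻¹⁻¹ * a)
  simp only [Equiv.Perm.coe_inv, Equiv.apply_symm_apply] at this
  rw [show (d (π.symm i) : F) * ↑(d (π.symm j))⁻¹ * (↑(d (π.symm i))⁻¹ * ↑(d (π.symm j))⁻¹⁻¹ * a) = a by
    simp only [Units.val_inv_eq_inv_val]; field_simp] at this
  rw [← this, ← mul_assoc, ← mul_assoc, inv_mul_cancel, one_mul, mul_inv_cancel_right]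
  rfl

theorem Mon.pow (h : Mon x g 1 d) (n : ℕ) : Mon x (g ^ n) 1 (d ^ n) := by
  induction n with
  | zero => intro i j _ a; simp
  | succ n ih => rw [pow_succ, pow_succ]; exact ih.mul h

theorem Mon.memY (h : Mon x g π d) {y : G} (hy : y ∈ Y3 x i j) : g * y * g⁻¹ ∈ Y3 x (π i) (π j) := by
  have : Y3 x i j ≤ (Y3 x (π i) (π j)).comap (MulAut.conj g).toMonoidHom := by
    refine sup_le ((closure_le _).2 ?_) ((closure_le _).2 ?_)
    · rintro _ ⟨k, e, a, rfl⟩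
      exact mem_sup_left (subset_closure ⟨_, π.injective.ne e, _, h _ _ e a⟩)
    · rintro _ ⟨k, e, a, rfl⟩
      exact mem_sup_right (subset_closure ⟨_, π.injective.ne e, _, h _ _ e a⟩)
  exact this hy

theorem Sc.ne (h : Sc x g i j k l c) : c ≠ 0 := by
  obtain ⟨-, π, d, -, -, -, rfl⟩ := h
  simp

theorem Sc.ne' (h : Sc x g i j k l c) : k ≠ l := by
  obtain ⟨e, π, d, -, rfl, rfl, -⟩ := h
  exact π.injective.ne e

theorem Sc.eq (h : Sc x g i j k l c) (a : F) : g * x i j a * g⁻¹ = x k l (c * a) := by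
  obtain ⟨e, π, d, h, rfl, rfl, rfl⟩ := h
  exact h _ _ e a

theorem Sc.mul (h : Sc x g k l m n c) (h' : Sc x g' i j k l c') : Sc x (g * g') i j m n (c * c') := by
  obtain ⟨-, π, d, h, rfl, rfl, rfl⟩ := h
  obtain ⟨e, π', d', h', rfl, rfl, rfl⟩ := h'
  refine ⟨e, _, _, h.mul h', rfl, rfl, ?_⟩
  simp only [mul_inv_rev, Units.val_mul]
  ring

theorem Sc.inv (h : Sc x g i j k l c) : Sc x g⁻¹ k l i j c⁻¹ := by
  obtain ⟨e, π, d, h, rfl, rfl, rfl⟩ := h
  refine ⟨π.injective.ne e, _, _, h.inv, by simp, by simp, ?_⟩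
  simp [mul_comm]

theorem Mon.sc (h : Mon x g π d) (e : i ≠ j) : Sc x g i j (π i) (π j) (d i * ↑(d j)⁻¹) :=
  ⟨e, π, d, h, rfl, rfl, rfl⟩

end Mon

variable (x t) in
/-- The value of the commutator with `t`. -/
def DH (i j : Fin 3) (p : G) (a : F) : Prop := p * t * p⁻¹ = t * x i j a

variable (L x t Xh) in
/-- All hypotheses. -/
structure X : Prop where
  m : M3 L x
  P : Pin3 x
  T : Tc L t
  H : Hats3 L x t Xh
  com : Com3 Xh

open Classical in
variable (L x) in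
/-- Transport of the doubled root groups. -/
noncomputable def tau (i j k l : Fin 3) (c : F) (p : G) : G :=
  if h : ∃ g ∈ L, Sc x g i j k l c then h.choose * p * h.choose⁻¹ else 1

namespace X

variable (z : X L x t Xh) {i j k l m n : Fin 3} {p q g : G} {a b c d : F}
include z

theorem two : (2 : F) = 0 := z.m.st.two
theorem add_self (a : F) : a + a = 0 := by rw [← two_mul, z.two, zero_mul]
theorem add (e : i ≠ j) (a b : F) : x i j (a + b) = x i j a * x i j b := z.m.st.add i j e a b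
theorem zero (e : i ≠ j) : x i j 0 = 1 := by simpa using z.add e 0 0
theorem xsq (e : i ≠ j) (a : F) : x i j a * x i j a = 1 := by rw [← z.add e, z.add_self, z.zero e]
theorem xinj (e : i ≠ j) (h : x i j a = x i j b) : a = b := by
  have := z.m.st.inj i j e (a + b) (by rw [z.add e, h, z.xsq e])
  linear_combination this - b * z.two
theorem xL (e : i ≠ j) (a : F) : x i j a ∈ L := z.m.gen ▸ subset_closure ⟨i, j, e, a, rfl⟩
theorem tL (hg : g ∈ L) : Commute g t := z.T.tc g hg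
theorem tt : t * t = 1 := by rw [← sq, ← z.T.t2, pow_orderOf_eq_one]
theorem cy (e : i ≠ j) (hp : p ∈ Xh i j) : p ∈ C[Y3 x i j] := ((z.H.mem i j e p).1 hp).1
theorem sq (e : i ≠ j) (hp : p ∈ Xh i j) : p * p = 1 := ((z.H.mem i j e p).1 hp).2.1
theorem val (e : i ≠ j) (hp : p ∈ Xh i j) : ∃ a, DH x t i j p a := ((z.H.mem i j e p).1 hp).2.2.1
theorem inv_eq (e : i ≠ j) (hp : p ∈ Xh i j) : p⁻¹ = p := inv_eq_of_mul_eq_one_right (z.sq e hp)
theorem comm (e : i ≠ j) (hp : p ∈ Xh i j) (hq : q ∈ Xh i j) : Commute p q :=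
  z.H.row i j j e e p hp q hq
theorem l01 (hp : p ∈ Xh 0 1) (hq : q ∈ Xh 0 2) : Commute p q :=
  z.H.row 0 1 2 (by decide) (by decide) p hp q hq
theorem l12 (hp : p ∈ Xh 1 2) (hq : q ∈ Xh 0 2) : Commute p q :=
  z.H.col 1 0 2 (by decide) (by decide) p hp q hq

theorem D_x (e : i ≠ j) (b : F) : DH x t i j (x i j b) 0 := by
  rw [DH, conj_of_comm (z.tL (z.xL e b)), z.zero e, mul_one]

theorem D_comm (e : i ≠ j) (h : DH x t i j p 0) : Commute p t :=
  comm_of_conj (by rw [h, z.zero e, mul_one])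

theorem D_mul (e : i ≠ j) (hp : p ∈ Xh i j) (ha : DH x t i j p a) (hb : DH x t i j q b) :
    DH x t i j (p * q) (a + b) := by
  rw [DH, mul_inv_rev, ← mul_assoc, mul_assoc p, mul_assoc p, hb, ← conj_mul, ha,
    conj_of_comm (z.comm e hp (z.H.le i j e b)), z.add e, mul_assoc]

theorem D_conj (hg : g ∈ L) (e : Sc x g i j k l c) (ha : DH x t i j p a) :
    DH x t k l (g * p * g⁻¹) (c * a) := by
  rw [DH, ← e.eq, ← conj_of_comm (z.tL hg), conj_mul, conj_mul, ← ha]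
  group

theorem fix (e : i ≠ j) (hp : p ∈ Xh i j) (h : DH x t i j p 0) : ∃ a, p = x i j a :=
  z.H.fix i j e p hp (z.D_comm e h)

theorem eq_one (e : i ≠ j) (e' : k ≠ l) (hz : ∀ a c, x i j a = x k l c → a = 0) (h0 : p ∈ Xh i j)
    (h1 : p ∈ Xh k l) : p = 1 := by
  obtain ⟨a, ha⟩ := z.val e h0
  obtain ⟨b, hb⟩ := z.val e' h1
  rw [hz _ _ (mul_left_cancel (ha.symm.trans hb))] at ha
  obtain ⟨c, hc⟩ := z.fix e h0 ha
  obtain ⟨d, hd⟩ := z.H.fix k l e' p h1 (z.D_comm e ha)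
  rw [hc, hz _ _ (hc.symm.trans hd), z.zero e]

theorem z01 (a c : F) (h : x 0 1 a = x 0 2 c) : a = 0 :=
  (z.P.uniq 0 1 2 (by decide) (by decide) (by decide) a 0 0 0 0 c (by
    simp [z.zero, h])).1

theorem z12 (a c : F) (h : x 1 2 a = x 0 2 c) : a = 0 :=
  (z.P.uniq 0 1 2 (by decide) (by decide) (by decide) 0 a 0 0 0 c (by
    simp [z.zero, h])).2.1

theorem act (hg : g ∈ L) (e : Sc x g i j k l c) (hp : p ∈ Xh i j) : g * p * g⁻¹ ∈ Xh k l := by
  obtain ⟨a, ha⟩ := z.val e.1 hp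
  refine (z.H.mem _ _ e.ne' _).2 ⟨fun y hy => ?_,
    by rw [conj_mul, z.sq e.1 hp, mul_one, mul_inv_cancel], ⟨_, z.D_conj hg e ha⟩,
    fun ⟨b, hb⟩ => ((z.H.mem i j e.1 p).1 hp).2.2.2 ⟨c⁻¹ * b, ?_⟩⟩
  · obtain ⟨-, π, d, h, h1, h2, -⟩ := e.inv
    have := z.cy e.1 hp _ (h1 ▸ h2 ▸ h.memY hy)
    calc _ = g * (g⁻¹ * y * g⁻¹⁻¹ * p) * g⁻¹ := by group
      _ = _ := by rw [this]; group
  · rw [← e.inv.eq, ← mul_assoc, ← mul_assoc, ← (z.tL (inv_mem hg)).eq, mul_assoc _ t, ← hb]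
    group

variable [Finite F]

theorem triv (hg : g ∈ L) (e : Sc x g i j i j 1) (hp : p ∈ Xh i j) : g * p * g⁻¹ = p := by
  obtain ⟨a, ha⟩ := z.val e.1 hp
  have h1 := z.D_mul e.1 hp ha (z.D_conj hg e ha)
  rw [one_mul, z.add_self] at h1
  obtain ⟨b, hb⟩ := z.fix e.1 (mul_mem hp (z.act hg e hp)) h1
  replace hb : g * p * g⁻¹ = p * x i j b := by rw [← hb, ← mul_assoc, z.sq e.1 hp, one_mul]
  have h2 : ∀ n : ℕ, g ^ n * p * (g ^ n)⁻¹ = p * x i j (n * b) := fun n => by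
    induction n with
    | zero => simp [z.zero e.1]
    | succ n ih =>
      rw [pow_succ', mul_inv_rev, ← mul_assoc, mul_assoc g, mul_assoc g, ih, ← conj_mul, hb, e.eq,
        mul_assoc, ← z.add e.1]
      congr 2
      push_cast
      ring
  obtain ⟨e1, π, d, h, k1, k2, -⟩ := id e
  obtain rfl : π = 1 := by
    revert π i j
    simp only [ne_eq]
    exact fun {i j} _ _ _ _ _ _ _ π _ k1 k2 =>
      (by decide : ∀ (π : Equiv.Perm (Fin 3)) (i j : Fin 3), i ≠ j → π i = i → π j = j → π = 1)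
        π i j ‹_› k1 k2
  have h3 : g ^ Nat.card Fˣ ∈ C[L] := by
    rw [← z.m.gen, All, centralizer_closure]
    rintro _ ⟨k, l, e', c, rfl⟩
    have := h.pow (Nat.card Fˣ) k l e' c
    simp only [Pi.pow_apply, pow_card_eq_one', inv_one, Units.val_one, one_mul,
      Equiv.Perm.one_apply] at this
    exact (comm_of_conj this).symm
  have h4 := z.H.odd _ h3 (z.tL (pow_mem hg _)) (z.m.zodd _ ⟨pow_mem hg _, h3⟩) i j e1 p hp
  have h5 := z.m.st.inj i j e1 _ (mul_eq_left.1 ((h2 _).symm.trans (conj_of_comm h4)))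
  have := Fintype.ofFinite F
  have h6 := FiniteField.cast_card_eq_zero F
  rw [← Nat.card_eq_fintype_card, Nat.card_eq_card_units_add_one, Nat.cast_succ] at h6
  rw [hb, show b = 0 by linear_combination b * h6 - h5, z.zero e1, mul_one]

theorem tau_eq (hg : g ∈ L) (e : Sc x g i j k l c) (hp : p ∈ Xh i j) :
    g * p * g⁻¹ = tau L x i j k l c p := by
  have h : ∃ g ∈ L, Sc x g i j k l c := ⟨g, hg, e⟩
  rw [tau, dif_pos h]
  have := h.choose_spec.2.inv.mul e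
  rw [inv_mul_cancel₀ e.ne] at this
  have := z.triv (mul_mem (inv_mem h.choose_spec.1) hg) this hp
  calc _ = h.choose * (h.choose⁻¹ * g * p * (h.choose⁻¹ * g)⁻¹) * h.choose⁻¹ := by group
    _ = _ := by rw [this]

omit z [Finite F] in
theorem tau_zero : tau L x i j k l 0 p = 1 := dif_neg fun ⟨_, _, h⟩ => h.ne rfl

omit [Finite F] in
theorem tor (d : Fin 3 → Fˣ) (h : d 0 * d 1 * d 2 = 1) : ∃ g ∈ L, Mon x g 1 d :=
  z.m.gen ▸ z.P.tor d h

omit [Finite F] in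
theorem wey (π : Equiv.Perm (Fin 3)) : ∃ g ∈ L, Mon x g π 1 := by
  obtain ⟨g, hg, h⟩ := z.P.wey π
  exact ⟨g, z.m.gen ▸ hg, fun i j e a => by simpa using h i j e a⟩

omit [Finite F] in
theorem exists_sc (e : i ≠ j) (e' : k ≠ l) (hc : c ≠ 0) : ∃ g ∈ L, Sc x g i j k l c := by
  have key : ∀ i j, i ≠ j → ∃ π : Equiv.Perm (Fin 3), π 0 = i ∧ π 1 = j := by decide
  obtain ⟨π, rfl, rfl⟩ := key i j e
  obtain ⟨π', rfl, rfl⟩ := key k l e'
  obtain ⟨g, hg, h⟩ := z.wey π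
  obtain ⟨g', hg', h'⟩ := z.wey π'
  obtain ⟨g0, hg0, h0⟩ := z.tor ![Units.mk0 c hc, 1, (Units.mk0 c hc)⁻¹] (by simp)
  refine ⟨_, mul_mem hg' (mul_mem hg0 (inv_mem hg)), ?_⟩
  simpa using (h'.sc (i := 0) (j := 1) (by decide)).mul
    ((h0.sc (i := 0) (j := 1) (by decide)).mul (h.sc (i := 0) (j := 1) (by decide)).inv)

theorem ex (e : i ≠ j) (e' : k ≠ l) (c : F) : (c = 0 ∧ ∀ p, tau L x i j k l c p = 1) ∨
    ∃ g ∈ L, Sc x g i j k l c ∧ ∀ p ∈ Xh i j, tau L x i j k l c p = g * p * g⁻¹ := by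
  by_cases h : c = 0
  · exact Or.inl ⟨h, fun _ => h ▸ tau_zero⟩
  · obtain ⟨g, hg, e⟩ := z.exists_sc e e' h
    exact Or.inr ⟨g, hg, e, fun p hp => (z.tau_eq hg e hp).symm⟩

theorem tau_mem (e : i ≠ j) (e' : k ≠ l) (hp : p ∈ Xh i j) : tau L x i j k l c p ∈ Xh k l := by
  rcases z.ex e e' c with ⟨-, h⟩ | ⟨g, hg, e, h⟩
  · exact h p ▸ one_mem _
  · exact h p hp ▸ z.act hg e hp

theorem tau_D (e : i ≠ j) (e' : k ≠ l) (hp : p ∈ Xh i j) (ha : DH x t i j p a) :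
    DH x t k l (tau L x i j k l c p) (c * a) := by
  rcases z.ex e e' c with ⟨h0, h⟩ | ⟨g, hg, e, h⟩
  · rw [h p, h0, zero_mul, ← z.zero e']; exact z.D_x e' 0
  · exact h p hp ▸ z.D_conj hg e ha

theorem conj_tau (e0 : i ≠ j) (hg : g ∈ L) (e : Sc x g k l m n d) (hp : p ∈ Xh i j) :
    g * tau L x i j k l c p * g⁻¹ = tau L x i j m n (d * c) p := by
  rcases z.ex e0 e.1 c with ⟨h0, h⟩ | ⟨g', hg', e', h⟩
  · rw [h, h0, mul_zero, tau_zero, mul_one, mul_inv_cancel]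
  · rw [h p hp, ← z.tau_eq (mul_mem hg hg') (e.mul e') hp]; group

omit [Finite F] in
theorem nn (e : i ≠ j) {h : G} {d : Fin 3 → Fˣ} (hh : Mon x h 1 d) :
    Mon x (x i j (d i * ↑(d j)⁻¹) * x j i (d j * ↑(d i)⁻¹) * x i j (d i * ↑(d j)⁻¹)) (Equiv.swap i j)
      fun k => d (Equiv.swap i j k) * (d k)⁻¹ := by
  have h1 : Mon x (n3 x i j) (Equiv.swap i j) 1 := fun k l e' a => by
    simpa using z.P.nn i j e k l e' a
  have h2 := hh.mul (h1.mul hh.inv)
  have h3 := hh i j e 1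
  have h4 := hh j i e.symm 1
  simp only [Equiv.Perm.one_apply, mul_one] at h3 h4
  rw [← h3, ← h4, conj_mul, conj_mul, mul_assoc h]
  simpa [n3] using h2

theorem star (hp : p ∈ Xh 0 1) : tau L x 0 1 0 2 c p = ⁅p, x 1 2 c⁆ := by
  by_cases h : c = 0
  · rw [h, tau_zero, z.zero (by decide), commutatorElement_one_right]
  obtain ⟨g0, -, h0⟩ := z.tor ![(Units.mk0 c h)⁻¹, Units.mk0 c h, 1] (by simp)
  have h1 : ⁅p, x 1 2 c⁆ ∈ Xh 0 2 := z.H.br 0 1 2 (by decide) (by decide) (by decide) p hp c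
  have h2 : ⁅⁅p, x 1 2 c⁆, x 2 1 c⁻¹⁆ ∈ Xh 0 1 :=
    z.H.br 0 2 1 (by decide) (by decide) (by decide) _ h1 _
  have h3 : Sc x (x 1 2 c * x 2 1 c⁻¹ * x 1 2 c) 0 1 0 2 c := by
    simpa [Equiv.swap_apply_def] using
      (z.nn (i := 1) (j := 2) (by decide) h0).sc (i := 0) (j := 1) (by decide)
  have h4 := H80.SL.Hy.star_aux (z.tau_eq (mul_mem (mul_mem (z.xL (by decide) _)
    (z.xL (by decide) _)) (z.xL (by decide) _)) h3 hp)
    (z.l12 (z.H.le 1 2 (by decide) c) (z.tau_mem (by decide) (by decide) hp))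
    (z.H.col 0 2 1 (by decide) (by decide) p hp _ (z.H.le 2 1 (by decide) _)) (z.l01 hp h1)
    (z.inv_eq (by decide) h1)
  have h5 := z.eq_one (by decide) (by decide) z.z01 (mul_mem (inv_mem h2) hp)
    (h4 ▸ mul_mem (z.tau_mem (by decide) (by decide) hp) (inv_mem h1))
  exact mul_inv_eq_one.1 (h4.symm.trans h5)

theorem star' (hp : p ∈ Xh 1 2) : tau L x 1 2 0 2 c p = ⁅x 0 1 c, p⁆ := by
  by_cases h : c = 0
  · rw [h, tau_zero, z.zero (by decide), commutatorElement_one_left]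
  obtain ⟨g0, -, h0⟩ := z.tor ![Units.mk0 c h, 1, (Units.mk0 c h)⁻¹] (by simp)
  have h0' : ⁅x 0 1 c, p⁆ ∈ Xh 0 2 := z.H.br' 0 1 2 (by decide) (by decide) (by decide) p hp c
  have h1 : ⁅p, x 0 1 c⁆ ∈ Xh 0 2 := commutatorElement_inv (x 0 1 c) p ▸ inv_mem h0'
  have h2 : ⁅⁅p, x 0 1 c⁆, x 1 0 c⁻¹⁆ ∈ Xh 1 2 := commutatorElement_inv (x 1 0 c⁻¹) _ ▸
    inv_mem (z.H.br' 1 0 2 (by decide) (by decide) (by decide) _ h1 _)
  have h3 : Sc x (x 0 1 c * x 1 0 c⁻¹ * x 0 1 c) 1 2 0 2 c := by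
    simpa [Equiv.swap_apply_def] using
      (z.nn (i := 0) (j := 1) (by decide) h0).sc (i := 1) (j := 2) (by decide)
  have h4 := H80.SL.Hy.star_aux (z.tau_eq (mul_mem (mul_mem (z.xL (by decide) _)
    (z.xL (by decide) _)) (z.xL (by decide) _)) h3 hp)
    (z.l01 (z.H.le 0 1 (by decide) c) (z.tau_mem (by decide) (by decide) hp))
    (z.H.row 1 2 0 (by decide) (by decide) p hp _ (z.H.le 1 0 (by decide) _)) (z.l12 hp h1)
    (z.inv_eq (by decide) h1)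
  have h5 := z.eq_one (by decide) (by decide) z.z12 (mul_mem (inv_mem h2) hp)
    (h4 ▸ mul_mem (z.tau_mem (by decide) (by decide) hp) (inv_mem h1))
  rw [← z.inv_eq (by decide) h0', commutatorElement_inv]
  exact mul_inv_eq_one.1 (h4.symm.trans h5)

theorem tau_add (e0 : i ≠ j) (e1 : k ≠ l) (hp : p ∈ Xh i j) :
    tau L x i j k l (c + d) p = tau L x i j k l c p * tau L x i j k l d p := by
  obtain ⟨g, hg, e⟩ := z.exists_sc (k := 0) (l := 1) e0 (by decide) (one_ne_zero' F)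
  obtain ⟨g', hg', e'⟩ := z.exists_sc (i := 0) (j := 2) (by decide) e1 (one_ne_zero' F)
  have hq := z.act hg e hp
  have k1 : ∀ c, tau L x i j k l c p = g' * ⁅g * p * g⁻¹, x 1 2 c⁆ * g'⁻¹ := fun c => by
    rw [← z.star hq, z.conj_tau (by decide) hg' e' hq, one_mul]
    rcases z.ex (i := 0) (j := 1) (by decide) e1 c with ⟨h0, h⟩ | ⟨g'', hg'', e'', h⟩
    · rw [h, h0, tau_zero]
    · rw [h _ hq, z.tau_eq hg e hp, z.conj_tau e0 hg'' e'' hp, mul_one]
  rw [k1, k1, k1, conj_mul, z.add (by decide), commutatorElement_mul_right_eq_mul_conj,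
    mul_assoc _ (x 1 2 c), (z.l12 (q := ⁅_, x 1 2 d⁆) (z.H.le 1 2 (by decide) c)
      (z.H.br 0 1 2 (by decide) (by decide) (by decide) _ hq d)).eq, mul_assoc ⁅_, _⁆,
    mul_inv_cancel_right]

end X

end Cfsg.Agent.H32.L3R
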