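import Mathlib

/-!
Finite groups given by an explicit list of elements.
-/

set_option autoImplicit false
set_option linter.style.haveILetI false

namespace Cfsg.Agent.H32

open Subgroup

variable {G X I : Type*} [Group G]

theorem mem_list_of_closure [Finite G] (s : I → G) (c : G → X) (t : I → X → X)
    (ht : ∀ i g, c (s i * g) = t i (c g)) (D : ℕ → X) (n : ℕ) (hn : 0 < n) (h0 : c 1 = D 0)
    (nx : ℕ → I → ℕ) (hcl : ∀ k < n, ∀ i, nx k i < n ∧ t i (D k) = D (nx k i)) :
    ∀ g ∈ closure (Set.range s), ∃ k < n, c g = D k := by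
  intro g hg
  rw [← mem_toSubmonoid, closure_toSubmonoid_of_finite] at hg
  induction hg using Submonoid.closure_induction_left with
  | one => exact ⟨0, hn, h0⟩
  | mul_left x hx y _ ih =>
    obtain ⟨i, rfl⟩ := hx
    obtain ⟨k, hk, e⟩ := ih
    exact ⟨nx k i, (hcl k hk i).1, by rw [ht, e, (hcl k hk i).2]⟩

theorem card_closure_of_list [Finite G] (s : I → G) (c : G → X) (hc : Function.Injective c)
    (t : I → X → X) (ht : ∀ i g, c (s i * g) = t i (c g)) (D : ℕ → X) (n : ℕ) (hn : 0 < n)
    (h0 : c 1 = D 0) (nx : ℕ → I → ℕ) (hcl : ∀ k < n, ∀ i, nx k i < n ∧ t i (D k) = D (nx k i))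
    (hr : ∀ k < n, k = 0 ∨ ∃ j < k, ∃ i, nx j i = k) (hd : ∀ k < n, ∀ j < k, D j ≠ D k) :
    Nat.card (closure (Set.range s)) = n := by
  have h1 := mem_list_of_closure s c t ht D n hn h0 nx hcl
  have h2 : ∀ k < n, ∃ g ∈ closure (Set.range s), c g = D k := by
    intro k
    induction k using Nat.strong_induction_on with
    | h k ih =>
      intro hk
      rcases hr k hk with rfl | ⟨j, hj, i, rfl⟩
      · exact ⟨1, one_mem _, h0⟩
      · obtain ⟨g, hg, e⟩ := ih j hj (hj.trans hk)
        exact ⟨s i * g, mul_mem (subset_closure ⟨i, rfl⟩) hg, by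
          rw [ht, e, (hcl j (hj.trans hk) i).2]⟩
  choose f hf hf' using h2
  have h3 : Function.Bijective (fun k : Fin n => (⟨f k k.2, hf k k.2⟩ : closure (Set.range s))) := by
    constructor
    · intro j k e
      have e1 : D j = D k := by
        rw [← hf' j j.2, ← hf' k k.2]; exact congrArg (fun x => c x.1) e
      rcases lt_trichotomy j k with h | h | h
      · exact absurd e1 (hd k k.2 j h)
      · exact h
      · exact absurd e1.symm (hd j j.2 k h)
    · rintro ⟨g, hg⟩
      obtain ⟨k, hk, e⟩ := h1 g hg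
      exact ⟨⟨k, hk⟩, Subtype.ext (hc ((hf' k hk).trans e.symm))⟩
  rw [← Nat.card_congr (Equiv.ofBijective _ h3), Nat.card_eq_fintype_card, Fintype.card_fin]

theorem sylow_equiv_of_homs {A B T : Type*} [Group A] [Group B] [Group T] [Finite A] [Finite B]
    {p : ℕ} [Fact p.Prime] (φ : T →* A) (ψ : T →* B) (hk : ∀ t, φ t = 1 ↔ ψ t = 1) (n : ℕ)
    (hφ : Nat.card φ.range = p ^ n) (hA : (Nat.card A).factorization p = n)
    (hB : (Nat.card B).factorization p = n) (P : Sylow p A) (Q : Sylow p B) :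
    Nonempty ((P : Subgroup A) ≃* (Q : Subgroup B)) := by
  have hker : φ.ker = ψ.ker := Subgroup.ext hk
  let e : φ.range ≃* ψ.range := (QuotientGroup.quotientKerEquivRange φ).symm.trans
    ((QuotientGroup.quotientMulEquivOfEq hker).trans (QuotientGroup.quotientKerEquivRange ψ))
  have hψ : Nat.card ψ.range = p ^ n := by rw [← Nat.card_congr e.toEquiv, hφ]
  exact ⟨((P.equiv (Sylow.ofCard φ.range (by rw [hA, hφ]))).trans e).trans
    ((Sylow.ofCard ψ.range (by rw [hB, hψ])).equiv Q)⟩

theorem sylow_equiv_of_equiv {A B : Type*} [Group A] [Group B] [Finite A] [Finite B]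
    {p : ℕ} [Fact p.Prime] (e : A ≃* B) (P : Sylow p A) (Q : Sylow p B) :
    Nonempty ((P : Subgroup A) ≃* (Q : Subgroup B)) :=
  sylow_equiv_of_homs (P : Subgroup A).subtype (e.toMonoidHom.comp (P : Subgroup A).subtype)
    (fun t => by simp) _ (by rw [range_subtype, P.card_eq_multiplicity]) rfl
    (by rw [Nat.card_congr e.toEquiv]) P Q

/-- Pairs of generators: the kernels of the two induced maps of the free group agree. -/
theorem sylow_equiv_of_pairs {A B B' : Type*} [Group A] [Group B] [Group B'] [Finite A]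
    [Finite B] [Finite B'] {p : ℕ} [Fact p.Prime] (a : I → A) (b : I → B) (π : B →* B')
    (hk : ∀ g ∈ closure (Set.range fun i => (a i, b i)), g.1 = 1 ↔ π g.2 = 1) (n : ℕ)
    (hφ : Nat.card (closure (Set.range a)) = p ^ n) (hA : (Nat.card A).factorization p = n)
    (hB : (Nat.card B').factorization p = n) (P : Sylow p A) (Q : Sylow p B') :
    Nonempty ((P : Subgroup A) ≃* (Q : Subgroup B')) := by
  let χ : FreeGroup I →* A × B := FreeGroup.lift fun i => (a i, b i)
  refine sylow_equiv_of_homs ((MonoidHom.fst A B).comp χ) (π.comp ((MonoidHom.snd A B).comp χ))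
    (fun t => hk (χ t) ?_) n ?_ hA hB P Q
  · rw [← FreeGroup.range_lift_eq_closure]; exact ⟨t, rfl⟩
  · have : (MonoidHom.fst A B).comp χ = FreeGroup.lift a := FreeGroup.ext_hom _ _ (by simp [χ])
    rw [this, FreeGroup.range_lift_eq_closure, hφ]

end Cfsg.Agent.H32
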