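import Cfsg.Agent.H32.LowContain

/-!
Further containments between geometric subgroups of linear groups over small fields.
-/

set_option autoImplicit false
set_option linter.unusedSectionVars false

namespace Cfsg.Agent.H32

open Matrix Cfsg.Geo Module
open scoped Kronecker

variable {ι κ : Type} [Fintype ι] [DecidableEq ι] [Fintype κ] [DecidableEq κ] {F : Type*} [Field F]

theorem eq_zero_or_one [Fintype F] (hq : Fintype.card F = 2) (c : F) : c = 0 ∨ c = 1 := by
  by_cases h : c = 0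
  · exact Or.inl h
  · have := FiniteField.pow_card_sub_one_eq_one c h
    rw [hq, pow_one] at this
    exact Or.inr this

theorem two_eq_zero_of_card [Fintype F] (hq : Fintype.card F = 2 ∨ Fintype.card F = 4) :
    (2 : F) = 0 :=
  H25.two_eq_zero_of_not_odd (by rcases hq with hq | hq <;> rw [hq] <;> decide)

theorem mem_specialLinear_of_card_two [Fintype F] (hq : Fintype.card F = 2) (g : GL ι F) :
    g ∈ specialLinear ι F :=
  (mem_specialLinear_iff g).2
    ((eq_zero_or_one hq _).resolve_left (GeneralLinearGroup.det_ne_zero g))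

theorem isFieldSubalgebra_map {r : ℕ} {K : Subalgebra F (Matrix κ κ F)}
    (hK : IsFieldSubalgebra r K) (φ : Matrix κ κ F →ₐ[F] Matrix ι ι F)
    (hφ : Function.Injective φ) : IsFieldSubalgebra r (K.map φ) := by
  refine ⟨?_, ?_, ?_⟩
  · rintro _ ⟨x, hx, rfl⟩ _ ⟨y, hy, rfl⟩
    rw [← map_mul, ← map_mul, hK.comm x hx y hy]
  · rintro _ ⟨x, hx, rfl⟩ h0
    obtain ⟨y, hy, hxy⟩ := hK.inv x hx (fun h => h0 (by rw [h, map_zero]))
    refine ⟨φ y, ⟨y, hy, rfl⟩, ?_⟩
    change φ x * φ y = 1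
    rw [← map_mul, hxy, map_one]
  · rw [← hK.finrank_eq]
    exact (Subalgebra.equivMapOfInjective K φ hφ).toLinearEquiv.finrank_eq.symm

theorem mem_subalgebraNormalizer_of_commute {K : Subalgebra F (Matrix ι ι F)} {g : GL ι F}
    (h : ∀ a ∈ K, (g : Matrix ι ι F) * a = a * g) : g ∈ subalgebraNormalizer K :=
  mem_subalgebraNormalizer_of_comm fun a ha v => by rw [mulVec_mulVec, mulVec_mulVec, h a ha]

section Tensor

/-- The matrices `a + b A` with `A² = A + 1`. -/
def goldenAlg (F : Type*) [Field F] : Subalgebra F (Matrix (Fin 2) (Fin 2) F) where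
  carrier := {x | x 1 0 = x 0 1 ∧ x 1 1 = x 0 0 + x 0 1}
  mul_mem' := by
    rintro x y ⟨h1, h2⟩ ⟨h3, h4⟩
    simp only [Set.mem_ofPred_eq, mul_apply, Fin.sum_univ_two, h1, h2, h3, h4]
    constructor <;> ring
  add_mem' := by
    rintro x y ⟨h1, h2⟩ ⟨h3, h4⟩
    simp only [Set.mem_ofPred_eq, Matrix.add_apply, h1, h2, h3, h4]
    exact ⟨trivial, by ring⟩
  algebraMap_mem' c := by simp [algebraMap_matrix_apply]

theorem mem_goldenAlg {x : Matrix (Fin 2) (Fin 2) F} :
    x ∈ goldenAlg F ↔ x 1 0 = x 0 1 ∧ x 1 1 = x 0 0 + x 0 1 := Iff.rfl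

theorem isFieldSubalgebra_goldenAlg [Fintype F] (hq : Fintype.card F = 2) :
    IsFieldSubalgebra 2 (goldenAlg F) := by
  have h2 := two_eq_zero_of_card (Or.inl hq)
  refine ⟨?_, ?_, ?_⟩
  · rintro x ⟨h1, h2⟩ y ⟨h3, h4⟩
    ext i j
    fin_cases i <;> fin_cases j <;> simp [mul_apply, Fin.sum_univ_two, h1, h2, h3, h4] <;> ring
  · rintro x ⟨h1, h3⟩ h0
    refine ⟨!![x 1 1, x 0 1; x 0 1, x 0 0], ⟨rfl, ?_⟩, ?_⟩
    · simp only [of_apply, cons_val', cons_val_one, cons_val_fin_one, cons_val_zero, h3]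
      linear_combination (-x 0 1) * h2
    · have h4 : x 0 0 * (x 0 0 + x 0 1) + x 0 1 * x 0 1 = 1 := by
        rcases eq_zero_or_one hq (x 0 0) with ha | ha <;>
          rcases eq_zero_or_one hq (x 0 1) with hb | hb
        · refine absurd ?_ h0
          ext i j
          fin_cases i <;> fin_cases j <;> simp [h1, h3, ha, hb]
        · simp [ha, hb]
        · simp [ha, hb]
        · rw [ha, hb]; linear_combination h2
      ext i j
      fin_cases i <;> fin_cases j <;> simp [mul_apply, Fin.sum_univ_two, h1, h3]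
      · exact h4
      · linear_combination (x 0 0 * x 0 1) * h2
      · linear_combination (x 0 1 * (x 0 0 + x 0 1)) * h2
      · linear_combination h4
  · let φ : goldenAlg F ≃ₗ[F] (Fin 2 → F) :=
      { toFun := fun x => x.1 0
        map_add' := fun _ _ => rfl
        map_smul' := fun _ _ => rfl
        invFun := fun v => ⟨!![v 0, v 1; v 1, v 0 + v 1], rfl, rfl⟩
        left_inv := by
          rintro ⟨x, h1, h2⟩
          ext i j
          fin_cases i <;> fin_cases j <;> simp [h1, h2]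
        right_inv := fun v => by
          ext j
          fin_cases j <;> rfl }
    simpa using φ.finrank_eq

theorem cj_mem_goldenAlg [Fintype F] (hq : Fintype.card F = 2) (a : GL (Fin 2) F)
    {x : Matrix (Fin 2) (Fin 2) F} (hx : x ∈ goldenAlg F) : H25.cj a x ∈ goldenAlg F := by
  have h2 := two_eq_zero_of_card (Or.inl hq)
  obtain ⟨h1, h3⟩ := hx
  rcases eq_zero_or_one hq (x 0 1) with hb | hb
  · have : x = algebraMap F _ (x 0 0) := by
      ext i j
      fin_cases i <;> fin_cases j <;> simp [algebraMap_matrix_apply, h1, h3, hb]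
    rw [this, AlgEquiv.commutes]
    exact Subalgebra.algebraMap_mem _ _
  · have ht : (H25.cj a x).trace = 1 := by
      rw [H25.trace_cj, trace_fin_two, h3, hb]
      linear_combination (x 0 0) * h2
    have hd : (H25.cj a x).det = 1 := by
      rw [H25.cj_apply, det_units_conj, det_fin_two, h1, h3, hb]
      rcases eq_zero_or_one hq (x 0 0) with ha | ha <;> rw [ha]
      · linear_combination -h2
      · ring
    generalize H25.cj a x = y at ht hd
    rw [trace_fin_two] at ht
    rw [det_fin_two] at hd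
    have h4 : y 0 0 * y 1 1 = 0 := by
      rcases eq_zero_or_one hq (y 0 0) with ha | ha
      · rw [ha, zero_mul]
      · rw [ha] at ht ⊢
        linear_combination ht
    have h5 : y 0 1 * y 1 0 ≠ 0 := by
      intro h
      rw [h4, h, sub_zero] at hd
      exact zero_ne_one hd
    have h6 := (eq_zero_or_one hq _).resolve_left (left_ne_zero_of_mul h5)
    have h7 := (eq_zero_or_one hq _).resolve_left (right_ne_zero_of_mul h5)
    refine ⟨by rw [h6, h7], ?_⟩
    rw [h6]
    linear_combination ht - (y 0 0) * h2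

theorem tensor_le_normalizer [Fintype F] (hq : Fintype.card F = 2) {k : ℕ} (hk : 2 ≤ k)
    (e : ι ≃ Fin 2 × Fin k) (P : GL ι F) :
    ∃ K : Subalgebra F (Matrix ι ι F), IsFieldSubalgebra 2 K ∧
      tensorProductSubgroup 2 k e P < subalgebraNormalizer K := by
  have : Nonempty ι := ⟨e.symm (0, ⟨0, by omega⟩)⟩
  let Φ := H25.conjT (H25.frameEquiv (F := F) e P)
  let φ : Matrix (Fin 2) (Fin 2) F →ₐ[F] Matrix ι ι F :=
    Φ.toAlgHom.comp (H25.kronL (Fin 2) (Fin k) F)
  have hφ : ∀ x, φ x = Φ (x ⊗ₖ (1 : Matrix (Fin k) (Fin k) F)) := fun _ => rfl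
  refine ⟨(goldenAlg F).map φ,
    isFieldSubalgebra_map (isFieldSubalgebra_goldenAlg hq) φ (H25.algHom_injective φ), ?_⟩
  rw [SetLike.lt_iff_le_and_exists]
  constructor
  · apply H25.le_subalgebraNormalizer
    intro g hg y hy
    obtain ⟨x, hx, rfl⟩ := Subalgebra.mem_map.1 hy
    obtain ⟨a, b, hab⟩ := (H25.mem_tensorProductSubgroup e P g).1 hg
    refine Subalgebra.mem_map.2 ⟨H25.cj a x, cj_mem_goldenAlg hq a hx, ?_⟩
    rw [H25.cj_apply g, eq_comm, Units.mul_inv_eq_iff_eq_mul, hab, hφ, hφ,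
      ← map_mul Φ, ← map_mul Φ, ← mul_kronecker_mul,
      ← mul_kronecker_mul, H25.cj_mul_self, mul_one, one_mul]
  · obtain ⟨i, j, hij⟩ : ∃ i j : Fin k, i ≠ j := ⟨⟨0, by omega⟩, ⟨1, by omega⟩, by simp⟩
    let A : Matrix (Fin 2) (Fin 2) F := !![0, 1; 1, 1]
    have hA : A ∈ goldenAlg F := ⟨rfl, by simp [A]⟩
    let N : Matrix (Fin 2 × Fin k) (Fin 2 × Fin k) F := A ⊗ₖ single i j (1 : F)
    have hN : N * N = 0 := by
      simp only [N]
      rw [← mul_kronecker_mul, single_mul_single_of_ne _ _ _ _ hij.symm, kronecker_zero]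
    let h : GL (Fin 2 × Fin k) F := H25.glOf (1 + N) (1 - N) (by
      rw [mul_sub, add_mul, add_mul, hN]; simp)
    refine ⟨(H25.pullGL Φ).symm h, mem_subalgebraNormalizer_of_commute ?_, fun hh => ?_⟩
    · intro y hy
      obtain ⟨x, hx, rfl⟩ := Subalgebra.mem_map.1 hy
      have hh : ((H25.pullGL Φ).symm h).1 = Φ (1 + N) := rfl
      rw [hh, hφ, ← map_mul, ← map_mul, add_mul, mul_add, one_mul, mul_one,
        ← mul_kronecker_mul, ← mul_kronecker_mul,
        (isFieldSubalgebra_goldenAlg hq).comm A hA x hx, one_mul, mul_one]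
    · rw [tensorProductSubgroup, H25.mem_map_frame_iff_pullGL, MulEquiv.apply_symm_apply] at hh
      obtain ⟨a, b, hab⟩ := hh
      change 1 + N = _ at hab
      have h1 := congrFun (congrFun hab (0, i)) (0, i)
      have h2 := congrFun (congrFun hab (0, i)) (1, i)
      have h3 := congrFun (congrFun hab (0, i)) (1, j)
      simp [N, A, hij, hij.symm] at h1 h2 h3
      rcases h2 with h2 | h2
      · simp [h2] at h3
      · simp [h2] at h1

end Tensor

section Frame

/-- The points of Klein's configuration over the field with five elements. -/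
def klein {R : Type*} [CommRing R] (a b c d : R) : Prop :=
  a ^ 4 + b ^ 4 + c ^ 4 + d ^ 4 ≠ 3 ∧ (a * b * c * d) ^ 2 ≠ -1

instance (a b c d : ZMod 5) : Decidable (klein a b c d) := by
  unfold klein; infer_instance

theorem klein_zmod : ∀ a b c d : ZMod 5,
    klein a b c d ↔ klein (a + b + c + d) (a - b + c - d) (a + b - c - d) (a - b - c + d) := by
  decide +kernel

theorem klein_map {R S : Type*} [CommRing R] [CommRing S] (φ : R ≃+* S) (a b c d : R) :
    klein (φ a) (φ b) (φ c) (φ d) ↔ klein a b c d := by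
  have h1 : φ a ^ 4 + φ b ^ 4 + φ c ^ 4 + φ d ^ 4 = φ (a ^ 4 + b ^ 4 + c ^ 4 + d ^ 4) := by simp
  have h2 : (φ a * φ b * φ c * φ d) ^ 2 = φ ((a * b * c * d) ^ 2) := by simp
  rw [klein, klein, h1, h2, ← map_ofNat φ 3, ← map_one φ, ← map_neg, φ.injective.ne_iff,
    φ.injective.ne_iff]

theorem klein_hadamard [Fintype F] (hq : Fintype.card F = 5) (a b c d : F) :
    klein a b c d ↔ klein (a + b + c + d) (a - b + c - d) (a + b - c - d) (a - b - c + d) := by
  have : Fact (Nat.Prime 5) := ⟨by norm_num⟩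
  obtain ⟨φ⟩ : Nonempty (ZMod 5 ≃+* F) := ⟨FiniteField.ringEquivOfCardEq (by simp [hq])⟩
  obtain ⟨a, rfl⟩ := φ.surjective a
  obtain ⟨b, rfl⟩ := φ.surjective b
  obtain ⟨c, rfl⟩ := φ.surjective c
  obtain ⟨d, rfl⟩ := φ.surjective d
  simp only [← map_add, ← map_sub, klein_map]
  exact klein_zmod a b c d

theorem exists_lt_lt_monSL_four [Fintype F] (hq : Fintype.card F = 5) :
    ∃ M, monSL (Fin 4) F < M ∧ M < specialLinear (Fin 4) F := by
  have h5 : (5 : F) = 0 := by
    have := FiniteField.cast_card_eq_zero F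
    rwa [hq] at this
  let T : Set (Fin 4 → F) := {v | ∑ i, v i ^ 4 ≠ 3 ∧ (∏ i, v i) ^ 2 ≠ -1}
  have hT : ∀ v, v ∈ T ↔ klein (v 0) (v 1) (v 2) (v 3) := fun v => by
    simp only [T, Set.mem_ofPred_eq, klein, Fin.sum_univ_four, Fin.prod_univ_four]
  let A : Matrix (Fin 4) (Fin 4) F := !![1, 1, 1, 1; 1, -1, 1, -1; 1, 1, -1, -1; 1, -1, -1, 1]
  have hA : A.det = 1 := by
    simp only [A, det_succ_row_zero, Fin.sum_univ_succ]
    simp [Fin.succAbove]
    linear_combination 3 * h5
  let h : GL (Fin 4) F := GeneralLinearGroup.mkOfDetNeZero A (by rw [hA]; exact one_ne_zero)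
  refine ⟨stabilizing (glToMat (Fin 4) F) T ⊓ specialLinear (Fin 4) F, ?_,
    lt_of_le_of_ne inf_le_right fun h' => ?_⟩
  · rw [SetLike.lt_iff_le_and_exists]
    refine ⟨fun g hg => ⟨fun v => ?_, hg.2⟩, h, ⟨fun v => ?_, (mem_specialLinear_iff _).2 hA⟩,
      fun hh => ?_⟩
    · obtain ⟨σ, c, h1, h2, h3⟩ := monGL_coord hg.1
      rw [(mem_specialLinear_iff g).1 hg.2, one_pow] at h3
      have h4 : ∑ i, (g.1 *ᵥ v) i ^ 4 = ∑ i, v i ^ 4 := by
        rw [← Equiv.sum_comp σ]
        refine Finset.sum_congr rfl fun i _ => ?_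
        have := FiniteField.pow_card_sub_one_eq_one (c i) (h1 i)
        rw [hq] at this
        rw [h2, mul_pow, this, one_mul]
      have h5 : (∏ i, (g.1 *ᵥ v) i) ^ 2 = (∏ i, v i) ^ 2 := by
        rw [← Equiv.prod_comp σ]
        simp only [h2]
        rw [Finset.prod_mul_distrib, mul_pow, h3, one_mul]
      change _ ↔ ∑ i, (g.1 *ᵥ v) i ^ 4 ≠ 3 ∧ (∏ i, (g.1 *ᵥ v) i) ^ 2 ≠ -1
      rw [h4, h5]
      rfl
    · change _ ↔ A *ᵥ v ∈ T
      rw [hT, hT, klein_hadamard hq]
      simp only [A, mulVec, dotProduct, Fin.sum_univ_four]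
      simp [sub_eq_add_neg]
    · obtain ⟨σ, hσ⟩ := hh.1
      obtain ⟨c, hc⟩ := hσ 0
      change A *ᵥ _ = _ at hc
      obtain ⟨j, hj⟩ := exists_ne (σ 0)
      have := congrFun hc j
      rw [mulVec_single_one, Pi.single_eq_of_ne hj] at this
      fin_cases j <;> simp [A] at this
  · obtain ⟨g, hg, hg'⟩ := exists_specialLinear_mulVec_eq (ι := Fin 4) (F := F) (by simp)
      (v := ![1, 0, 0, 0]) (w := ![1, 1, 1, 0]) (by simp) (by simp)
    rw [← h'] at hg
    have h1 := hg.1 ![1, 0, 0, 0]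
    change _ ↔ g.1 *ᵥ _ ∈ T at h1
    rw [hg', hT, hT] at h1
    refine (h1.1 ⟨fun h => ?_, fun h => ?_⟩).1 (by simp; norm_num)
    · simp at h
      exact one_ne_zero (α := F) (by linear_combination h5 + 2 * h)
    · simp at h

theorem exists_lt_lt_dec_four [Fintype F] (hq : Fintype.card F = 5)
    {D : Fin 4 → Submodule F (ι → F)} (hD : IsMDecomposition 1 D) :
    ∃ M, decompositionStabilizer D ⊓ specialLinear ι F < M ∧ M < specialLinear ι F := by
  obtain ⟨e, he⟩ := exists_equiv_of_isMDecomposition_one hD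
  refine exists_lt_lt_of_iff (H28.glConj e) (glConj_mem_specialLinear_iff e) (fun g => ?_)
    (exists_lt_lt_monSL_four hq)
  rw [Subgroup.mem_inf, Subgroup.mem_inf, glConj_mem_specialLinear_iff, he]

end Frame

section Cubic

variable {K : Type*} [Field K] [Algebra F K] [Module K (Fin 3 → F)]
  [IsScalarTower F K (Fin 3 → F)]

theorem exists_frame_cubic [Fintype F] (hq : Fintype.card F = 4) (hr : finrank F K = 3) :
    ∃ (η : K) (P : GL (Fin 3) F), η ^ 8 = η ∧ ∀ g ∈ specialLinear (Fin 3) F, ∀ η' : K,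
      η' ^ 8 = η' → (∀ x, g.1 *ᵥ (η • x) = η' • g.1 *ᵥ x) →
      ∃ c : F, c ≠ 0 ∧ ∀ i j, (c * (P⁻¹ * g * P).1 i j) ^ 2 = c * (P⁻¹ * g * P).1 i j := by
  classical
  have : FiniteDimensional F K := .of_finrank_pos (by omega)
  have : Finite K := Module.finite_of_finite F
  let _ : Fintype K := Fintype.ofFinite K
  have hK : Fintype.card K = 64 := by rw [Module.card_eq_pow_finrank (K := F), hq, hr]; rfl
  have h2F := two_eq_zero_of_card (Or.inr hq)
  have : Fact (Nat.Prime 2) := ⟨Nat.prime_two⟩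
  have : CharP F 2 := (CharP.charP_iff_prime_eq_zero Nat.prime_two).2 (by simpa using h2F)
  have : CharP K 2 := charP_of_injective_algebraMap (algebraMap F K).injective 2
  have h4 : ∀ c : F, c ^ 4 = c := fun c => by rw [← hq, FiniteField.pow_card]
  have : Fact (Nat.Prime 7) := ⟨by norm_num⟩
  obtain ⟨u, hu⟩ := exists_prime_orderOf_dvd_card (G := Kˣ) 7
    (by rw [Fintype.card_units, hK]; norm_num)
  have hη7 : (u : K) ^ 7 = 1 := by rw [← Units.val_pow_eq_pow_val, ← hu, pow_orderOf_eq_one]; rfl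
  have hη8 : (u : K) ^ 8 = u := by rw [pow_succ, hη7, one_mul]
  have hηF : (u : K) ∉ (algebraMap F K).range := by
    rintro ⟨c, hc⟩
    have h1 : u ^ 3 = 1 := by
      have : (u : K) ^ 4 = u := by rw [← hc, ← map_pow, h4]
      apply mul_right_cancel (b := u)
      rw [← pow_succ, one_mul]
      exact Units.ext this
    have := orderOf_dvd_of_pow_eq_one h1
    rw [hu] at this
    omega
  generalize (u : K) = η at hη7 hη8 hηF
  have hdeg : (minpoly F η).natDegree = 3 := by
    have h1 := minpoly.degree_dvd (K := F) (x := η) (IsIntegral.of_finite F η)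
    rw [hr] at h1
    exact ((Nat.dvd_prime Nat.prime_three).1 h1).resolve_left
      fun h => hηF (minpoly.natDegree_eq_one_iff.1 h)
  have hli : LinearIndependent F fun i : Fin 3 => η ^ (i : ℕ) := by
    have := linearIndependent_pow (K := F) η
    rwa [hdeg] at this
  let ψ : (Fin 3 → F) →ₗ[F] K := Fintype.linearCombination F fun i : Fin 3 => η ^ (i : ℕ)
  have hψ : Function.Injective ψ := hli.fintypeLinearCombination_injective
  have hψ' : Function.Surjective ψ :=
    (LinearMap.injective_iff_surjective_of_finrank_eq_finrank (by simp [hr])).1 hψ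
  have hrat : ∀ y, ψ y ^ 8 = ψ y → ∀ i, y i ^ 2 = y i := by
    intro y hy
    have h1 : ψ y ^ 8 = ψ fun i => y i ^ 2 := by
      simp only [ψ, Fintype.linearCombination_apply]
      rw [show (8 : ℕ) = 2 ^ 3 from rfl, sum_pow_char_pow]
      refine Finset.sum_congr rfl fun i _ => ?_
      rw [_root_.smul_pow, ← pow_mul, mul_comm, pow_mul, show (2 ^ 3 : ℕ) = 8 from rfl, hη8,
        show (8 : ℕ) = 4 * 2 from rfl, pow_mul, h4]
    exact congrFun (hψ (h1.symm.trans hy))
  obtain ⟨v, hv⟩ := exists_ne (0 : Fin 3 → F)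
  let τ : K →ₗ[F] (Fin 3 → F) := (LinearMap.toSpanSingleton K _ v).restrictScalars F
  have hτ : Function.Injective τ := smul_left_injective K hv
  have hT : Function.Bijective (τ ∘ₗ ψ) :=
    ⟨hτ.comp hψ, LinearMap.injective_iff_surjective.1 (hτ.comp hψ)⟩
  let P := H25.glOfEquiv (LinearEquiv.ofBijective _ hT)
  have hP : ∀ y, P.1 *ᵥ y = ψ y • v := fun y => H25.glOfEquiv_mulVec _ y
  refine ⟨η, P, hη8, fun g hg η' hη' hgη => ?_⟩
  obtain ⟨y, hy⟩ := hT.2 (g.1 *ᵥ v)
  change ψ y • v = _ at hy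
  generalize ψ y = k at hy
  have hk : k ≠ 0 := by
    rintro rfl
    rw [zero_smul, eq_comm, GL_mulVec_eq_zero_iff] at hy
    exact hv hy
  have hcol : ∀ j : Fin 3, g.1 *ᵥ (P.1 *ᵥ Pi.single j 1) = (η' ^ (j : ℕ) * k) • v := by
    intro j
    have h1 : ∀ n : ℕ, g.1 *ᵥ (η ^ n • v) = (η' ^ n * k) • v := by
      intro n
      induction n with
      | zero => simp [hy]
      | succ n ih => rw [pow_succ', mul_smul, hgη, ih, ← mul_smul, pow_succ', mul_assoc]
    rw [hP, ← h1]
    simp [ψ]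
  have hfin : finrank K (Fin 3 → F) = 1 := by
    have := Module.finrank_mul_finrank F K (Fin 3 → F)
    rw [hr, Module.finrank_fin_fun] at this
    omega
  have hk21 : k ^ 21 = 1 := by
    choose z hz using fun j : Fin 3 => hψ' (η' ^ (j : ℕ))
    let Z : Matrix (Fin 3) (Fin 3) F := Matrix.of fun i j => z j i
    let Mk : Matrix (Fin 3) (Fin 3) F :=
      LinearMap.toMatrix' ((k • LinearMap.id : (Fin 3 → F) →ₗ[K] (Fin 3 → F)).restrictScalars F)
    have h1 : g.1 * P.1 = Mk * P.1 * Z := by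
      ext i j
      have h2 : Z *ᵥ Pi.single j 1 = z j := by rw [mulVec_single_one]; rfl
      have h3 : (g.1 * P.1) *ᵥ Pi.single j 1 = (Mk * P.1 * Z) *ᵥ Pi.single j 1 := by
        rw [← mulVec_mulVec, hcol, ← mulVec_mulVec, ← mulVec_mulVec, h2, hP, hz,
          LinearMap.toMatrix'_mulVec, mul_comm, mul_smul]
        rfl
      rw [mulVec_single_one, mulVec_single_one] at h3
      exact congrFun h3 i
    have h2 : Z.det ^ 2 = Z.det := by
      rw [← frobenius_def, RingHom.map_det]
      congr 1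
      ext i j
      refine hrat (z j) ?_ i
      rw [hz, ← pow_mul, mul_comm, pow_mul, hη']
    have h3 := congrArg Matrix.det h1
    rw [det_mul, det_mul, det_mul, (mem_specialLinear_iff g).1 hg, mul_right_comm,
      mul_left_inj' (GeneralLinearGroup.det_ne_zero P)] at h3
    have h5 : Z.det = 1 := by
      have h6 : Z.det ≠ 0 := by
        intro h
        rw [h, mul_zero] at h3
        exact one_ne_zero h3
      exact mul_left_cancel₀ h6 (by rw [← sq, h2, mul_one])
    rw [h5, mul_one, LinearMap.det_toMatrix', LinearMap.det_restrictScalars, LinearMap.det_smul,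
      LinearMap.det_id, hfin, pow_one, mul_one] at h3
    have h6 := FiniteField.algebraMap_norm_eq_pow (K := F) (x := k)
    rw [← h3, map_one, Nat.card_eq_fintype_card, Nat.card_eq_fintype_card, hK, hq] at h6
    exact h6.symm
  obtain ⟨c, hc⟩ : ∃ c : F, algebraMap F K c = k ^ 14 := by
    obtain ⟨E, hE, hE'⟩ := H25.exists_intermediateField_finrank (F := F) (K := K) (r := 1)
      (one_dvd _)
    refine IntermediateField.mem_bot.1 ?_
    rw [← IntermediateField.finrank_eq_one_iff.1 hE, hE', hq,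
      ← pow_mul, show 14 * 4 ^ 1 = 21 * 2 + 14 from rfl, pow_add, pow_mul, hk21, one_pow, one_mul]
  refine ⟨c, fun h => pow_ne_zero 14 hk (by rw [← hc, h, map_zero]), fun i j => ?_⟩
  have h1 : ψ (c • ((P⁻¹ * g * P).1 *ᵥ Pi.single j 1)) = η' ^ (j : ℕ) * k ^ 15 := by
    apply smul_left_injective K hv
    simp only
    rw [← hP, mulVec_smul, GL_mul_mulVec, GL_mul_mulVec, GL_mulVec_inv_mulVec, hcol,
      ← algebraMap_smul K c, hc, ← mul_smul]
    congr 1
    ring
  have h2 := hrat _ (by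
    rw [h1, mul_pow, ← pow_mul, mul_comm (j : ℕ), pow_mul, hη', ← pow_mul,
      show 15 * 8 = 21 * 5 + 15 from rfl, pow_add, pow_mul, hk21, one_pow, one_mul]) i
  rwa [mulVec_single_one] at h2

end Cubic

theorem cubic_le_subfield [Fintype F] (hq : Fintype.card F = 4)
    {K : Subalgebra F (Matrix (Fin 3) (Fin 3) F)} (hK : IsFieldSubalgebra 3 K) :
    ∃ (F₀ : Subfield F) (P : GL (Fin 3) F), Fintype.card F = Nat.card F₀ ^ 2 ∧
      subalgebraNormalizer K ⊓ specialLinear (Fin 3) F ≤ subfieldSubgroup F₀ P := by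
  let _ : Field K := (isField_of_isFieldSubalgebra (by omega) hK).toField
  obtain ⟨η, P, hη, hP⟩ := exists_frame_cubic (K := K) hq hK.finrank_eq
  obtain ⟨σ, h1, h2, h3⟩ := H25.exists_invol (F := F) (q := 2) hq
  refine ⟨H25.fixedSub σ, P, H25.card_fixedSub h1 h2, fun g hg => ?_⟩
  rw [H26.mem_subfieldSubgroup_iff_conj, MulAut.conj_apply, inv_inv,
    H26.mem_subfieldSubgroup_one_iff]
  obtain ⟨c, hc, h⟩ := hP g hg.2 ⟨H25.cj g η, (hg.1 η).1 η.2⟩
    (Subtype.ext (by
      change H25.cj g η ^ 8 = H25.cj g η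
      rw [← map_pow]
      exact congrArg (fun x : K => H25.cj g x) hη))
    (fun x => (H25.cj_mulVec g η x).symm)
  exact ⟨c, hc, fun i j => by rw [H25.mem_fixedSub, h3, h]⟩

end Cfsg.Agent.H32
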