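import Cfsg.Agent.H93.LT4Defs
import Cfsg.Agent.H31.HermSU
import Cfsg.Agent.H31.HermStab

/-! Project LT4, piece U5: perfect subgroups of `U₅(2)` with a central element of order three. -/

set_option autoImplicit false

namespace Cfsg.Agent.H32.LtU5

open Subgroup Cfsg Cfsg.Agent.H31 Module

theorem core {F : Type*} [Field F] [Fintype F] (hF : Fintype.card F = 2 ^ 2) {σ : F →+* F}
    (hσ : ∀ x, σ x = x ^ 2) {V : Type*} [AddCommGroup V] [Module F V] [FiniteDimensional F V]
    {B : V →ₛₗ[σ] V →ₗ[F] F} (h : IsHerm B) (hn : finrank F V = 5) {A : Type*} [Group A]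
    [Group.IsPerfect A] (ρ : A →* (V ≃ₗ[F] V)) (hρ : ∀ a, ρ a ∈ isom B) {w v : A}
    (hw : ∀ a, a * w = w * a) (h3 : w ^ 3 = 1) (h5 : v ^ 5 = 1) : ρ w = 1 ∨ ρ v = 1 := by
  classical
  have h2 : (2 : F) = 0 := by
    have := FiniteField.cast_card_eq_zero F
    rw [hF, Nat.cast_pow] at this
    exact_mod_cast pow_eq_zero_iff two_ne_zero |>.1 this
  obtain ⟨ω, hω⟩ : ∃ ω : F, ω ∉ ({0, 1} : Finset F) := by
    by_contra k
    push Not at k
    have h1 := Finset.card_le_card (fun x _ => k x : Finset.univ ⊆ ({0, 1} : Finset F))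
    have h3 := Finset.card_le_two (a := (0 : F)) (b := 1)
    rw [Finset.card_univ, hF] at h1
    omega
  simp only [Finset.mem_insert, Finset.mem_singleton, not_or] at hω
  have c3 : ω ^ 3 = 1 := by simpa [hF] using FiniteField.pow_card_sub_one_eq_one ω hω.1
  have c2 : ω ^ 2 + ω + 1 = 0 :=
    mul_left_cancel₀ (sub_ne_zero.2 hω.2) (by linear_combination c3)
  let E : F → Submodule F V := fun l => End.eigenspace (ρ w : V →ₗ[F] V) l
  have mE : ∀ l x, x ∈ E l ↔ ρ w x = l • x := fun l x => End.mem_eigenspace_iff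
  have www : ∀ y, ρ w (ρ w (ρ w y)) = y := fun y => by
    have := congrArg (fun g => ρ g y) h3
    simpa [pow_succ] using this
  have pr : ∀ l : F, l ^ 3 = 1 → ∀ y, y + l ^ 2 • ρ w y + l • ρ w (ρ w y) ∈ E l := fun l hl y => by
    rw [mE]
    simp only [map_add, map_smul, www]
    linear_combination (norm := module) (-(1 : F)) • (hl • ρ w y)
  have st : ∀ l a, ρ a ∈ stab (E l) := fun l a x => by
    have := congrArg (fun g => ρ g x) (hw a)
    simp only [map_mul, LinearEquiv.mul_apply] at this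
    rw [mE, mE, ← this, ← map_smul, (ρ a).injective.eq_iff]
  let r := fun l => (restrictStab (E l)).comp (ρ.codRestrict _ (st l))
  have rc : ∀ l a (x : E l), (r l a x : V) = ρ a x := fun _ _ _ => rfl
  have dt : ∀ l, l ^ finrank F (E l) = 1 := fun l => by
    have k1 : LinearEquiv.det (r l w) = 1 := Abelianization.commutator_subset_ker
      (LinearEquiv.det.comp (r l)) Group.IsPerfect.mem_commutator
    have k2 : (r l w : E l →ₗ[F] E l) = l • LinearMap.id := LinearMap.ext fun x =>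
      Subtype.ext ((mE l x).1 x.2)
    have k3 := congrArg Units.val k1
    rwa [LinearEquiv.coe_det, k2, LinearMap.det_smul, LinearMap.det_id, mul_one] at k3
  have tv : ∀ l : F, l ^ 3 = 1 → finrank F (E l) ≤ 3 → ∀ x ∈ E l, ρ v x = x := fun l hl hd x hx => by
    have nd : NondegOn B (E l) := fun x hx k => h.nondeg x fun y => by
      have k1 := k _ (pr l hl y)
      have k2 := hρ w x y
      have k3 := hρ w x (ρ w y)
      rw [(mE l x).1 hx, smul_left, hσ] at k2 k3
      simp only [map_add, map_smul, smul_eq_mul] at k1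
      linear_combination k1 - k2 - l ^ 2 * k3 - k2 - B x y * h2
        + (l * (1 + l ^ 3) * B x (ρ w (ρ w y)) - l * (l ^ 3) * B x (ρ w (ρ w y))) * hl
    have k1 := (h.toIsHermSymm.isHerm_restr nd).card_isom hF hσ
    let g : isom (restr B (E l)) := ⟨r l v, fun a b => hρ v a b⟩
    have k2 : orderOf g ∣ 5 := orderOf_dvd_of_pow_eq_one (Subtype.ext (by
      change r l v ^ 5 = 1
      rw [← map_pow, h5, map_one]))
    have k3 : (5 : ℕ).Coprime (Nat.card (isom (restr B (E l)))) := by
      rw [k1]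
      generalize finrank F (E l) = d at hd
      interval_cases d <;> decide
    have k4 : g = 1 := orderOf_eq_one_iff.1 (Nat.eq_one_of_dvd_coprimes k3 k2 (orderOf_dvd_natCard g))
    exact congrArg (fun g : isom (restr B (E l)) => (g.1 ⟨x, hx⟩ : V)) k4
  have dj : ∀ l m : F, l ≠ m → finrank F (E l) + finrank F (E m) ≤ 5 := fun l m e => hn ▸
    Submodule.finrank_add_finrank_le_of_disjoint (Submodule.disjoint_def.2 fun x k1 k2 => by
      have : (l - m) • x = 0 := by rw [sub_smul, ← (mE l x).1 k1, ← (mE m x).1 k2, sub_self]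
      exact (smul_eq_zero.1 this).resolve_left (sub_ne_zero.2 e))
  have md : ∀ l : F, l ^ 3 = 1 → l ≠ 1 → finrank F (E l) = 0 ∨ finrank F (E l) = 3 := fun l hl e => by
    have : Fact (Nat.Prime 3) := ⟨by norm_num⟩
    have k1 := orderOf_dvd_of_pow_eq_one (dt l)
    rw [orderOf_eq_prime hl e] at k1
    have := dj l 1 e
    omega
  have c4 : (ω ^ 2) ^ 3 = 1 := by rw [← pow_mul, mul_comm, pow_mul, c3, one_pow]
  have c5 : ω ^ 2 ≠ 1 := fun e => hω.1 (by linear_combination c2 - e - h2)
  have dec : ∀ y, ∃ a ∈ E 1, ∃ b ∈ E ω, ∃ c ∈ E (ω ^ 2), y = a + b + c := fun y =>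
    ⟨_, pr 1 (one_pow _) y, _, pr ω c3 y, _, pr _ c4 y, by
      linear_combination (norm := module) (-(1 : F)) • (h2 • y + c2 • ρ w y + (ω * c3) • ρ w y +
        c2 • ρ w (ρ w y))⟩
  have m1 := md ω c3 hω.2
  have m2 := md _ c4 c5
  by_cases k : finrank F (E ω) = 0 ∧ finrank F (E (ω ^ 2)) = 0
  · refine Or.inl (LinearEquiv.ext fun y => ?_)
    obtain ⟨a, ha, b, hb, c, hc, rfl⟩ := dec y
    rw [Submodule.finrank_eq_zero.1 k.1, Submodule.mem_bot] at hb
    rw [Submodule.finrank_eq_zero.1 k.2, Submodule.mem_bot] at hc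
    simpa [hb, hc] using (mE 1 a).1 ha
  · refine Or.inr (LinearEquiv.ext fun y => ?_)
    obtain ⟨a, ha, b, hb, c, hc, rfl⟩ := dec y
    have d1 := dj ω 1 hω.2
    have d2 := dj _ 1 c5
    rw [map_add, map_add, tv 1 (one_pow _) (by omega) a ha, tv ω c3 (by omega) b hb,
      tv _ c4 (by omega) c hc]
    rfl

theorem u5 : H93.LT.U5Stmt := by
  intro F _ _ hF A hA w hw hc h3 v hv h5
  have hF' : Fintype.card F = 2 ^ 2 := hF
  have hZ : center (SU 5 F 2) = ⊥ := card_eq_one.1 (card_center_SU hF' (by norm_num))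
  let e : PSU 5 F 2 ≃* SU 5 F 2 :=
    (QuotientGroup.quotientMulEquivOfEq hZ).trans QuotientGroup.quotientBot
  let ρ := ((sisom (hermB hF' 5)).subtype.comp (e.trans (suEquiv hF' 5)).toMonoidHom).comp A.subtype
  have hi : Function.Injective ρ :=
    (Subtype.val_injective.comp (e.trans (suEquiv hF' 5)).injective).comp Subtype.val_injective
  rcases core hF' (fun _ => rfl) (isHerm_hermB hF' 5) (finrank_fin 5) ρ
    (fun a => (e.trans (suEquiv hF' 5) a).2.1) (w := ⟨w, hw⟩) (v := ⟨v, hv⟩)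
    (fun a => Subtype.ext (hc a a.2)) (Subtype.ext (show w ^ 3 = 1 by rw [← h3, pow_orderOf_eq_one]))
    (Subtype.ext (orderOf_dvd_iff_pow_eq_one.1 h5.dvd)) with k | k
  · have : w = 1 := congrArg Subtype.val ((map_eq_one_iff ρ hi).1 k)
    simp [this] at h3
  · have : v = 1 := congrArg Subtype.val ((map_eq_one_iff ρ hi).1 k)
    simp [this] at h5

end Cfsg.Agent.H32.LtU5
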