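import Cfsg.Agent.H48.M2Defs

/-! The piece **CC**: the dodecad case does not occur. -/

set_option autoImplicit false

namespace Cfsg.Agent.H32.M2Cc

open Cfsg Subgroup Cfsg.Agent.H48 Cfsg.Agent.H48.Rec Cfsg.Agent.H49 Cfsg.Agent.H95.Par
open Cfsg.Agent.H48.M2
open Cfsg.Agent.H97.Gr (DD ZZ)
open Cfsg.Agent.H97.Yt (M)

theorem cc_of : CcStmt := by
  rintro R V u y vs mx yV yZ ⟨θ, R0, h, a⟩
  obtain ⟨x, xZ, ux, yx, uq, sh⟩ := c1Stmt u y θ R0 h yZ a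
  have nQ := ut_not_mem h a
  have xV : x ∈ V := vs.fx x (ZZ_sq xZ) fun r hr => by
    have k : ∀ t ∈ V, t ∈ Qz x → t ∈ Qz (r * x * r⁻¹) := fun t tV ht => by
      rw [Qz_cj xZ]
      have := conj_mem_cj r ht
      rwa [vs.cm hr tV, mul_inv_cancel_right] at this
    have := uq _ (ZZ_cj r xZ) (k u mx.mem ux) (k y yV yx)
    rwa [mul_inv_eq_iff_eq_mul] at this
  have ne : u ≠ x := fun e => nQ (e ▸ yx)
  obtain ⟨θ', R', h', ru⟩ := exists_ms xZ mx.zz ux ne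
  obtain ⟨v, c, rv, w, hc⟩ := sh θ' R' h' ru
  have ms := Ch.ms h' ru
  have le : V ⊓ Qz u ≤ V ⊓ Qz x := fun b hb => by
    obtain ⟨d, hd, ab⟩ := ms.exists_sign (b := b)
      ⟨hb.2, mem_centralizer_singleton_iff.2 (vs.el.cm hb.1 xV)⟩
    have e := h'.cong_of_comm rv ab (vs.el.cm hb.1 yV)
    have z := sg_center_of_fix (d := ⟨d, hd⟩) hc w ((h'.sq_iff rv).1 (ZZ_sq yZ)) e
    exact ⟨hb.1, (h'.ass_mem_iff ab).2 z⟩
  have e := eq_of_le_of_card_ge le (mx.max x xV xZ)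
  exact nQ (e.ge (show y ∈ V ⊓ Qz x from ⟨yV, yx⟩)).2

end Cfsg.Agent.H32.M2Cc
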