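import Cfsg.Agent.H30.OUDefs

/-! Commutators in `SU_n(q)`, piece FACT: the case `q ≥ 3`. -/

set_option autoImplicit false

namespace Cfsg.Agent.H32.OuF

open Matrix Polynomial Cfsg.Agent.H30.OU

universe u

theorem exists_poly (F : Type*) [Field F] [Fintype F] (k : ℕ) (hk : 1 ≤ k) :
    ∃ (f : F[X]) (b : F), f.Monic ∧ Irreducible f ∧ f.natDegree = k ∧ b ≠ 0 ∧
      b = (-1) ^ k * f.coeff 0 ∧ ∀ n, b ^ n = 1 → Fintype.card F - 1 ∣ n := by
  classical
  obtain ⟨p, hp⟩ := CharP.exists F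
  have hpp := Fact.mk (CharP.char_is_prime F p)
  have : NeZero k := ⟨by omega⟩
  let K := FiniteField.Extension F p k
  obtain ⟨ζ, hζ⟩ := IsCyclic.exists_generator (α := Kˣ)
  have hpow : ∀ x : K, x ≠ 0 → ∃ n : ℕ, x = (ζ : K) ^ n := fun x hx => by
    obtain ⟨n, hn⟩ := (mem_powers_iff_mem_zpowers.2 (hζ (Units.mk0 x hx)) : _ ∈ Submonoid.powers ζ)
    exact ⟨n, (congrArg Units.val hn).symm⟩
  have hint : IsIntegral F (ζ : K) := Algebra.IsIntegral.isIntegral _
  have htop : Algebra.adjoin F {(ζ : K)} = ⊤ := by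
    refine eq_top_iff.2 fun x _ => ?_
    by_cases hx : x = 0
    · rw [hx]; exact zero_mem _
    · obtain ⟨n, rfl⟩ := hpow x hx
      exact Subalgebra.pow_mem _ (Algebra.self_mem_adjoin_singleton F _) n
  let pb := PowerBasis.ofAdjoinEqTop hint htop
  have hdim : (minpoly F (ζ : K)).natDegree = k := by
    have := pb.finrank
    rw [FiniteField.finrank_extension] at this
    exact this.symm
  have hnorm : Algebra.norm F (ζ : K) = (-1) ^ k * (minpoly F (ζ : K)).coeff 0 := by
    have := Algebra.PowerBasis.norm_gen_eq_coeff_zero_minpoly pb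
    rwa [PowerBasis.ofAdjoinEqTop_dim, hdim] at this
  refine ⟨minpoly F (ζ : K), Algebra.norm F (ζ : K), minpoly.monic hint, minpoly.irreducible hint,
    hdim, Algebra.norm_ne_zero_iff.2 ζ.ne_zero, hnorm, fun n hn => ?_⟩
  refine (FiniteField.forall_pow_eq_one_iff F n).1 fun t => Units.ext ?_
  obtain ⟨x, hx⟩ := FiniteField.norm_surjective F K t
  obtain ⟨j, rfl⟩ := hpow x fun h0 => t.ne_zero (by rw [← hx, h0, Algebra.norm_zero])
  rw [Units.val_pow_eq_pow_val, ← hx, map_pow, ← pow_mul, mul_comm, pow_mul, hn, one_pow,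
    Units.val_one]

variable {F : Type u} [Field F] [StarRing F]

theorem eval_rev (p : F[X]) {x : F} (hx : x ≠ 0) :
    (p.map (starRingEnd F)).reverse.eval x = 0 ↔ p.eval (star x⁻¹) = 0 := by
  have := H76.Ore.aeval_reverse_eq_zero_iff hx (p.map (starRingEnd F))
  simp only [coe_aeval_eq_eval] at this
  have e := eval₂_hom (p := p) (starRingEnd F) (star x⁻¹)
  rw [starRingEnd_apply, star_star, starRingEnd_apply] at e
  rw [this, eval_map, e, star_eq_zero]

theorem coprime {f : F[X]} {b : F} {k : ℕ} (hm : f.Monic) (hi : Irreducible f)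
    (hk : f.natDegree = k) (h0 : b ≠ 0) (hb : b = (-1) ^ k * f.coeff 0) (h1 : b * star b ≠ 1)
    (h2 : star b ≠ b) (rt : ∀ x, f.eval x = 0 → x = b) :
    IsCoprime ((X - C b⁻¹) * f) (((X - C b⁻¹) * f).map (starRingEnd F)).reverse := by
  refine IsCoprime.mul_left ((irreducible_X_sub_C _).coprime_iff_not_dvd.2 fun h => ?_)
    (hi.coprime_iff_not_dvd.2 fun h => ?_)
  · rw [dvd_iff_isRoot, IsRoot, eval_rev _ (inv_ne_zero h0), inv_inv, eval_mul, mul_eq_zero] at h
    rcases h with h | h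
    · simp only [eval_sub, eval_X, eval_C, sub_eq_zero] at h
      exact h1 (by rw [h, mul_inv_cancel₀ h0])
    · exact h2 (rt _ h)
  rw [Polynomial.map_mul, reverse_mul_of_domain] at h
  rcases hi.prime.dvd_or_dvd h with h | ⟨g, h⟩
  · have hm' := (monic_X_sub_C b⁻¹).map (starRingEnd F)
    have k1 := (natDegree_le_of_dvd h (reverse_eq_zero.not.2 hm'.ne_zero)).trans
      ((reverse_natDegree_le _).trans natDegree_map_le)
    rw [natDegree_X_sub_C] at k1
    have k2 : f.natDegree = 1 := le_antisymm k1 hi.natDegree_pos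
    have k3 : f.eval b = 0 := by
      rw [hb, ← hk, k2, hm.eq_X_add_C k2]
      simp
    have k4 := (eval_rev _ h0).1 (eval_eq_zero_of_dvd_of_eval_eq_zero h k3)
    simp only [eval_sub, eval_X, eval_C, sub_eq_zero, star_inv₀, _root_.inv_inj] at k4
    exact h2 k4
  · have hm' := hm.map (starRingEnd F)
    have hn := reverse_eq_zero.not.2 hm'.ne_zero
    have g0 : g ≠ 0 := fun e => hn (by rw [h, e, mul_zero])
    have k1 := (reverse_natDegree_le (f.map (starRingEnd F))).trans natDegree_map_le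
    rw [h, natDegree_mul hm.ne_zero g0] at k1
    have k2 := eq_C_of_natDegree_eq_zero (show g.natDegree = 0 by omega)
    have k3 := congrArg (fun p => p.coeff 0) h
    have k4 := congrArg (fun p => p.coeff f.natDegree) h
    rw [k2] at k3 k4
    simp only [coeff_zero_reverse, hm'.leadingCoeff, coeff_mul_C] at k3
    simp only [coeff_reverse, hm.natDegree_map, revAt_le le_rfl, tsub_self, coeff_map, coeff_mul_C,
      hm.coeff_natDegree, one_mul, starRingEnd_apply] at k4
    apply h1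
    rw [hb, star_mul', star_pow, star_neg, star_one, k4, mul_mul_mul_comm, ← k3, ← mul_pow]
    simp

theorem fp_of_charpoly {ι : Type} [Fintype ι] [DecidableEq ι] {N : Matrix ι ι F} (hd : N.det = 1)
    (hc : IsCoprime N.charpoly (N.charpoly.map (starRingEnd F)).reverse) : FP N := by
  have hd' : Nᴴ.det = 1 := by rw [det_conjTranspose, hd, star_one]
  have hu : IsUnit Nᴴ.det := hd' ▸ isUnit_one
  refine fp_of_coprime (N' := Nᴴ⁻¹) (p' := Nᴴ⁻¹.charpoly) ?_ (mul_nonsing_inv _ hu)
    (aeval_self_charpoly N) (aeval_self_charpoly _)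
  have e : Nᴴ.charpoly = N.charpoly.map (starRingEnd F) := by
    rw [← charpoly_transpose N, ← charpoly_map]
    rfl
  rw [charpoly_inv _ ((isUnit_iff_isUnit_det _).2 hu), ← reverse_charpoly, e, hd', Ring.inverse_one,
    C_1, mul_one]
  exact (isCoprime_mul_unit_left_right (isUnit_one.neg.pow _) _ _).2 hc

theorem fact : FactStmt.{u} := by
  intro F _ _ _ hs h4 m hm M hM hns
  obtain ⟨q, hq, hst⟩ := exists_q hs
  have hq3 : 3 ≤ q := by
    have := H31.two_le_of_card_sq hq
    by_contra h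
    obtain rfl : q = 2 := by omega
    exact h4 hq
  obtain ⟨f, b, h1, h2, h3, h0, hb, hg⟩ := exists_poly F (m - 1) (by omega)
  have hg' : ∀ n, 0 < n → n ≤ q + 1 → b ^ n ≠ 1 := fun n k1 k2 e => by
    have := Nat.le_of_dvd k1 (hg n e)
    rw [hq] at this
    have : q * 3 ≤ q ^ 2 := by nlinarith
    omega
  have rt : ∀ x, f.eval x = 0 → x = b := fun x hx => by
    have := eq_of_monic_of_associated (monic_X_sub_C x) h1
      ((irreducible_X_sub_C x).associated_of_dvd h2 (dvd_iff_isRoot.2 hx))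
    rw [hb, ← h3, ← this]
    simp
  obtain ⟨E, N, e1, e2⟩ := H76.Ore.exists_comm_SL (⟨M, hM⟩ : SpecialLinearGroup (Fin m) F) hns
    (d := b⁻¹) h1 (by rw [h3, Fintype.card_fin]; omega)
    (fun e => hg' 2 (by norm_num) (by omega) (by
      rw [pow_two]
      nth_rewrite 1 [← rt _ e]
      exact inv_mul_cancel₀ h0)) (by
      obtain ⟨k, rfl⟩ : ∃ k, m = k + 1 := ⟨m - 1, by omega⟩
      rw [eval_mul, ← coeff_zero_eq_eval_zero f, Fintype.card_fin]
      simp only [eval_sub, eval_X, eval_C, pow_succ]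
      rw [Nat.add_sub_cancel] at hb
      linear_combination inv_mul_cancel₀ h0 - b⁻¹ * hb)
  refine ⟨E.1, (E⁻¹).1, N.1, (N⁻¹).1, congrArg Subtype.val (mul_inv_cancel E), E.2, N.2,
    fp_of_charpoly N.2 ?_, Or.inl (congrArg Subtype.val (inv_mul_cancel N)),
    congrArg Subtype.val e1⟩
  rw [e2]
  refine coprime h1 h2 h3 h0 hb (fun e => hg' (q + 1) (by omega) le_rfl ?_)
    (fun e => hg' (q - 1) (by omega) (by omega) ?_) rt
  · rw [pow_succ', ← hst, e]
  · apply mul_right_cancel₀ h0
    rw [← pow_succ, Nat.sub_add_cancel (by omega), ← hst, e, one_mul]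

end Cfsg.Agent.H32.OuF
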