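import Cfsg.Agent.H42.PcDefs

/-! Project PC: orbit counting. -/

set_option autoImplicit false

namespace Cfsg.Agent.H32.PcOrb

open Subgroup MulAction Cfsg.Agent.H42.Pc

universe u

theorem sum_stab (H X : Type*) [Group H] [Finite H] [MulAction H X] [Fintype X] :
    ∑ x : X, Nat.card (stabilizer H x) = Nat.card (orbitRel.Quotient H X) * Nat.card H := by
  rw [← Nat.card_sigma, ← Nat.card_prod]
  refine Nat.card_congr (Equiv.trans ?_ (sigmaFixedByEquivOrbitsProdGroup H X))
  exact
    { toFun := fun p => ⟨p.2.1, p.1, p.2.2⟩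
      invFun := fun p => ⟨p.2.1, p.1, p.2.2⟩
      left_inv := fun _ => rfl
      right_inv := fun _ => rfl }

theorem orb : OrbStmt.{u} := by
  intro S Ω _ _ _ _ T A c l hT hl hΩ hc hA hinv hmeet x hx s hs
  classical
  letI := Fintype.ofFinite Ω
  let B : SubMulAction T Ω := ⟨A, fun t {y} hy => hinv y hy t t.2⟩
  letI := Fintype.ofFinite B
  have h1 := sum_stab S Ω
  have h2 := sum_stab T B
  set ν := Nat.card (orbitRel.Quotient S Ω) with hν
  haveI : Nonempty Ω := ⟨x⟩
  haveI : Nonempty (orbitRel.Quotient S Ω) := ⟨Quotient.mk _ x⟩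
  have hν0 : 0 < ν := Nat.card_pos
  have hcl : c = ν * l := by
    simp only [hc, Finset.sum_const, Finset.card_univ, smul_eq_mul] at h1
    rw [← hΩ, ← Nat.card_eq_fintype_card] at h1
    apply Nat.eq_of_mul_eq_mul_left (Nat.card_pos (α := Ω))
    rw [h1]; ring
  have hle : ∀ y : B, Nat.card (stabilizer T y) ≤ ν := by
    intro y
    obtain ⟨k, hk⟩ := (hT.to_subgroup (stabilizer T y)).exists_card_eq
    have hd : Nat.card (stabilizer T y) ∣ Nat.card (stabilizer S (y : Ω)) :=
      card_dvd_of_injective ((T.subtype.comp (stabilizer T y).subtype).codRestrict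
        (stabilizer S (y : Ω)) fun t => congrArg Subtype.val t.2)
        fun a b e => Subtype.ext (Subtype.ext (Subtype.ext_iff.1 e :))
    rw [hc, hcl, hk] at hd
    rw [hk]
    exact Nat.le_of_dvd hν0 ((Nat.Coprime.pow_left k (Nat.coprime_two_left.2 hl)).dvd_of_dvd_mul_right hd)
  have hμ : Nat.card (orbitRel.Quotient T B) ≤ ν := by
    have h3 : ∑ y : B, Nat.card (stabilizer T y) ≤ ∑ _y : B, ν := Finset.sum_le_sum fun y _ => hle y
    rw [h2, Finset.sum_const, Finset.card_univ, smul_eq_mul, ← Nat.card_eq_fintype_card,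
      show Nat.card B = Nat.card T from hA, mul_comm] at h3
    exact Nat.le_of_mul_le_mul_left h3 Nat.card_pos
  let f : orbitRel.Quotient T B → orbitRel.Quotient S Ω :=
    Quotient.map' (fun y : B => (y : Ω)) fun a b h => by
      obtain ⟨t, ht⟩ := orbitRel_apply.1 h
      exact orbitRel_apply.2 ⟨(t : S), congrArg Subtype.val ht⟩
  have hf : Function.Surjective f := by
    intro q
    induction q using Quotient.inductionOn' with
    | h y =>
      obtain ⟨g, hg⟩ := hmeet y
      exact ⟨Quotient.mk'' ⟨g • y, hg⟩, Quotient.sound' (orbitRel_apply.2 ⟨g, rfl⟩)⟩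
  have hi := (hf.bijective_of_nat_card_le hμ).1
  have e : f (Quotient.mk'' ⟨s • x, hs⟩) = f (Quotient.mk'' ⟨x, hx⟩) :=
    Quotient.sound' (orbitRel_apply.2 ⟨s, rfl⟩)
  obtain ⟨t, ht⟩ := orbitRel_apply.1 (Quotient.exact' (hi e))
  exact ⟨t, t.2, congrArg Subtype.val ht⟩

end Cfsg.Agent.H32.PcOrb
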