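import Cfsg.Agent.H42.PcDefs

/-! Project PC: a central elementary section. -/

set_option autoImplicit false

namespace Cfsg.Agent.H32.PcW

open Subgroup Cfsg.Agent.H42.Pc

universe u

theorem not_le {G : Type u} [Group G] [Finite G] (U Z : Subgroup G) (hU : IsPGroup 2 U) (hZ : Z ≤ U)
    (h0 : Z ≠ ⊥) : ¬ Z ≤ ⁅Z, U⁆ := by
  intro h
  haveI := hU.isNilpotent
  obtain ⟨n, hn⟩ := (isNilpotent_iff_lowerCentralSeries U).1 this
  have k : ∀ n, Z ≤ U.lowerCentralSeries n := by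
    intro n
    induction n with
    | zero => exact hZ
    | succ n ih => exact h.trans (commutator_mono ih le_rfl)
  exact h0 (le_bot_iff.1 (hn ▸ k n))

theorem ww : WStmt.{u} := by
  intro G _ _ U Z nU nZ hU hZ h0
  classical
  have hn := not_le U Z hU hZ h0
  have hle : ⁅Z, U⁆ ≤ Z := commutator_le_left Z U
  generalize hW : ⁅Z, U⁆ = W at hn hle
  haveI nW : W.Normal := hW ▸ commutator_normal Z U
  have hc : ∀ x ∈ Z, ∀ a ∈ U, x⁻¹ * (a * x * a⁻¹) ∈ W := fun x hx a ha => by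
    have := commutator_mem_commutator (inv_mem hx) ha
    rw [hW, commutatorElement_def, inv_inv] at this
    simpa only [mul_assoc] using this
  have ex : ∃ k : ℕ, ∀ x ∈ Z, x ^ 2 ^ k ∈ W := by
    obtain ⟨k, hk⟩ := hU.exists_card_eq
    refine ⟨k, fun x hx => ?_⟩
    have : (⟨x, hZ hx⟩ : U) ^ Nat.card U = 1 := pow_card_eq_one'
    rw [hk] at this
    rw [show x ^ 2 ^ k = 1 from congrArg Subtype.val this]
    exact one_mem _
  have h1 := Nat.find_spec ex
  have h2 := fun m => Nat.find_min ex (m := m)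
  generalize Nat.find ex = k at h1 h2
  obtain _ | k := k
  · exact absurd (fun x hx => by simpa using h1 x hx) hn
  have cm : ∀ x ∈ Z, ∀ y ∈ Z, Commute (x : G ⧸ W) (y : G ⧸ W) := fun x hx y hy => by
    have := (QuotientGroup.eq_one_iff _).2 (hc y hy x (hZ hx))
    simp only [QuotientGroup.mk_mul, QuotientGroup.mk_inv] at this
    rw [inv_mul_eq_one, eq_mul_inv_iff_mul_eq] at this
    exact this.symm
  let D : Subgroup G :=
    { carrier := {x | x ∈ Z ∧ x ^ 2 ^ k ∈ W}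
      one_mem' := ⟨one_mem _, by rw [one_pow]; exact one_mem _⟩
      inv_mem' := fun {x} hx => ⟨inv_mem hx.1, by rw [inv_pow]; exact inv_mem hx.2⟩
      mul_mem' := fun {x y} hx hy => ⟨mul_mem hx.1 hy.1, by
        rw [← QuotientGroup.eq_one_iff, QuotientGroup.mk_pow, QuotientGroup.mk_mul,
          (cm x hx.1 y hy.1).mul_pow, ← QuotientGroup.mk_pow, ← QuotientGroup.mk_pow,
          (QuotientGroup.eq_one_iff _).2 hx.2, (QuotientGroup.eq_one_iff _).2 hy.2, one_mul]⟩ }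
  refine ⟨D, ⟨fun x hx g => ⟨nZ.conj_mem _ hx.1 g, ?_⟩⟩, fun x hx => hx.1,
    fun h => h2 k (Nat.lt_succ_self k) fun x hx => (h hx).2, fun x hx => ⟨⟨mul_mem hx hx, ?_⟩,
      fun a ha => ⟨hle (hc x hx a ha), pow_mem (hc x hx a ha) _⟩⟩⟩
  · rw [conj_pow]
    exact nW.conj_mem _ hx.2 g
  · rw [← pow_two, ← pow_mul, ← pow_succ']
    exact h1 x hx

end Cfsg.Agent.H32.PcW
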