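import Mathlib
import Cfsg.Agent.H43.Cent
import Cfsg.Agent.H46.J2M

set_option autoImplicit false
set_option maxRecDepth 200000
set_option linter.style.longLine false

namespace Cfsg.Agent.H32.S94Qf

open Cfsg.Agent.H43 Cfsg.Agent.H17

theorem r_hn : NOk 100 := by decide

theorem r_hk : 100 ≤ 2 ^ 7 := by decide

noncomputable def n_e1 : Net := (Net.cons (nat_lit 1) (nat_lit 0x414000540500510504104514) (Net.cons (nat_lit 2) (nat_lit 0x2002003003111013201303100) (Net.cons (nat_lit 4) (nat_lit 0xa06000e0303070903030902) (Net.cons (nat_lit 8) (nat_lit 0x2e005f002300490025000c) (Net.cons (nat_lit 16) (nat_lit 0x88000000891700000004) (Net.cons (nat_lit 32) (nat_lit 0x16af8f80) (Net.cons (nat_lit 64) (nat_lit 0x33fff9fa0) (Net.cons (nat_lit 32) (nat_lit 0xc000000008f8db7f4) (Net.cons (nat_lit 16) (nat_lit 0xd6a0000037a300005ead) (Net.cons (nat_lit 8) (nat_lit 0x2a005f00eb0035006d003f) (Net.cons (nat_lit 4) (nat_lit 0x105030f0b0b070a0f0f0a0d)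 (Net.cons (nat_lit 2) (nat_lit 0x2001003123212023102303200) (Net.cons (nat_lit 1) (nat_lit 0x541554150145045051451041) Net.nil)))))))))))))

theorem n_e1_ok : Net.ok 100 n_e1 = true := by decide +kernel

noncomputable def n_y2 : Net := (Net.cons (nat_lit 1) (nat_lit 0x4515510400550050001400040) (Net.cons (nat_lit 2) (nat_lit 0x133322000330031100000000) (Net.cons (nat_lit 4) (nat_lit 0x70b000d000404020b020000) (Net.cons (nat_lit 8) (nat_lit 0x33002b003a000100030000) (Net.cons (nat_lit 16) (nat_lit 0xc8220000000300000003) (Net.cons (nat_lit 32) (nat_lit 0x90000000033cffff0) (Net.cons (nat_lit 64) (nat_lit 0xc7bcffff3) (Net.cons (nat_lit 32) (nat_lit 0x60000000033cffff0) (Net.cons (nat_lit 16) (nat_lit 0x2c140000024300008003) (Net.cons (nat_lit 8) (nat_lit 0x3700b200a300d100230000) (Net.cons (nat_lit 4) (nat_lit 0x3040c0b0f0b02030b020008) (Net.cons (nat_lit 2) (nat_lit 0x323310100330032020100000) (Net.cons (nat_lit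 1) (nat_lit 0x1455541000550050551400040) Net.nil)))))))))))))

theorem n_y2_ok : Net.ok 100 n_y2 = true := by decide +kernel

noncomputable def n_y3 : Net := (Net.cons (nat_lit 1) (nat_lit 0x450454541105541000015004) (Net.cons (nat_lit 2) (nat_lit 0x311020331301033300000000) (Net.cons (nat_lit 4) (nat_lit 0x2040c000c050b000b0a0104) (Net.cons (nat_lit 8) (nat_lit 0x7d0023001d009a00a90004) (Net.cons (nat_lit 16) (nat_lit 0x4049000048aa00000009) (Net.cons (nat_lit 32) (nat_lit 0x20000000020042020) (Net.cons (nat_lit 64) (nat_lit 0xb600d3069) (Net.cons (nat_lit 32) (nat_lit 0xf000000003ff66039) (Net.cons (nat_lit 16) (nat_lit 0x8f99000048ba0000e05d) (Net.cons (nat_lit 8) (nat_lit 0x3d0063005d009000e90044) (Net.cons (nat_lit 4) (nat_lit 0x2040e000c070b040b0a0104) (Net.cons (nat_lit 2) (nat_lit 0x311021331301233100222001) (Net.cons (nat_lit 1) (nat_lit 0x450454541105541000015004) Net.nil)))))))))))))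

theorem n_y3_ok : Net.ok 100 n_y3 = true := by decide +kernel

noncomputable def n_y4 : Net := (Net.cons (nat_lit 1) (nat_lit 0x5050155051010144500100000) (Net.cons (nat_lit 2) (nat_lit 0x2112012001332201000010200) (Net.cons (nat_lit 4) (nat_lit 0x1080e0f0a0f000901020401) (Net.cons (nat_lit 8) (nat_lit 0x2f00c9005a005300020001) (Net.cons (nat_lit 16) (nat_lit 0x70c000010a500000004) (Net.cons (nat_lit 32) (nat_lit 0x2708f2f0) (Net.cons (nat_lit 64) (nat_lit 0x2f5cf2f0) (Net.cons (nat_lit 32) (nat_lit 0xf00000000b9fef3a9) (Net.cons (nat_lit 16) (nat_lit 0x2d55000036d100000450) (Net.cons (nat_lit 8) (nat_lit 0x2700e600f6005700040027) (Net.cons (nat_lit 4) (nat_lit 0x8080c0d0807000b09000603) (Net.cons (nat_lit 2) (nat_lit 0x1103030301030301103010200) (Net.cons (nat_lit 1) (nat_lit 0x1410154451410144500100000) Net.nil)))))))))))))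

theorem n_y4_ok : Net.ok 100 n_y4 = true := by decide +kernel

noncomputable def EQ : List Net := [EvJ2.p_g190, H46.J2M.k_g6, n_y2, n_y3, n_y4]

theorem EQ_ok : okE 100 EQ = true := (okE_cons.2 ⟨EvJ2.p_g190_ok, (okE_cons.2 ⟨H46.J2M.k_g6_ok, (okE_cons.2 ⟨n_y2_ok, (okE_cons.2 ⟨n_y3_ok, (okE_cons.2 ⟨n_y4_ok, (okE_nil 100)⟩)⟩)⟩)⟩)⟩)

noncomputable def CQ : List Net := [EvJ2.p_g18]

theorem CQ_ok : okE 100 CQ = true := (okE_cons.2 ⟨EvJ2.p_g18_ok, (okE_nil 100)⟩)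

noncomputable def r_V2 : List Net := [EvJ2.p_g1, EvJ2.p_g2, EvJ2.p_g5, EvJ2.p_g6, H47.J2P.h_g45, H47.J2P.h_a0, H47.J2P.h_a0, EvJ2.p_g11, H47.J2P.h_a0, H47.J2P.h_g53, H47.J2P.h_a0, H47.J2P.h_a0]

theorem r_V2_ok : okE 100 r_V2 = true := (okE_cons.2 ⟨EvJ2.p_g1_ok, (okE_cons.2 ⟨EvJ2.p_g2_ok, (okE_cons.2 ⟨EvJ2.p_g5_ok, (okE_cons.2 ⟨EvJ2.p_g6_ok, (okE_cons.2 ⟨H47.J2P.h_g45_ok, (okE_cons.2 ⟨H47.J2P.h_a0_ok, (okE_cons.2 ⟨H47.J2P.h_a0_ok, (okE_cons.2 ⟨EvJ2.p_g11_ok, (okE_cons.2 ⟨H47.J2P.h_a0_ok, (okE_cons.2 ⟨H47.J2P.h_g53_ok, (okE_cons.2 ⟨H47.J2P.h_a0_ok, (okE_cons.2 ⟨H47.J2P.h_a0_ok, (okE_nil 100)⟩)⟩)⟩)⟩)⟩)⟩)⟩)⟩)⟩)⟩)⟩)⟩)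

noncomputable def r_g3 : Net := (Net.cons (nat_lit 1) (nat_lit 0x551041550110151551040550) (Net.cons (nat_lit 2) (nat_lit 0x2130002031330132020230100) (Net.cons (nat_lit 4) (nat_lit 0xa05020109080a0400040c00) (Net.cons (nat_lit 8) (nat_lit 0xd300ca001b004900010008) (Net.cons (nat_lit 16) (nat_lit 0x19550000401000000007) (Net.cons (nat_lit 32) (nat_lit 0x200000000a6190820) (Net.cons (nat_lit 64) (nat_lit 0x4a659996e) (Net.cons (nat_lit 32) (nat_lit 0xd000000006e779739) (Net.cons (nat_lit 16) (nat_lit 0x496f0000ef540000cc87) (Net.cons (nat_lit 8) (nat_lit 0x3b008e002900de005f0016) (Net.cons (nat_lit 4) (nat_lit 0x301010803050505050f0c00) (Net.cons (nat_lit 2) (nat_lit 0x2303313131012312301231332) (Net.cons (nat_lit 1) (nat_lit 0x1541545051150050144500540) Net.nil)))))))))))))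

theorem r_g3_ok : Net.ok 100 r_g3 = true := by decide +kernel

noncomputable def r_g4 : Net := (Net.cons (nat_lit 1) (nat_lit 0x1455401511101515004051010) (Net.cons (nat_lit 2) (nat_lit 0x2202011202130120210232200) (Net.cons (nat_lit 4) (nat_lit 0xb05000001070e00040b0200) (Net.cons (nat_lit 8) (nat_lit 0x7b00d100b500a100230001) (Net.cons (nat_lit 16) (nat_lit 0xa352000003b400000001) (Net.cons (nat_lit 32) (nat_lit 0xcaa4010) (Net.cons (nat_lit 64) (nat_lit 0x1ffaec070) (Net.cons (nat_lit 32) (nat_lit 0xc0000000023bdacf2) (Net.cons (nat_lit 16) (nat_lit 0x3650000041900000b862) (Net.cons (nat_lit 8) (nat_lit 0xa100b9001c00f1006e00e1) (Net.cons (nat_lit 4) (nat_lit 0xd080400010f0c070701070e) (Net.cons (nat_lit 2) (nat_lit 0x2233212023002132300310112) (Net.cons (nat_lit 1) (nat_lit 0x415110400110054444105400) Net.nil)))))))))))))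

theorem r_g4_ok : Net.ok 100 r_g4 = true := by decide +kernel

noncomputable def r_g5 : Net := (Net.cons (nat_lit 1) (nat_lit 0x1110005455415101051115004) (Net.cons (nat_lit 2) (nat_lit 0x2101032101303032203130310) (Net.cons (nat_lit 4) (nat_lit 0x208080b000f0c0d010e0e01) (Net.cons (nat_lit 8) (nat_lit 0xa000c60062002900fc000b) (Net.cons (nat_lit 16) (nat_lit 0x15aa0000f00500000001) (Net.cons (nat_lit 32) (nat_lit 0x900000000a2090480) (Net.cons (nat_lit 64) (nat_lit 0x4ab7f94eb) (Net.cons (nat_lit 32) (nat_lit 0xf000000002ffaf4c8) (Net.cons (nat_lit 16) (nat_lit 0xdeb50000da7d0000e7e9) (Net.cons (nat_lit 8) (nat_lit 0x3600c5000c00ab00fb006b) (Net.cons (nat_lit 4) (nat_lit 0xc040a0403030903090c0c0d) (Net.cons (nat_lit 2) (nat_lit 0x31113113201231201330110) (Net.cons (nat_lit 1) (nat_lit 0x5055000545155401555154400) Net.nil)))))))))))))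

theorem r_g5_ok : Net.ok 100 r_g5 = true := by decide +kernel

noncomputable def r_g6 : Net := (Net.cons (nat_lit 1) (nat_lit 0x110015545411551100050010) (Net.cons (nat_lit 2) (nat_lit 0x3322233220303131100330200) (Net.cons (nat_lit 4) (nat_lit 0x3020c0206020d0600050000) (Net.cons (nat_lit 8) (nat_lit 0xd4007a0026004800090004) (Net.cons (nat_lit 16) (nat_lit 0x687c000010040000000d) (Net.cons (nat_lit 32) (nat_lit 0xc5076db0) (Net.cons (nat_lit 64) (nat_lit 0xfc56fedfd) (Net.cons (nat_lit 32) (nat_lit 0x900000000b5476db9) (Net.cons (nat_lit 16) (nat_lit 0x73fd00009b0500000c1f) (Net.cons (nat_lit 8) (nat_lit 0x74003b0067006000490004) (Net.cons (nat_lit 4) (nat_lit 0xb0a0c0a0e0a050e00050000) (Net.cons (nat_lit 2) (nat_lit 0x3322233220303131100330200) (Net.cons (nat_lit 1) (nat_lit 0x110015545411551100050010) Net.nil)))))))))))))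

theorem r_g6_ok : Net.ok 100 r_g6 = true := by decide +kernel

noncomputable def r_V7 : List Net := [r_g3, r_g4, r_g5, r_g6]

theorem r_V7_ok : okE 100 r_V7 = true := (okE_cons.2 ⟨r_g3_ok, (okE_cons.2 ⟨r_g4_ok, (okE_cons.2 ⟨r_g5_ok, (okE_cons.2 ⟨r_g6_ok, (okE_nil 100)⟩)⟩)⟩)⟩)

noncomputable def r_V9 : List Net := [r_g5, r_g6]

theorem r_V9_ok : okE 100 r_V9 = true := (okE_cons.2 ⟨r_g5_ok, (okE_cons.2 ⟨r_g6_ok, (okE_nil 100)⟩)⟩)

noncomputable def r_V10 : List Net := [r_g6]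

theorem r_V10_ok : okE 100 r_V10 = true := (okE_cons.2 ⟨r_g6_ok, (okE_nil 100)⟩)

noncomputable def r_V11 : List Net := []

theorem r_V11_ok : okE 100 r_V11 = true := (okE_nil 100)

noncomputable def CQ_cnt_EG : List Net := [r_g3, r_g4, r_g5, r_g6, EvJ2.p_g1, EvJ2.p_g2, EvJ2.p_g5, EvJ2.p_g6, H47.J2P.h_g45, H47.J2P.h_a0, EvJ2.p_g11, H47.J2P.h_g53, MpJ2.a, H47.J2P.h_g1, H47.J2P.h_a19, H47.J2P.h_a27, H47.J2P.h_g7, H47.J2P.h_g4, H47.J2P.h_a8, H47.J2P.h_g14, H47.J2P.h_g10, H47.J2P.h_g11, H47.J2P.h_g21, H47.J2P.h_g22, H47.J2P.h_g17, H47.J2P.h_g18]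

theorem CQ_cnt_EG_ok : okE 100 CQ_cnt_EG = true := (okE_cons.2 ⟨r_g3_ok, (okE_cons.2 ⟨r_g4_ok, (okE_cons.2 ⟨r_g5_ok, (okE_cons.2 ⟨r_g6_ok, (okE_cons.2 ⟨EvJ2.p_g1_ok, (okE_cons.2 ⟨EvJ2.p_g2_ok, (okE_cons.2 ⟨EvJ2.p_g5_ok, (okE_cons.2 ⟨EvJ2.p_g6_ok, (okE_cons.2 ⟨H47.J2P.h_g45_ok, (okE_cons.2 ⟨H47.J2P.h_a0_ok, (okE_cons.2 ⟨EvJ2.p_g11_ok, (okE_cons.2 ⟨H47.J2P.h_g53_ok, (okE_cons.2 ⟨MpJ2.a_ok, (okE_cons.2 ⟨H47.J2P.h_g1_ok, (okE_cons.2 ⟨H47.J2P.h_a19_ok, (okE_cons.2 ⟨H47.J2P.h_a27_ok, (okE_cons.2 ⟨H47.J2P.h_g7_ok, (okE_cons.2 ⟨H47.J2P.h_g4_ok, (okE_cons.2 ⟨H47.J2P.h_a8_ok, (okE_cons.2 ⟨H47.J2P.h_g14_ok, (okE_cons.2 ⟨H47.J2P.h_g10_ok, (okE_cons.2 ⟨H47.J2P.h_g11_ok, (okE_cons.2 ⟨H47.J2P.h_g21_ok, (okE_cons.2 ⟨H47.J2P.h_g22_ok, (okE_cons.2 ⟨H47.J2P.h_g17_ok, (okE_cons.2 ⟨H47.J2P.h_g18_ok, (okE_nil 100)⟩)⟩)⟩)⟩)⟩)⟩)⟩)⟩)⟩)⟩)⟩)⟩)⟩)⟩)⟩)⟩)⟩)⟩)⟩)⟩)⟩)⟩)⟩)⟩)⟩)⟩)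

noncomputable def EZ : List Net := [EvJ2.p_g18]

theorem EZ_ok : okE 100 EZ = true := (okE_cons.2 ⟨EvJ2.p_g18_ok, (okE_nil 100)⟩)

noncomputable def EW : List Net := [EvJ2.p_g18, EvJ2.p_g190, H46.J2M.k_g1]

theorem EW_ok : okE 100 EW = true := (okE_cons.2 ⟨EvJ2.p_g18_ok, (okE_cons.2 ⟨EvJ2.p_g190_ok, (okE_cons.2 ⟨H46.J2M.k_g1_ok, (okE_nil 100)⟩)⟩)⟩)

noncomputable def r_g12 : Net := (Net.cons (nat_lit 1) (nat_lit 0x5404141011015144104400000) (Net.cons (nat_lit 2) (nat_lit 0x2321030033023000012220000) (Net.cons (nat_lit 4) (nat_lit 0x1010f020f0800070c040101) (Net.cons (nat_lit 8) (nat_lit 0xc30096001800120006) (Net.cons (nat_lit 16) (nat_lit 0x4050000890100000008) (Net.cons (nat_lit 32) (nat_lit 0xf0000000006138080) (Net.cons (nat_lit 64) (nat_lit 0xcd69bb583) (Net.cons (nat_lit 32) (nat_lit 0x893b041b) (Net.cons (nat_lit 16) (nat_lit 0xf98a0000c660000077f1) (Net.cons (nat_lit 8) (nat_lit 0x7002e00ad00a1004d00a5)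 (Net.cons (nat_lit 4) (nat_lit 0xd090f0e01010e0603070109) (Net.cons (nat_lit 2) (nat_lit 0x2011123003201032032233030) (Net.cons (nat_lit 1) (nat_lit 0x151414544500411051141555) Net.nil)))))))))))))

theorem r_g12_ok : Net.ok 100 r_g12 = true := by decide +kernel

noncomputable def r_g13 : Net := (Net.cons (nat_lit 1) (nat_lit 0x4000015400115040141041044) (Net.cons (nat_lit 2) (nat_lit 0x2321310021201312122031200) (Net.cons (nat_lit 4) (nat_lit 0xf0a090602070f0b0b0a090a) (Net.cons (nat_lit 8) (nat_lit 0x1f0001006d00a000200008) (Net.cons (nat_lit 16) (nat_lit 0x85970000ce8300000001) (Net.cons (nat_lit 32) (nat_lit 0x3f0b6140) (Net.cons (nat_lit 64) (nat_lit 0xfbf3f7bf4) (Net.cons (nat_lit 32) (nat_lit 0x400000000fb966862) (Net.cons (nat_lit 16) (nat_lit 0x96b30000d515000062e8) (Net.cons (nat_lit 8) (nat_lit 0x790036005b00e300230071) (Net.cons (nat_lit 4) (nat_lit 0x4090308020c080d020f0b08) (Net.cons (nat_lit 2)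 (nat_lit 0x2001112022031012202020133) (Net.cons (nat_lit 1) (nat_lit 0x514550545541510414514511) Net.nil)))))))))))))

theorem r_g13_ok : Net.ok 100 r_g13 = true := by decide +kernel

noncomputable def r_g14 : Net := (Net.cons (nat_lit 1) (nat_lit 0x4044541011404101414104004) (Net.cons (nat_lit 2) (nat_lit 0x1022333101103212201313010) (Net.cons (nat_lit 4) (nat_lit 0xb090e030402000c0c0d0c02) (Net.cons (nat_lit 8) (nat_lit 0x560023003c00dc0013000a) (Net.cons (nat_lit 16) (nat_lit 0x405400001c7800000004) (Net.cons (nat_lit 32) (nat_lit 0x400000000a4ad6350) (Net.cons (nat_lit 64) (nat_lit 0x8adbf77dc) (Net.cons (nat_lit 32) (nat_lit 0x700000000661e7f8f) (Net.cons (nat_lit 16) (nat_lit 0xd6a8000031940000b568) (Net.cons (nat_lit 8) (nat_lit 0xae000700e700bb00a7006c) (Net.cons (nat_lit 4) (nat_lit 0xf0f010602010507050b010a) (Net.cons (nat_lit 2) (nat_lit 0x2322012131030212232210313) (Net.cons (nat_lit 1) (nat_lit 0x1111014544041454144051551)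 Net.nil)))))))))))))

theorem r_g14_ok : Net.ok 100 r_g14 = true := by decide +kernel

noncomputable def CW : List Net := [r_g12, r_g13, r_g14, EvJ2.p_g18]

theorem CW_ok : okE 100 CW = true := (okE_cons.2 ⟨r_g12_ok, (okE_cons.2 ⟨r_g13_ok, (okE_cons.2 ⟨r_g14_ok, (okE_cons.2 ⟨EvJ2.p_g18_ok, (okE_nil 100)⟩)⟩)⟩)⟩)

noncomputable def r_g16 : Net := (Net.cons (nat_lit 1) (nat_lit 0x1411510150101541414411104) (Net.cons (nat_lit 2) (nat_lit 0x3133321231302212012220020) (Net.cons (nat_lit 4) (nat_lit 0x9070a00020802060a040400) (Net.cons (nat_lit 8) (nat_lit 0x5f00330049008c00010001) (Net.cons (nat_lit 16) (nat_lit 0x702c0000044d00000003) (Net.cons (nat_lit 32) (nat_lit 0x4000000001c505100) (Net.cons (nat_lit 64) (nat_lit 0xd3c5e59f0) (Net.cons (nat_lit 32) (nat_lit 0x60000000093514b52) (Net.cons (nat_lit 16) (nat_lit 0x6a7d00001e9d00000e8a) (Net.cons (nat_lit 8) (nat_lit 0x8f0033000d00de00530055) (Net.cons (nat_lit 4)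 (nat_lit 0xd030a08060c02030a0c010c) (Net.cons (nat_lit 2) (nat_lit 0x3123321330302332113223020) (Net.cons (nat_lit 1) (nat_lit 0x1411511150101541414411104) Net.nil)))))))))))))

theorem r_g16_ok : Net.ok 100 r_g16 = true := by decide +kernel

noncomputable def r_g17 : Net := (Net.cons (nat_lit 1) (nat_lit 0x5004440004050444105410050) (Net.cons (nat_lit 2) (nat_lit 0x1331033010210313102212110) (Net.cons (nat_lit 4) (nat_lit 0x80901090f05040100060a00) (Net.cons (nat_lit 8) (nat_lit 0xe1000f007e001700590001) (Net.cons (nat_lit 16) (nat_lit 0x10280000002400000008) (Net.cons (nat_lit 32) (nat_lit 0xe00000000e1009000) (Net.cons (nat_lit 64) (nat_lit 0x4eb7d9a5a) (Net.cons (nat_lit 32) (nat_lit 0xb00000000db55c261) (Net.cons (nat_lit 16) (nat_lit 0x548d0000783d0000fa6d) (Net.cons (nat_lit 8) (nat_lit 0x57000d008e0067001c007b) (Net.cons (nat_lit 4) (nat_lit 0x90d08040f0c0f0b010a0a00) (Net.cons (nat_lit 2) (nat_lit 0x1201220310232120102222122)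 (Net.cons (nat_lit 1) (nat_lit 0x4055455444010401111401044) Net.nil)))))))))))))

theorem r_g17_ok : Net.ok 100 r_g17 = true := by decide +kernel

noncomputable def r_g18 : Net := (Net.cons (nat_lit 1) (nat_lit 0x4000044144101440001004000) (Net.cons (nat_lit 2) (nat_lit 0x3321021112321200030230300) (Net.cons (nat_lit 4) (nat_lit 0x30e0a040f0604000100) (Net.cons (nat_lit 8) (nat_lit 0x700160010004200400004) (Net.cons (nat_lit 16) (nat_lit 0x8420000484b00000004) (Net.cons (nat_lit 32) (nat_lit 0xb844b110) (Net.cons (nat_lit 64) (nat_lit 0x9bc6cbd7a) (Net.cons (nat_lit 32) (nat_lit 0x400000000b807f154) (Net.cons (nat_lit 16) (nat_lit 0xde2b00007e0b000005ec) (Net.cons (nat_lit 8) (nat_lit 0x700160010004200500014) (Net.cons (nat_lit 4) (nat_lit 0xb0e0a06070e0c000100) (Net.cons (nat_lit 2) (nat_lit 0x3121023112121220030230300) (Net.cons (nat_lit 1) (nat_lit 0x4000044144101440001004000) Net.nil)))))))))))))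

theorem r_g18_ok : Net.ok 100 r_g18 = true := by decide +kernel

noncomputable def r_V19 : List Net := [r_g16, r_g17, r_g18]

theorem r_V19_ok : okE 100 r_V19 = true := (okE_cons.2 ⟨r_g16_ok, (okE_cons.2 ⟨r_g17_ok, (okE_cons.2 ⟨r_g18_ok, (okE_nil 100)⟩)⟩)⟩)

noncomputable def r_V21 : List Net := [r_g17, r_g18]

theorem r_V21_ok : okE 100 r_V21 = true := (okE_cons.2 ⟨r_g17_ok, (okE_cons.2 ⟨r_g18_ok, (okE_nil 100)⟩)⟩)

noncomputable def r_V22 : List Net := [r_g18]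

theorem r_V22_ok : okE 100 r_V22 = true := (okE_cons.2 ⟨r_g18_ok, (okE_nil 100)⟩)

noncomputable def r_V23 : List Net := []

theorem r_V23_ok : okE 100 r_V23 = true := (okE_nil 100)

noncomputable def CW_cnt_EG : List Net := [r_g3, r_g4, r_g5, r_g6, EvJ2.p_g1, EvJ2.p_g2, EvJ2.p_g5, EvJ2.p_g6, H47.J2P.h_g45, H47.J2P.h_a0, EvJ2.p_g11, H47.J2P.h_g53, MpJ2.a, H47.J2P.h_g1, H47.J2P.h_a19, H47.J2P.h_a27, H47.J2P.h_g7, H47.J2P.h_g4, H47.J2P.h_a8, H47.J2P.h_g14, H47.J2P.h_g10, H47.J2P.h_g11, H47.J2P.h_g21, H47.J2P.h_g22, H47.J2P.h_g17, H47.J2P.h_g18, r_g16, r_g17, r_g18]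

theorem CW_cnt_EG_ok : okE 100 CW_cnt_EG = true := (okE_cons.2 ⟨r_g3_ok, (okE_cons.2 ⟨r_g4_ok, (okE_cons.2 ⟨r_g5_ok, (okE_cons.2 ⟨r_g6_ok, (okE_cons.2 ⟨EvJ2.p_g1_ok, (okE_cons.2 ⟨EvJ2.p_g2_ok, (okE_cons.2 ⟨EvJ2.p_g5_ok, (okE_cons.2 ⟨EvJ2.p_g6_ok, (okE_cons.2 ⟨H47.J2P.h_g45_ok, (okE_cons.2 ⟨H47.J2P.h_a0_ok, (okE_cons.2 ⟨EvJ2.p_g11_ok, (okE_cons.2 ⟨H47.J2P.h_g53_ok, (okE_cons.2 ⟨MpJ2.a_ok, (okE_cons.2 ⟨H47.J2P.h_g1_ok, (okE_cons.2 ⟨H47.J2P.h_a19_ok, (okE_cons.2 ⟨H47.J2P.h_a27_ok, (okE_cons.2 ⟨H47.J2P.h_g7_ok, (okE_cons.2 ⟨H47.J2P.h_g4_ok, (okE_cons.2 ⟨H47.J2P.h_a8_ok, (okE_cons.2 ⟨H47.J2P.h_g14_ok, (okE_cons.2 ⟨H47.J2P.h_g10_ok, (okE_cons.2 ⟨H47.J2P.h_g11_ok, (okE_cons.2 ⟨H47.J2P.h_g21_ok, (okE_cons.2 ⟨H47.J2P.h_g22_ok, (okE_cons.2 ⟨H47.J2P.h_g17_ok, (okE_cons.2 ⟨H47.J2P.h_g18_ok, (okE_cons.2 ⟨r_g16_ok, (okE_cons.2 ⟨r_g17_ok, (okE_cons.2 ⟨r_g18_ok, (okE_nil 100)⟩)⟩)⟩)⟩)⟩)⟩)⟩)⟩)⟩)⟩)⟩)⟩)⟩)⟩)⟩)⟩)⟩)⟩)⟩)⟩)⟩)⟩)⟩)⟩)⟩)⟩)⟩)⟩)⟩)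

theorem T_s0 : Stab 100 (grp 100 EvJ2.EG) [] EvJ2.lb_E 1209600 :=
  Stab.root' EvJ2.lb_E_ok EvJ2.eq_lb EvJ2.card_N

theorem r_le1 : grp 100 CQ ≤ grp 100 EvJ2.lb_E :=
  grp_le_of_memB r_hn r_hk EvJ2.lb_E_ok CQ_ok (ws := [nat_lit 0x332d27292629050f]) (by decide +kernel)

theorem CQ_le : grp 100 CQ ≤ (grp 100 EvJ2.EG) :=
  (r_le1.trans T_s0.le)

theorem CQ_sym : Sym 100 (grp 100 EvJ2.EG) EQ CQ 0 :=
  Sym.of_lab r_hn r_hk EQ_ok CQ_ok CQ_le (kT := 0) (by decide +kernel)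

theorem T_s1 : Stab 100 (grp 100 EvJ2.EG) [nat_lit 0] r_V2 12096 :=
  Stab.step (k := 7) (L := (lab 100 7)) r_hn T_s0 r_V2_ok (grp_mono (List.subset_append_right [MpJ2.a, H47.J2P.h_g1, H47.J2P.h_a19, H47.J2P.h_a27, H47.J2P.h_g7, H47.J2P.h_a0, H47.J2P.h_g4, H47.J2P.h_a8, H47.J2P.h_g14, H47.J2P.h_g10, H47.J2P.h_g11, H47.J2P.h_g21, H47.J2P.h_g22, H47.J2P.h_g17, H47.J2P.h_g18] _)) (c := (Ch.cons (nat_lit 2) [nat_lit 1, nat_lit 3] (Ch.cons (nat_lit 3) [nat_lit 5, nat_lit 7] (Ch.cons (nat_lit 15) [nat_lit 9, nat_lit 11] (Ch.cons (nat_lit 1) [nat_lit 13, nat_lit 15] (Ch.cons (nat_lit 4) [nat_lit 17, nat_lit 19] (Ch.cons (nat_lit 8) [nat_lit 21, nat_lit 23] Ch.nil))))))) (by decide +kernel)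

theorem r_le8 : grp 100 r_V7 ≤ grp 100 r_V2 :=
  grp_le_of_memB r_hn r_hk r_V2_ok r_V7_ok (ws := [nat_lit 0x150f09080b01, nat_lit 0x15130f09070f010701, nat_lit 0x130f080108, nat_lit 4867]) (by decide +kernel)

theorem T_s2 : Stab 100 (grp 100 EvJ2.EG) [nat_lit 78, nat_lit 0] r_V7 192 :=
  Stab.step (k := 7) (L := (lab 100 7)) r_hn T_s1 r_V7_ok r_le8 (c := (Ch.cons (nat_lit 22) [nat_lit 1, nat_lit 3] (Ch.cons (nat_lit 74) [nat_lit 5] (Ch.cons (nat_lit 56) [nat_lit 7] Ch.nil)))) (by decide +kernel)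

theorem T_s3 : Stab 100 (grp 100 EvJ2.EG) [nat_lit 22, nat_lit 78, nat_lit 0] r_V9 16 :=
  Stab.step (k := 7) (L := (lab 100 7)) r_hn T_s2 r_V9_ok (grp_mono (List.subset_append_right [r_g3, r_g4] _)) (c := (Ch.cons (nat_lit 74) [nat_lit 1] (Ch.cons (nat_lit 56) [nat_lit 3] Ch.nil))) (by decide +kernel)

theorem T_s4 : Stab 100 (grp 100 EvJ2.EG) [nat_lit 74, nat_lit 22, nat_lit 78, nat_lit 0] r_V10 2 :=
  Stab.step (k := 7) (L := (lab 100 7)) r_hn T_s3 r_V10_ok (grp_mono (List.subset_append_right [r_g5] _)) (c := (Ch.cons (nat_lit 56) [nat_lit 1] Ch.nil)) (by decide +kernel)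

theorem T_s5 : Stab 100 (grp 100 EvJ2.EG) [nat_lit 56, nat_lit 74, nat_lit 22, nat_lit 78, nat_lit 0] r_V11 1 :=
  Stab.step (k := 7) (L := (lab 100 7)) r_hn T_s4 r_V11_ok (grp_mono (List.subset_append_right [r_g6] _)) (c := Ch.nil) (by decide +kernel)

theorem r_g3_T : Net.toPerm 100 r_g3 ∈ (grp 100 EvJ2.EG) :=
  T_s2.le (toPerm_mem_grp (E := r_V7) (List.Mem.head _))

theorem r_g4_T : Net.toPerm 100 r_g4 ∈ (grp 100 EvJ2.EG) :=
  T_s2.le (toPerm_mem_grp (E := r_V7) (List.Mem.tail _ (List.Mem.head _)))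

theorem r_g5_T : Net.toPerm 100 r_g5 ∈ (grp 100 EvJ2.EG) :=
  T_s2.le (toPerm_mem_grp (E := r_V7) (List.Mem.tail _ (List.Mem.tail _ (List.Mem.head _))))

theorem r_g6_T : Net.toPerm 100 r_g6 ∈ (grp 100 EvJ2.EG) :=
  T_s2.le (toPerm_mem_grp (E := r_V7) (List.Mem.tail _ (List.Mem.tail _ (List.Mem.tail _ (List.Mem.head _)))))

theorem EvJ2.p_g1_T : Net.toPerm 100 EvJ2.p_g1 ∈ (grp 100 EvJ2.EG) :=
  T_s1.le (toPerm_mem_grp (E := r_V2) (List.Mem.head _))

theorem EvJ2.p_g2_T : Net.toPerm 100 EvJ2.p_g2 ∈ (grp 100 EvJ2.EG) :=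
  T_s1.le (toPerm_mem_grp (E := r_V2) (List.Mem.tail _ (List.Mem.head _)))

theorem EvJ2.p_g5_T : Net.toPerm 100 EvJ2.p_g5 ∈ (grp 100 EvJ2.EG) :=
  T_s1.le (toPerm_mem_grp (E := r_V2) (List.Mem.tail _ (List.Mem.tail _ (List.Mem.head _))))

theorem EvJ2.p_g6_T : Net.toPerm 100 EvJ2.p_g6 ∈ (grp 100 EvJ2.EG) :=
  T_s1.le (toPerm_mem_grp (E := r_V2) (List.Mem.tail _ (List.Mem.tail _ (List.Mem.tail _ (List.Mem.head _)))))

theorem H47.J2P.h_g45_T : Net.toPerm 100 H47.J2P.h_g45 ∈ (grp 100 EvJ2.EG) :=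
  T_s1.le (toPerm_mem_grp (E := r_V2) (List.Mem.tail _ (List.Mem.tail _ (List.Mem.tail _ (List.Mem.tail _ (List.Mem.head _))))))

theorem H47.J2P.h_a0_T : Net.toPerm 100 H47.J2P.h_a0 ∈ (grp 100 EvJ2.EG) :=
  T_s1.le (toPerm_mem_grp (E := r_V2) (List.Mem.tail _ (List.Mem.tail _ (List.Mem.tail _ (List.Mem.tail _ (List.Mem.tail _ (List.Mem.head _)))))))

theorem EvJ2.p_g11_T : Net.toPerm 100 EvJ2.p_g11 ∈ (grp 100 EvJ2.EG) :=
  T_s1.le (toPerm_mem_grp (E := r_V2) (List.Mem.tail _ (List.Mem.tail _ (List.Mem.tail _ (List.Mem.tail _ (List.Mem.tail _ (List.Mem.tail _ (List.Mem.tail _ (List.Mem.head _)))))))))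

theorem H47.J2P.h_g53_T : Net.toPerm 100 H47.J2P.h_g53 ∈ (grp 100 EvJ2.EG) :=
  T_s1.le (toPerm_mem_grp (E := r_V2) (List.Mem.tail _ (List.Mem.tail _ (List.Mem.tail _ (List.Mem.tail _ (List.Mem.tail _ (List.Mem.tail _ (List.Mem.tail _ (List.Mem.tail _ (List.Mem.tail _ (List.Mem.head _)))))))))))

theorem MpJ2.a_T : Net.toPerm 100 MpJ2.a ∈ (grp 100 EvJ2.EG) :=
  T_s0.le (toPerm_mem_grp (E := EvJ2.lb_E) (List.Mem.head _))

theorem H47.J2P.h_g1_T : Net.toPerm 100 H47.J2P.h_g1 ∈ (grp 100 EvJ2.EG) :=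
  T_s0.le (toPerm_mem_grp (E := EvJ2.lb_E) (List.Mem.tail _ (List.Mem.head _)))

theorem H47.J2P.h_a19_T : Net.toPerm 100 H47.J2P.h_a19 ∈ (grp 100 EvJ2.EG) :=
  T_s0.le (toPerm_mem_grp (E := EvJ2.lb_E) (List.Mem.tail _ (List.Mem.tail _ (List.Mem.head _))))

theorem H47.J2P.h_a27_T : Net.toPerm 100 H47.J2P.h_a27 ∈ (grp 100 EvJ2.EG) :=
  T_s0.le (toPerm_mem_grp (E := EvJ2.lb_E) (List.Mem.tail _ (List.Mem.tail _ (List.Mem.tail _ (List.Mem.head _)))))

theorem H47.J2P.h_g7_T : Net.toPerm 100 H47.J2P.h_g7 ∈ (grp 100 EvJ2.EG) :=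
  T_s0.le (toPerm_mem_grp (E := EvJ2.lb_E) (List.Mem.tail _ (List.Mem.tail _ (List.Mem.tail _ (List.Mem.tail _ (List.Mem.head _))))))

theorem H47.J2P.h_g4_T : Net.toPerm 100 H47.J2P.h_g4 ∈ (grp 100 EvJ2.EG) :=
  T_s0.le (toPerm_mem_grp (E := EvJ2.lb_E) (List.Mem.tail _ (List.Mem.tail _ (List.Mem.tail _ (List.Mem.tail _ (List.Mem.tail _ (List.Mem.tail _ (List.Mem.head _))))))))

theorem H47.J2P.h_a8_T : Net.toPerm 100 H47.J2P.h_a8 ∈ (grp 100 EvJ2.EG) :=
  T_s0.le (toPerm_mem_grp (E := EvJ2.lb_E) (List.Mem.tail _ (List.Mem.tail _ (List.Mem.tail _ (List.Mem.tail _ (List.Mem.tail _ (List.Mem.tail _ (List.Mem.tail _ (List.Mem.head _)))))))))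

theorem H47.J2P.h_g14_T : Net.toPerm 100 H47.J2P.h_g14 ∈ (grp 100 EvJ2.EG) :=
  T_s0.le (toPerm_mem_grp (E := EvJ2.lb_E) (List.Mem.tail _ (List.Mem.tail _ (List.Mem.tail _ (List.Mem.tail _ (List.Mem.tail _ (List.Mem.tail _ (List.Mem.tail _ (List.Mem.tail _ (List.Mem.head _))))))))))

theorem H47.J2P.h_g10_T : Net.toPerm 100 H47.J2P.h_g10 ∈ (grp 100 EvJ2.EG) :=
  T_s0.le (toPerm_mem_grp (E := EvJ2.lb_E) (List.Mem.tail _ (List.Mem.tail _ (List.Mem.tail _ (List.Mem.tail _ (List.Mem.tail _ (List.Mem.tail _ (List.Mem.tail _ (List.Mem.tail _ (List.Mem.tail _ (List.Mem.head _)))))))))))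

theorem H47.J2P.h_g11_T : Net.toPerm 100 H47.J2P.h_g11 ∈ (grp 100 EvJ2.EG) :=
  T_s0.le (toPerm_mem_grp (E := EvJ2.lb_E) (List.Mem.tail _ (List.Mem.tail _ (List.Mem.tail _ (List.Mem.tail _ (List.Mem.tail _ (List.Mem.tail _ (List.Mem.tail _ (List.Mem.tail _ (List.Mem.tail _ (List.Mem.tail _ (List.Mem.head _))))))))))))

theorem H47.J2P.h_g21_T : Net.toPerm 100 H47.J2P.h_g21 ∈ (grp 100 EvJ2.EG) :=
  T_s0.le (toPerm_mem_grp (E := EvJ2.lb_E) (List.Mem.tail _ (List.Mem.tail _ (List.Mem.tail _ (List.Mem.tail _ (List.Mem.tail _ (List.Mem.tail _ (List.Mem.tail _ (List.Mem.tail _ (List.Mem.tail _ (List.Mem.tail _ (List.Mem.tail _ (List.Mem.head _)))))))))))))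

theorem H47.J2P.h_g22_T : Net.toPerm 100 H47.J2P.h_g22 ∈ (grp 100 EvJ2.EG) :=
  T_s0.le (toPerm_mem_grp (E := EvJ2.lb_E) (List.Mem.tail _ (List.Mem.tail _ (List.Mem.tail _ (List.Mem.tail _ (List.Mem.tail _ (List.Mem.tail _ (List.Mem.tail _ (List.Mem.tail _ (List.Mem.tail _ (List.Mem.tail _ (List.Mem.tail _ (List.Mem.tail _ (List.Mem.head _))))))))))))))

theorem H47.J2P.h_g17_T : Net.toPerm 100 H47.J2P.h_g17 ∈ (grp 100 EvJ2.EG) :=
  T_s0.le (toPerm_mem_grp (E := EvJ2.lb_E) (List.Mem.tail _ (List.Mem.tail _ (List.Mem.tail _ (List.Mem.tail _ (List.Mem.tail _ (List.Mem.tail _ (List.Mem.tail _ (List.Mem.tail _ (List.Mem.tail _ (List.Mem.tail _ (List.Mem.tail _ (List.Mem.tail _ (List.Mem.tail _ (List.Mem.head _)))))))))))))))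

theorem H47.J2P.h_g18_T : Net.toPerm 100 H47.J2P.h_g18 ∈ (grp 100 EvJ2.EG) :=
  T_s0.le (toPerm_mem_grp (E := EvJ2.lb_E) (List.Mem.tail _ (List.Mem.tail _ (List.Mem.tail _ (List.Mem.tail _ (List.Mem.tail _ (List.Mem.tail _ (List.Mem.tail _ (List.Mem.tail _ (List.Mem.tail _ (List.Mem.tail _ (List.Mem.tail _ (List.Mem.tail _ (List.Mem.tail _ (List.Mem.tail _ (List.Mem.head _))))))))))))))))

noncomputable def T_s5_O : ℕ := (nat_lit 0x3333266666ccccd99999333321f07c1f03e0f83e0f83e0f83ee63398c67319ce63398c673184db24d926c93649b64db26d9200000000000000000000000010000040000000000000000000000000000000000000040000000000040000000000000000000000000000100000000000000)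

theorem T_s5_F : Frame 100 (grp 100 EvJ2.EG) 5 9 T_s5_O 1 1 :=
  IsBase.frame T_s5.isBase (by decide +kernel)

noncomputable def T_s4_O : ℕ := (nat_lit 0x40000000000000000000000000200000000000000000000000004000000000000000000000000020000000000000000000000000002000000000000000000000000000800000000000000000000000002000000000000000000000000020000000000000000000000000040000000000000000000000002000000000000000000000000100000000000000000000000008000000000000000000000000400000000000000000000000010000000000000000000000000800000000000000000000000010080000040000000000000000000010002000000000000000000100000020000000000000000100000000800000000000000000100000040000000000000000008000001000000000000000000000001080000000000000000000020001000000000000000000008000004000000000000000040000000200000000000000000000000810000000000000400000000000800000000000000200000000040000000000000000200000002000000000000000800000000100000000000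0000000000010040000000000000000000020001000000000000002000000000080000000000020000000000004000000000000000008000000200000000080000000000000010000000000000000100000000800000000000010000000000040000000000040000000000002000000000080000000000000100000000000000000004000004000000000000000000080000200000000000000000000080010000000200000000000000000800000040000000000000000010000000000080000000000000800000004000000000000000010000000000008000000000000200000000001000000000000008000000000000000000000001020002000000000000000000000400000000000000000000080020000001000000000000000000800000000000000000040000040000000000000000000000001000004000000000000000000000000000000000000004000000000004000000000000000000)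

theorem T_s4_F : Frame 100 (grp 100 EvJ2.EG) 4 59 T_s4_O 0 1 :=
  Stab.frame r_hn T_s4 (by decide +kernel)

noncomputable def T_s3_O : ℕ := (nat_lit 0x200000000000000004000000000000200000000000000000200000000000010040000000004000000010040000008000041000000000002000000010000000000048000080008000244000102600000000008100088020004001000800000044000000024081004010000010000030081000000020090000202000010800400000080060000081000008110000000041800004008000020000042200842080000000008000128040002000000000000000000000000100000400000000000000000000000000000000000000400000)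

theorem T_s3_F : Frame 100 (grp 100 EvJ2.EG) 3 17 T_s3_O 0 1 :=
  Stab.frame r_hn T_s3 (by decide +kernel)

noncomputable def CQ_cnt_L : List ℕ := [3, 17, T_s3_O, 0, 0, 4, 59, T_s4_O, 0, 0, 5, 9, T_s5_O, 1, 0]

theorem CQ_cnt_P : Prob 100 7 (grp 100 EvJ2.EG) CQ_cnt_EG EQ EQ CQ CQ_cnt_L 0 0 :=
  Sym.prob r_hn r_hk CQ_sym CQ_cnt_EG_ok (grp_cons_le r_g3_T (grp_cons_le r_g4_T (grp_cons_le r_g5_T (grp_cons_le r_g6_T (grp_cons_le EvJ2.p_g1_T (grp_cons_le EvJ2.p_g2_T (grp_cons_le EvJ2.p_g5_T (grp_cons_le EvJ2.p_g6_T (grp_cons_le H47.J2P.h_g45_T (grp_cons_le H47.J2P.h_a0_T (grp_cons_le EvJ2.p_g11_T (grp_cons_le H47.J2P.h_g53_T (grp_cons_le MpJ2.a_T (grp_cons_le H47.J2P.h_g1_T (grp_cons_le H47.J2P.h_a19_T (grp_cons_le H47.J2P.h_a27_T (grp_cons_le H47.J2P.h_g7_T (grp_cons_le H47.J2P.h_g4_T (grp_cons_le H47.J2P.h_a8_T (grp_cons_le H47.J2P.h_g14_T (grp_cons_le H47.J2P.h_g10_T (grp_cons_le H47.J2P.h_g11_T (grp_cons_le H47.J2P.h_g21_T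 (grp_cons_le H47.J2P.h_g22_T (grp_cons_le H47.J2P.h_g17_T (grp_cons_le H47.J2P.h_g18_T (grp_nil_le _))))))))))))))))))))))))))) (Frames.cons T_s3_F (Frames.cons T_s4_F (Frames.cons T_s5_F Frames.nil))) EQ_ok _

noncomputable def CQ_cnt_t : BT := (BT.fix (nat_lit 1) (BT.fix (nat_lit 3) (BT.and (nat_lit 1) (nat_lit 0) (BT.fix (nat_lit 9) (BT.and (nat_lit 1) (nat_lit 0) (BT.br (nat_lit 0) (nat_lit 92) [] (BT.dead (nat_lit 30) (BT.and (nat_lit 5) (nat_lit 2) (BT.fix (nat_lit 5) (BT.and (nat_lit 1) (nat_lit 0) (BT.br (nat_lit 0) (nat_lit 19) [] (BT.dead (nat_lit 12) (BT.dif (nat_lit 12) (nat_lit 9) (BT.dif (nat_lit 6) (nat_lit 5) (BT.frm (nat_lit 0) (nat_lit 0x1011209191b27) (nat_lit 0x105100d1a1f) [nat_lit 2, nat_lit 0, nat_lit 6] (BT.pln (nat_lit 0) (nat_lit 10) (BT.and (nat_lit 3) (nat_lit 0) (BT.dif (nat_lit 0) (nat_lit 11) (BT.dif (nat_lit 12) (nat_lit 15) (BT.dif (nat_lit 0) (nat_lit 15) (BT.dif (nat_lit 0) (nat_lit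 10) (BT.img (nat_lit 1) (nat_lit 0) (BT.dif (nat_lit 4) (nat_lit 0) (BT.br (nat_lit 0) (nat_lit 31) [nat_lit 1] (BT.dead (nat_lit 17) (BT.frm (nat_lit 1) (nat_lit 0x60601011209191b27) (nat_lit 0x5050105100d1a1f) [nat_lit 0, nat_lit 12, nat_lit 10, nat_lit 16] (BT.pln (nat_lit 0) (nat_lit 43) (BT.img (nat_lit 9) (nat_lit 2) (BT.img (nat_lit 5) (nat_lit 0) (BT.and (nat_lit 2) (nat_lit 0) (BT.cnt (nat_lit 0))))))) BT.nil))))))))))))) (BT.dead (nat_lit 19) (BT.dif (nat_lit 12) (nat_lit 9) (BT.dif (nat_lit 6) (nat_lit 5) (BT.frm (nat_lit 0) (nat_lit 0x1011209191b27) (nat_lit 0x106100d1a1f) [nat_lit 2, nat_lit 0, nat_lit 6] (BT.pln (nat_lit 0) (nat_lit 10) (BT.and (nat_lit 3) (nat_lit 0) (BT.dif (nat_lit 0) (nat_lit 11) (BT.dif (nat_lit 12) (nat_lit 15) (BT.dif (nat_lit 0) (nat_lit 15) (BT.dif (nat_lit 0) (nat_lit 10) (BT.img (nat_lit 1) (nat_lit 0) (BT.dif (nat_lit 4) (nat_lit 0) (BT.br (nat_lit 0) (nat_lit 31) [nat_lit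 1] (BT.dead (nat_lit 51) (BT.frm (nat_lit 1) (nat_lit 0x60601011209191b27) (nat_lit 0x5050106100d1a1f) [nat_lit 0, nat_lit 12, nat_lit 10, nat_lit 16] (BT.pln (nat_lit 0) (nat_lit 44) (BT.img (nat_lit 9) (nat_lit 2) (BT.img (nat_lit 7) (nat_lit 0) (BT.and (nat_lit 2) (nat_lit 0) (BT.cnt (nat_lit 0))))))) BT.nil))))))))))))) BT.nil)))))) (BT.kid (nat_lit 92) (nat_lit 2) (BT.and (nat_lit 5) (nat_lit 2) (BT.fix (nat_lit 5) (BT.and (nat_lit 1) (nat_lit 0) (BT.br (nat_lit 0) (nat_lit 19) [] (BT.dead (nat_lit 12) (BT.dif (nat_lit 12) (nat_lit 9) (BT.dif (nat_lit 6) (nat_lit 5) (BT.frm (nat_lit 0) (nat_lit 0x1011209191b27) (nat_lit 0x1209191b27) [nat_lit 2, nat_lit 0, nat_lit 6] (BT.pln (nat_lit 0) (nat_lit 10) (BT.and (nat_lit 3) (nat_lit 0) (BT.dif (nat_lit 0) (nat_lit 11) (BT.dif (nat_lit 12) (nat_lit 15) (BT.dif (nat_lit 0) (nat_lit 15) (BT.dif (nat_lit 0) (nat_lit 10) (BT.img (nat_lit 1) (nat_lit 0) (BT.dif (nat_lit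 4) (nat_lit 0) (BT.br (nat_lit 0) (nat_lit 31) [nat_lit 1] (BT.dead (nat_lit 48) (BT.frm (nat_lit 1) (nat_lit 0x60601011209191b27) (nat_lit 0x50505051209191b27) [nat_lit 0, nat_lit 12, nat_lit 10, nat_lit 16] (BT.pln (nat_lit 0) (nat_lit 43) (BT.img (nat_lit 9) (nat_lit 2) (BT.img (nat_lit 5) (nat_lit 0) (BT.and (nat_lit 2) (nat_lit 0) (BT.cnt (nat_lit 0))))))) BT.nil))))))))))))) (BT.kid (nat_lit 19) (nat_lit 2) (BT.dif (nat_lit 12) (nat_lit 9) (BT.dif (nat_lit 6) (nat_lit 5) (BT.frm (nat_lit 0) (nat_lit 0x1011209191b27) (nat_lit 0x1011209191b27) [nat_lit 2, nat_lit 0, nat_lit 6] (BT.pln (nat_lit 0) (nat_lit 10) (BT.and (nat_lit 3) (nat_lit 0) (BT.dif (nat_lit 0) (nat_lit 11) (BT.dif (nat_lit 12) (nat_lit 15) (BT.dif (nat_lit 0) (nat_lit 15) (BT.dif (nat_lit 0) (nat_lit 10) (BT.img (nat_lit 1) (nat_lit 0) (BT.dif (nat_lit 4) (nat_lit 0) (BT.br (nat_lit 0) (nat_lit 31) [nat_lit 1] (BT.kid (nat_lit 31) (nat_lit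 1) (BT.img (nat_lit 3) (nat_lit 0) (BT.one (nat_lit 2) (nat_lit 0x7060601011209191b27) (nat_lit 0x7060601011209191b27) [nat_lit 0, nat_lit 1, nat_lit 13, nat_lit 11, nat_lit 17])) BT.nil))))))))))))) BT.nil)))))) BT.nil))))))))

theorem CQ_cnt : Cnt 100 (grp 100 EvJ2.EG) EQ EQ 0 0 0 0 2 :=
  BT.sound CQ_cnt_P Known.nil (t := CQ_cnt_t) (d := 0) (by decide +kernel)

theorem CQ_ge : 2 ≤ Nat.card (grp 100 CQ) :=
  Ch.le_card_grp (k := 7) (L := (lab 100 7)) r_hn CQ_ok (c := (Ch.cons (nat_lit 31) [nat_lit 1] Ch.nil)) (by decide +kernel)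

theorem CQ_eq : (grp 100 EvJ2.EG) ⊓ Subgroup.centralizer (grp 100 EQ : Set (Equiv.Perm (Fin 100))) = grp 100 CQ :=
  cent_grp_eq CQ_sym CQ_cnt CQ_ge

theorem CQ_card : Nat.card (grp 100 CQ) = 2 :=
  (CQ_sym.mem_iff CQ_cnt CQ_ge).1

theorem CQ_z : grp 100 CQ ≤ grp 100 EZ :=
  grp_le_of_memB r_hn r_hk EZ_ok CQ_ok (ws := [nat_lit 1]) (by decide +kernel)

theorem r_le15 : grp 100 CW ≤ grp 100 EvJ2.lb_E :=
  grp_le_of_memB r_hn r_hk EvJ2.lb_E_ok CW_ok (ws := [nat_lit 0x312729231f1f250402, nat_lit 0x33312d27261f230526, nat_lit 0x2d2525202e010f, nat_lit 0x332d27292629050f]) (by decide +kernel)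

theorem CW_le : grp 100 CW ≤ (grp 100 EvJ2.EG) :=
  (r_le15.trans T_s0.le)

theorem CW_sym : Sym 100 (grp 100 EvJ2.EG) EW CW 0 :=
  Sym.of_lab r_hn r_hk EW_ok CW_ok CW_le (kT := 0) (by decide +kernel)

theorem r_le20 : grp 100 r_V19 ≤ grp 100 r_V9 :=
  grp_le_of_memB r_hn r_hk r_V9_ok r_V19_ok (ws := [nat_lit 0x3010101, nat_lit 257, nat_lit 0x1010101]) (by decide +kernel)

theorem T_s6 : Stab 100 (grp 100 EvJ2.EG) [nat_lit 33, nat_lit 22, nat_lit 78, nat_lit 0] r_V19 8 :=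
  Stab.step (k := 7) (L := (lab 100 7)) r_hn T_s3 r_V19_ok r_le20 (c := (Ch.cons (nat_lit 61) [nat_lit 1] (Ch.cons (nat_lit 24) [nat_lit 3] (Ch.cons (nat_lit 81) [nat_lit 5] Ch.nil)))) (by decide +kernel)

theorem T_s7 : Stab 100 (grp 100 EvJ2.EG) [nat_lit 61, nat_lit 33, nat_lit 22, nat_lit 78, nat_lit 0] r_V21 4 :=
  Stab.step (k := 7) (L := (lab 100 7)) r_hn T_s6 r_V21_ok (grp_mono (List.subset_append_right [r_g16] _)) (c := (Ch.cons (nat_lit 24) [nat_lit 1] (Ch.cons (nat_lit 81) [nat_lit 3] Ch.nil))) (by decide +kernel)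

theorem T_s8 : Stab 100 (grp 100 EvJ2.EG) [nat_lit 24, nat_lit 61, nat_lit 33, nat_lit 22, nat_lit 78, nat_lit 0] r_V22 2 :=
  Stab.step (k := 7) (L := (lab 100 7)) r_hn T_s7 r_V22_ok (grp_mono (List.subset_append_right [r_g17] _)) (c := (Ch.cons (nat_lit 81) [nat_lit 1] Ch.nil)) (by decide +kernel)

theorem T_s9 : Stab 100 (grp 100 EvJ2.EG) [nat_lit 81, nat_lit 24, nat_lit 61, nat_lit 33, nat_lit 22, nat_lit 78, nat_lit 0] r_V23 1 :=
  Stab.step (k := 7) (L := (lab 100 7)) r_hn T_s8 r_V23_ok (grp_mono (List.subset_append_right [r_g18] _)) (c := Ch.nil) (by decide +kernel)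

theorem r_g16_T : Net.toPerm 100 r_g16 ∈ (grp 100 EvJ2.EG) :=
  T_s6.le (toPerm_mem_grp (E := r_V19) (List.Mem.head _))

theorem r_g17_T : Net.toPerm 100 r_g17 ∈ (grp 100 EvJ2.EG) :=
  T_s6.le (toPerm_mem_grp (E := r_V19) (List.Mem.tail _ (List.Mem.head _)))

theorem r_g18_T : Net.toPerm 100 r_g18 ∈ (grp 100 EvJ2.EG) :=
  T_s6.le (toPerm_mem_grp (E := r_V19) (List.Mem.tail _ (List.Mem.tail _ (List.Mem.head _))))

noncomputable def T_s9_O : ℕ := (nat_lit 0x3333266666ccccd99999333321f07c1f03e0f83e0f83e0f83ee63398c67319ce63398c673184db24d926c93649b64db26d920000000000000000000000001000004000000000000000000000000000000000000004000000000000000000000200000000000000000200000000000000000000000000000000010000000000200000000000000000000)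

theorem T_s9_F : Frame 100 (grp 100 EvJ2.EG) 7 11 T_s9_O 1 1 :=
  IsBase.frame T_s9.isBase (by decide +kernel)

noncomputable def T_s8_O : ℕ := (nat_lit 0x4000000000000000000000000000800000000000000000000000040000000000000000000000000100000000000000000000000000004000000000000000000000000010000000000000000000000000400000000000000000000000002000000000000000000000000000004000000000000000000000000080000000000000000000000000000400000000000000000000000020000000000000000000000000800000000000000000000000010001000800000000000000000001000001000000000000000000000020010000000000000000000100000800000000000000000200000000800000000000000000000200010000000000000000400000000400000000000000000000400010000000000000200000000000800000000000080000000000040000000000000000000000081000000000000000000000020080000000000000000200000002000000000000000010000000100000000000000100000000008000000000008000000000000400000000000000004000000020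0000000000400000000000010000000000000000000400000200000000000000080000000010000000000000000000000008800000000000000020000000001000000000000000000000000280000000000000000002000004000000000000002000000000080000000000000000000000401000000000000000000400000080000000000000000000010004000000000008000000000000200000000000000000004000010000000000000800000000000800000000000000000000020010000020000000000000000000200000000000000000000020008000000000100000000000000400002000000000000000000020000000000000000000000041000008000000000000000000080000400000000000000000004000000000000000000000000100000400000000000000000000000000000000000000400000000000000000000020000000000000000020000000000000000000000000000000001000000)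

theorem T_s8_F : Frame 100 (grp 100 EvJ2.EG) 6 59 T_s8_O 0 1 :=
  Stab.frame r_hn T_s8 (by decide +kernel)

noncomputable def T_s7_O : ℕ := (nat_lit 0x40000000000000000000000000000000020000000000000000000000000000000000010000080000010000000000000000000100000000000400000000400000000000000000100000000000000004000000000040000000000040000000000002000000000000000000008000080000102001800000000000000008100080000004000000000000004000000024080000000000008000004000100400000000000000024000000220000000000000000000400000a800000000000000802000000100080000004000000000000100401000000200000000800400000080000000000000000000012804000000010000000000840000100001000001008000000000008000000000200010000000200100000200002000000000100002000000000800000000000220080000200001000000000000006000000000000810000000004100000810000000100000000008000040000000200000400000400000000000000000000000010000040000000000000000000000000000000000000040000000000000000000002000000000000000002000000000000000)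

theorem T_s7_F : Frame 100 (grp 100 EvJ2.EG) 5 33 T_s7_O 0 1 :=
  Stab.frame r_hn T_s7 (by decide +kernel)

noncomputable def CW_cnt_L : List ℕ := [3, 17, T_s3_O, 0, 0, 5, 33, T_s7_O, 0, 0, 6, 59, T_s8_O, 0, 0, 7, 11, T_s9_O, 1, 0]

theorem CW_cnt_P : Prob 100 7 (grp 100 EvJ2.EG) CW_cnt_EG EW EW CW CW_cnt_L 0 0 :=
  Sym.prob r_hn r_hk CW_sym CW_cnt_EG_ok (grp_cons_le r_g3_T (grp_cons_le r_g4_T (grp_cons_le r_g5_T (grp_cons_le r_g6_T (grp_cons_le EvJ2.p_g1_T (grp_cons_le EvJ2.p_g2_T (grp_cons_le EvJ2.p_g5_T (grp_cons_le EvJ2.p_g6_T (grp_cons_le H47.J2P.h_g45_T (grp_cons_le H47.J2P.h_a0_T (grp_cons_le EvJ2.p_g11_T (grp_cons_le H47.J2P.h_g53_T (grp_cons_le MpJ2.a_T (grp_cons_le H47.J2P.h_g1_T (grp_cons_le H47.J2P.h_a19_T (grp_cons_le H47.J2P.h_a27_T (grp_cons_le H47.J2P.h_g7_T (grp_cons_le H47.J2P.h_g4_T (grp_cons_le H47.J2P.h_a8_T (grp_cons_le H47.J2P.h_g14_T (grp_cons_le H47.J2P.h_g10_T (grp_cons_le H47.J2P.h_g11_T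 (grp_cons_le H47.J2P.h_g21_T (grp_cons_le H47.J2P.h_g22_T (grp_cons_le H47.J2P.h_g17_T (grp_cons_le H47.J2P.h_g18_T (grp_cons_le r_g16_T (grp_cons_le r_g17_T (grp_cons_le r_g18_T (grp_nil_le _)))))))))))))))))))))))))))))) (Frames.cons T_s3_F (Frames.cons T_s7_F (Frames.cons T_s8_F (Frames.cons T_s9_F Frames.nil)))) EW_ok _

noncomputable def CW_cnt_t : BT := (BT.fix (nat_lit 1) (BT.fix (nat_lit 3) (BT.dif (nat_lit 1) (nat_lit 0) (BT.br (nat_lit 0) (nat_lit 11) [nat_lit 1, nat_lit 3, nat_lit 5] (BT.kid (nat_lit 11) (nat_lit 2) (BT.and (nat_lit 3) (nat_lit 2) (BT.img (nat_lit 5) (nat_lit 1) (BT.img (nat_lit 3) (nat_lit 2) (BT.frm (nat_lit 0) (nat_lit 0x10f190b19) (nat_lit 0x10f190b19) [nat_lit 1, nat_lit 0, nat_lit 3] (BT.pln (nat_lit 0) (nat_lit 15) (BT.and (nat_lit 4) (nat_lit 0) (BT.br (nat_lit 0) (nat_lit 50) [] (BT.dead (nat_lit 81) (BT.pln (nat_lit 3) (nat_lit 14) (BT.and (nat_lit 7) (nat_lit 0) (BT.br (nat_lit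 0) (nat_lit 14) [] (BT.dead (nat_lit 16) (BT.frm (nat_lit 1) (nat_lit 0x10f190b19) (nat_lit 0x5010f190b19) [nat_lit 0, nat_lit 3, nat_lit 8, nat_lit 7, nat_lit 10] (BT.pln (nat_lit 0) (nat_lit 27) (BT.and (nat_lit 13) (nat_lit 0) (BT.br (nat_lit 0) (nat_lit 9) [] (BT.dead (nat_lit 40) (BT.frm (nat_lit 2) (nat_lit 0x10f190b19) (nat_lit 0x3705010f190b19) [nat_lit 0, nat_lit 4, nat_lit 7, nat_lit 12, nat_lit 11, nat_lit 14] (BT.pln (nat_lit 0) (nat_lit 48) (BT.img (nat_lit 5) (nat_lit 2) (BT.and (nat_lit 1) (nat_lit 0) (BT.cnt (nat_lit 0)))))) (BT.dead (nat_lit 88) (BT.frm (nat_lit 2) (nat_lit 0x10f190b19) (nat_lit 0x5010f190b19) [nat_lit 0, nat_lit 4, nat_lit 7, nat_lit 12, nat_lit 11, nat_lit 14] (BT.pln (nat_lit 0) (nat_lit 48) (BT.img (nat_lit 5) (nat_lit 2) (BT.and (nat_lit 1) (nat_lit 0) (BT.cnt (nat_lit 0)))))) BT.nil)))))) (BT.dead (nat_lit 14) (BT.frm (nat_lit 1) (nat_lit 0x10f190b19) (nat_lit 0x3505010f190b19)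 [nat_lit 0, nat_lit 3, nat_lit 8, nat_lit 7, nat_lit 10] (BT.pln (nat_lit 0) (nat_lit 10) (BT.and (nat_lit 0) (nat_lit 14) (BT.cnt (nat_lit 0))))) BT.nil))))) (BT.kid (nat_lit 50) (nat_lit 2) (BT.pln (nat_lit 3) (nat_lit 14) (BT.and (nat_lit 7) (nat_lit 0) (BT.br (nat_lit 0) (nat_lit 14) [] (BT.dead (nat_lit 16) (BT.frm (nat_lit 1) (nat_lit 0x10f190b19) (nat_lit 0x35010f190b19) [nat_lit 0, nat_lit 3, nat_lit 8, nat_lit 7, nat_lit 10] (BT.pln (nat_lit 0) (nat_lit 10) (BT.and (nat_lit 0) (nat_lit 14) (BT.cnt (nat_lit 0))))) (BT.kid (nat_lit 14) (nat_lit 2) (BT.frm (nat_lit 1) (nat_lit 0x10f190b19) (nat_lit 0x10f190b19) [nat_lit 0, nat_lit 3, nat_lit 8, nat_lit 7, nat_lit 10] (BT.pln (nat_lit 0) (nat_lit 27) (BT.and (nat_lit 13) (nat_lit 0) (BT.br (nat_lit 0) (nat_lit 9) [] (BT.dead (nat_lit 7) (BT.frm (nat_lit 2) (nat_lit 0x10f190b19) (nat_lit 0x37010f190b19) [nat_lit 0, nat_lit 4, nat_lit 7, nat_lit 12, nat_lit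 11, nat_lit 14] (BT.pln (nat_lit 0) (nat_lit 42) (BT.br (nat_lit 0) (nat_lit 90) [nat_lit 7] (BT.dead (nat_lit 31) (BT.frm (nat_lit 3) (nat_lit 0x39010f190b19) (nat_lit 0x3937010f190b19) [nat_lit 0, nat_lit 3, nat_lit 7, nat_lit 10, nat_lit 15, nat_lit 14, nat_lit 17] (BT.pln (nat_lit 0) (nat_lit 7) (BT.img (nat_lit 5) (nat_lit 2) (BT.and (nat_lit 1) (nat_lit 0) (BT.cnt (nat_lit 0)))))) BT.nil)))) (BT.kid (nat_lit 9) (nat_lit 2) (BT.frm (nat_lit 2) (nat_lit 0x10f190b19) (nat_lit 0x10f190b19) [nat_lit 0, nat_lit 4, nat_lit 7, nat_lit 12, nat_lit 11, nat_lit 14] (BT.pln (nat_lit 0) (nat_lit 42) (BT.br (nat_lit 0) (nat_lit 90) [nat_lit 7] (BT.kid (nat_lit 90) (nat_lit 1) (BT.one (nat_lit 3) (nat_lit 0x39010f190b19) (nat_lit 0x39010f190b19) [nat_lit 0, nat_lit 3, nat_lit 7, nat_lit 10, nat_lit 15, nat_lit 14, nat_lit 17]) BT.nil)))) BT.nil)))))) BT.nil))))) BT.nil))))))))) BT.nil)))))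

theorem CW_cnt : Cnt 100 (grp 100 EvJ2.EG) EW EW 0 0 0 0 16 :=
  BT.sound CW_cnt_P Known.nil (t := CW_cnt_t) (d := 0) (by decide +kernel)

theorem CW_ge : 16 ≤ Nat.card (grp 100 CW) :=
  Ch.le_card_grp (k := 7) (L := (lab 100 7)) r_hn CW_ok (c := (Ch.cons (nat_lit 11) [nat_lit 1, nat_lit 3, nat_lit 5] (Ch.cons (nat_lit 90) [nat_lit 7] Ch.nil))) (by decide +kernel)

theorem CW_eq : (grp 100 EvJ2.EG) ⊓ Subgroup.centralizer (grp 100 EW : Set (Equiv.Perm (Fin 100))) = grp 100 CW :=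
  cent_grp_eq CW_sym CW_cnt CW_ge

theorem CW_card : Nat.card (grp 100 CW) = 16 :=
  (CW_sym.mem_iff CW_cnt CW_ge).1

theorem CW_e : grp 100 CW ≤ Subgroup.centralizer {Net.toPerm 100 n_e1} :=
  EvG.le_cent r_hn r_hk (by decide +kernel)

open Subgroup Cfsg.Agent.H46.S94 Cfsg.Agent.H46.J2M

/-- `g` is the product of the nets `l` -/
structure R (g : Spor.J2) (l : List Net) : Prop where
  out : ι g = (l.map (Net.toPerm 100)).prod

variable {g h : Spor.J2} {l l' : List Net}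

theorem R.one : R 1 [] := ⟨by simp⟩

theorem R.of {o : Net} (e : ι g = o.toPerm 100) : R g [o] := ⟨by simpa using e⟩

theorem R.net {o : Net} (a : R g [o]) : ι g = o.toPerm 100 := by simpa using a.out

theorem R.mul (a : R g l) (b : R h l') : R (g * h) (l ++ l') :=
  ⟨by rw [map_mul, a.out, b.out, List.map_append, List.prod_append]⟩

theorem R.eq (a : R g l) (b : R h l') (c : EvG.peq 100 7 l l' true = true) : g = h :=
  em.inj (by rw [a.out, b.out, EvG.prod_eq r_hn r_hk c])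

theorem R.ne (a : R g l) (b : R h l') (c : EvG.peq 100 7 l l' false = true) : g ≠ h := fun e =>
  EvG.prod_ne r_hn c (by rw [← a.out, ← b.out, e])

theorem R.to (a : R g l) (l' : List Net) (c : EvG.peq 100 7 l l' true = true) : R g l' :=
  ⟨a.out.trans (EvG.prod_eq r_hn r_hk c)⟩

theorem R.inv (a : R g l) (l' : List Net) (c : EvG.peq 100 7 (l' ++ l) [] true = true) :
    R g⁻¹ l' := ⟨by
  have := EvG.prod_eq r_hn r_hk c
  rw [List.map_append, List.prod_append, ← a.out] at this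
  rw [map_inv]
  exact (eq_inv_of_mul_eq_one_left this).symm⟩

theorem rz : R z [EvJ2.p_g18] := .of ι_z
theorem ry : R y [EvJ2.p_g190] := .of ι_y
theorem re : R e [k_g1] := .of ι_e
theorem rt : R τ [k_g2] := .of ι_τ
theorem rs : R σ [k_g3] := .of ι_σ
theorem ruz : R uz [k_g4] := .of ι_uz
theorem ruy : R uy [k_g5] := .of ι_uy
theorem r1 : R y1 [k_g6] := .of ι_y1
theorem ra : R a5 [k_g7] := .of ι_a5
theorem rti : R τ⁻¹ [k_g2, k_g2] := rt.inv _ (by decide +kernel)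
theorem re' : R (τ * e * τ⁻¹) [n_e1] := ((rt.mul re).mul rti).to _ (by decide +kernel)
theorem r2 : R (e * y1 * e) [n_y2] := ((re.mul r1).mul re).to _ (by decide +kernel)
theorem r3 : R (τ * e * τ⁻¹ * y1 * (τ * e * τ⁻¹)) [n_y3] :=
  ((re'.mul r1).mul re').to _ (by decide +kernel)
theorem r4 : R (τ * e * τ⁻¹ * (e * y1 * e) * (τ * e * τ⁻¹)) [n_y4] :=
  ((re'.mul r2).mul re').to _ (by decide +kernel)
theorem r0 : R (σ * τ) [k_g3, k_g2] := rs.mul rt
theorem r0i : R (σ * τ)⁻¹ [k_g3, k_g2, k_g3, k_g2] := r0.inv _ (by decide +kernel)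

theorem R.comm (a : R g l) (b : R h l') (c : EvG.peq 100 7 (l ++ l') (l' ++ l) true = true) :
    g * h = h * g := (a.mul b).eq (b.mul a) c

theorem R.brk (a : R g l) (b : R h l')
    (c : EvG.peq 100 7 (l ++ l') (l' ++ l ++ [EvJ2.p_g18]) true = true) :
    g * h = h * g * z := (a.mul b).eq ((b.mul a).mul rz) c

theorem R.cj (a : R g l) : R (σ * τ * g * (σ * τ)⁻¹) ([k_g3, k_g2] ++ l ++ [k_g3, k_g2, k_g3, k_g2]) :=
  (r0.mul a).mul r0i

theorem cen_grp {E : List Net} {s : Equiv.Perm (Fin 100)}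
    (h : ∀ o ∈ E, s * o.toPerm 100 = o.toPerm 100 * s) :
    s ∈ centralizer (grp 100 E : Set (Equiv.Perm (Fin 100))) := fun _ hg =>
  mem_centralizer_singleton_iff.1
    ((grp_le_iff.2 fun o ho => mem_centralizer_singleton_iff.2 (h o ho).symm) hg)

theorem cQ (α : MulAut Spor.J2)
    (hα : ∀ v ∈ [y, y1, e * y1 * e, τ * e * τ⁻¹ * y1 * (τ * e * τ⁻¹),
      τ * e * τ⁻¹ * (e * y1 * e) * (τ * e * τ⁻¹)], α v = v) :
    ∃ c ∈ zpowers z, α = MulAut.conj c := by
  obtain ⟨s, hs, hi⟩ := em.aut α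
  have hc : s ∈ centralizer (grp 100 EQ : Set (Equiv.Perm (Fin 100))) := by
    refine cen_grp fun o ho => ?_
    rcases List.mem_cons.1 ho with rfl | ho
    · exact ry.net ▸ hi.fix (hα _ (.head _))
    rcases List.mem_cons.1 ho with rfl | ho
    · exact r1.net ▸ hi.fix (hα _ (.tail _ (.head _)))
    rcases List.mem_cons.1 ho with rfl | ho
    · exact r2.net ▸ hi.fix (hα _ (.tail _ (.tail _ (.head _))))
    rcases List.mem_cons.1 ho with rfl | ho
    · exact r3.net ▸ hi.fix (hα _ (.tail _ (.tail _ (.tail _ (.head _)))))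
    rcases List.mem_cons.1 ho with rfl | ho
    · exact r4.net ▸ hi.fix (hα _ (.tail _ (.tail _ (.tail _ (.tail _ (.head _))))))
    · exact nomatch ho
  rcases EvG.mem_single r_hn r_hk (x := EvJ2.p_g18) (by decide +kernel)
    (CQ_z (CQ_eq.le ⟨hs, hc⟩)) with h | h
  · exact ⟨1, one_mem _, em.eq_conj hi (by rw [map_one, h])⟩
  · exact ⟨z, mem_zpowers _, em.eq_conj hi (by rw [ι_z, h])⟩

theorem cW (β : MulAut Spor.J2) (hz : β z = z) (hy : β y = y) (he : β e = e) :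
    β (τ * e * τ⁻¹) = τ * e * τ⁻¹ := by
  obtain ⟨s, hs, hi⟩ := em.aut β
  have hc : s ∈ centralizer (grp 100 EW : Set (Equiv.Perm (Fin 100))) := by
    refine cen_grp fun o ho => ?_
    rcases List.mem_cons.1 ho with rfl | ho
    · exact rz.net ▸ hi.fix hz
    rcases List.mem_cons.1 ho with rfl | ho
    · exact ry.net ▸ hi.fix hy
    rcases List.mem_cons.1 ho with rfl | ho
    · exact re.net ▸ hi.fix he
    · exact nomatch ho
  refine em.fix' hi ?_
  rw [re'.net]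
  exact mem_centralizer_singleton_iff.1 (CW_e (CW_eq.le ⟨hs, hc⟩))

theorem key {r a b : Spor.J2} (hz : r * z = z * r) (hy : r * y = y * r) (he : r * e = e * a * r)
    (hn : r * (τ * e * τ⁻¹) ≠ τ * e * τ⁻¹ * b * r) {α : MulAut Spor.J2} (h1 : α z = z)
    (h2 : α y = y) (h3 : α e = e * a) (h4 : α (τ * e * τ⁻¹) = τ * e * τ⁻¹ * b) : False := by
  have k : ∀ x w : Spor.J2, α x = w → ((MulAut.conj r⁻¹ * α) x = x ↔ r * x = w * r) := by
    intro x w hw
    rw [MulAut.mul_apply, hw, MulAut.conj_apply, inv_inv, mul_assoc, inv_mul_eq_iff_eq_mul, eq_comm]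
  exact hn ((k _ _ h4).1 (cW _ ((k _ _ h1).2 hz) ((k _ _ h2).2 hy) ((k _ _ h3).2 he)))

theorem eqv (α : MulAut Spor.J2) (h1 : α z = z) (h2 : α y = y) (a : Spor.J2) (ha : a ∈ Z2 z y)
    (h3 : α e = e * a)
    (h4 : α (τ * e * τ⁻¹) = τ * e * τ⁻¹ * (σ * τ * a * (σ * τ)⁻¹)) : a = 1 := by
  rcases EvG.mem_closure_pair ((rz.mul rz).eq .one (by decide +kernel))
    ((ry.mul ry).eq .one (by decide +kernel)) (rz.comm ry (by decide +kernel)) ha with
    h | h | h | h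
  · exact h
  · subst h
    exact (key (ruz.comm rz (by decide +kernel)) (ruz.comm ry (by decide +kernel))
      ((ruz.mul re).eq ((re.mul rz).mul ruz) (by decide +kernel))
      ((ruz.mul re').ne ((re'.mul rz.cj).mul ruz) (by decide +kernel)) h1 h2 h3 h4).elim
  · subst h
    exact (key (ruy.comm rz (by decide +kernel)) (ruy.comm ry (by decide +kernel))
      ((ruy.mul re).eq ((re.mul ry).mul ruy) (by decide +kernel))
      ((ruy.mul re').ne ((re'.mul ry.cj).mul ruy) (by decide +kernel)) h1 h2 h3 h4).elim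
  · subst h
    have ru := ruz.mul ruy
    exact (key (ru.comm rz (by decide +kernel)) (ru.comm ry (by decide +kernel))
      ((ru.mul re).eq ((re.mul (rz.mul ry)).mul ru) (by decide +kernel))
      ((ru.mul re').ne ((re'.mul (rz.mul ry).cj).mul ru) (by decide +kernel)) h1 h2 h3 h4).elim

theorem mv {x : Spor.J2} {l li : List Net} (a : R x l)
    (ci : EvG.peq 100 7 (li ++ l) [] true = true)
    (c1 : EvG.peq 100 7 (l ++ [EvJ2.p_g18]) ([EvJ2.p_g18] ++ l) true = true)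
    (c2 : EvG.peq 100 7 (l ++ [EvJ2.p_g190]) ([EvJ2.p_g190] ++ l) true = true)
    (c3 : EvG.peq 100 7 (l ++ [k_g6] ++ li) ([n_y2] ++ [EvJ2.p_g18]) true = true)
    (c4 : EvG.peq 100 7 (l ++ [n_y2] ++ li) [k_g6] true = true) :
    Mv z y y1 (e * y1 * e) (τ * e * τ⁻¹ * y1 * (τ * e * τ⁻¹))
      (τ * e * τ⁻¹ * (e * y1 * e) * (τ * e * τ⁻¹)) x :=
  ⟨a.comm rz c1, a.comm ry c2, .inr (.inl ⟨.inr (((a.mul r1).mul (a.inv li ci)).eq (r2.mul rz) c3),
    .inl (((a.mul r2).mul (a.inv li ci)).eq r1 c4)⟩)⟩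

theorem rq1 : R (σ * τ * (y1 * (e * y1 * e)) * (σ * τ)⁻¹)
    [k_g3, k_g2, k_g6, n_y2, k_g3, k_g2, k_g3, k_g2] := (r1.mul r2).cj

theorem rq2 : R ((σ * τ)⁻¹ * (y1 * (e * y1 * e)) * (σ * τ))
    [k_g3, k_g2, k_g3, k_g2, k_g6, n_y2, k_g3, k_g2] := (r0i.mul (r1.mul r2)).mul r0

theorem br : List.Pairwise (fun u v => u * v = v * u * z)
    [y, y1, e * y1 * e, τ * e * τ⁻¹ * y1 * (τ * e * τ⁻¹),
      τ * e * τ⁻¹ * (e * y1 * e) * (τ * e * τ⁻¹)] := by
  simp only [List.pairwise_cons, List.forall_mem_cons, List.Pairwise.nil, List.not_mem_nil,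
    IsEmpty.forall_iff, implies_true, and_true]
  exact ⟨⟨ry.brk r1 (by decide +kernel), ry.brk r2 (by decide +kernel),
      ry.brk r3 (by decide +kernel), ry.brk r4 (by decide +kernel)⟩,
    ⟨r1.brk r2 (by decide +kernel), r1.brk r3 (by decide +kernel), r1.brk r4 (by decide +kernel)⟩,
    ⟨r2.brk r3 (by decide +kernel), r2.brk r4 (by decide +kernel)⟩, r3.brk r4 (by decide +kernel)⟩

theorem cj1 : IsConj z y1 := by
  have c := (((rs.mul rs).mul ra).mul r1).mul ra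
  exact isConj_iff.2 ⟨_, mul_inv_eq_iff_eq_mul.2 ((c.mul rz).eq (r1.mul c) (by decide +kernel))⟩

theorem qfs : QFS where
  z1 := rz.ne .one (by decide +kernel)
  r1 := cj1
  c0 := rz.comm ry (by decide +kernel)
  c1 := rz.comm r1 (by decide +kernel)
  br := br
  prod := ((((ry.mul r1).mul r2).mul r3).mul r4).eq .one (by decide +kernel) ▸ one_mem _
  cQ := cQ
  ee := (re.mul re).eq .one (by decide +kernel)
  ez := re.comm rz (by decide +kernel)
  ey := re.comm ry (by decide +kernel)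
  ee' := re.comm re' (by decide +kernel)
  d2 := rfl
  d3 := rfl
  d4 := rfl
  s1 := rz.cj.eq ry (by decide +kernel)
  s2 := ry.cj.eq (rz.mul ry) (by decide +kernel)
  s3 := re.cj.eq re' (by decide +kernel)
  s4 := re'.cj.eq (re.mul re') (by decide +kernel)
  s5 := by
    rw [pow_three]
    exact (r0.mul (r0.mul r0)).eq .one (by decide +kernel)
  m1 := mv rq1 (li := [k_g3, k_g2, n_y2, k_g6, k_g3, k_g2, k_g3, k_g2]) (by decide +kernel)
    (by decide +kernel) (by decide +kernel) (by decide +kernel) (by decide +kernel)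
  m2 := mv rq2 (li := [k_g3, k_g2, k_g3, k_g2, n_y2, k_g6, k_g3, k_g2]) (by decide +kernel)
    (by decide +kernel) (by decide +kernel) (by decide +kernel) (by decide +kernel)
  qq := (((r1.mul r2).mul rq1).mul rq2).eq .one (by decide +kernel) ▸ one_mem _
  eqv := eqv

end Cfsg.Agent.H32.S94Qf
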