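import Mathlib

/-!
The Singer group of a field extension `K / F` inside `GL_F(K)`: centraliser, normaliser.
-/

set_option autoImplicit false

namespace Cfsg.Agent.H32

variable (F K : Type*) [Field F] [Field K] [Algebra F K]

/-- The group of multiplications by non-zero elements of `K`. -/
abbrev singer : Subgroup (Module.End F K)ˣ :=
  (Units.map ((Algebra.lmul F K : K →ₐ[F] Module.End F K) : K →* Module.End F K)).range

variable {F K}

theorem mem_singer_iff {g : (Module.End F K)ˣ} :
    g ∈ singer F K ↔ ∃ a : K, ∀ x, (g : Module.End F K) x = a * x := by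
  constructor
  · rintro ⟨a, rfl⟩
    exact ⟨a, fun x => rfl⟩
  · rintro ⟨a, ha⟩
    have ha0 : a ≠ 0 := by
      rintro rfl
      have h1 : (g : Module.End F K) (((g⁻¹ : (Module.End F K)ˣ) : Module.End F K) 1) = 1 := by
        rw [← Module.End.mul_apply, ← Units.val_mul, mul_inv_cancel, Units.val_one,
          Module.End.one_apply]
      rw [ha, zero_mul] at h1
      exact zero_ne_one h1
    exact ⟨Units.mk0 a ha0, Units.ext (LinearMap.ext fun x => (ha x).symm)⟩

theorem unit_inv_apply_apply {V : Type*} [AddCommGroup V] [Module F V] (g : (Module.End F V)ˣ)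
    (x : V) : ((g⁻¹ : (Module.End F V)ˣ) : Module.End F V) ((g : Module.End F V) x) = x := by
  rw [← Module.End.mul_apply, ← Units.val_mul, inv_mul_cancel, Units.val_one,
    Module.End.one_apply]

theorem unit_apply_inv_apply {V : Type*} [AddCommGroup V] [Module F V] (g : (Module.End F V)ˣ)
    (x : V) : (g : Module.End F V) (((g⁻¹ : (Module.End F V)ˣ) : Module.End F V) x) = x := by
  rw [← Module.End.mul_apply, ← Units.val_mul, mul_inv_cancel, Units.val_one,
    Module.End.one_apply]

theorem unit_injective {V : Type*} [AddCommGroup V] [Module F V] (g : (Module.End F V)ˣ) :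
    Function.Injective (g : Module.End F V) := fun x y h => by
  rw [← unit_inv_apply_apply g x, h, unit_inv_apply_apply]

theorem unit_surjective {V : Type*} [AddCommGroup V] [Module F V] (g : (Module.End F V)ˣ) :
    Function.Surjective (g : Module.End F V) := fun x => ⟨_, unit_apply_inv_apply g x⟩

/-- Multiplication by a unit, as an element of the Singer group. -/
def singerElt (a : Kˣ) : (Module.End F K)ˣ :=
  Units.map ((Algebra.lmul F K : K →ₐ[F] Module.End F K) : K →* Module.End F K) a

theorem singerElt_apply (a : Kˣ) (x : K) :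
    ((singerElt a : (Module.End F K)ˣ) : Module.End F K) x = a * x := rfl

theorem singerElt_mem (a : Kˣ) : (singerElt a : (Module.End F K)ˣ) ∈ singer F K := ⟨a, rfl⟩

theorem card_singer : Nat.card (singer F K) = Nat.card K - 1 := by
  rw [← Nat.card_units]
  refine (Nat.card_congr (MonoidHom.ofInjective ?_).toEquiv).symm
  intro a b h
  have := congrArg (fun g : (Module.End F K)ˣ => (g : Module.End F K) 1) h
  exact Units.ext (by simpa using this)

theorem centralizer_singer :
    Subgroup.centralizer (singer F K : Set (Module.End F K)ˣ) = singer F K := by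
  ext g
  rw [Subgroup.mem_centralizer_iff]
  constructor
  · intro h
    refine mem_singer_iff.2 ⟨(g : Module.End F K) 1, fun x => ?_⟩
    by_cases hx : x = 0
    · simp [hx]
    · have := congrArg (fun u : (Module.End F K)ˣ => (u : Module.End F K) 1)
        (h _ (singerElt_mem (Units.mk0 x hx)))
      simp only [Units.val_mul, Module.End.mul_apply, singerElt_apply, Units.val_mk0,
        mul_one] at this
      rw [← this, mul_comm]
  · intro hg h hh
    obtain ⟨a, ha⟩ := mem_singer_iff.1 hg
    obtain ⟨b, hb⟩ := mem_singer_iff.1 hh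
    refine Units.ext (LinearMap.ext fun x => ?_)
    simp only [Units.val_mul, Module.End.mul_apply, ha, hb, mul_left_comm]

/-- The semilinear map `x ↦ c * σ x`. -/
def semiElt (c : Kˣ) (σ : K ≃ₐ[F] K) : (Module.End F K)ˣ :=
  singerElt c * ⟨σ.toLinearMap, σ.symm.toLinearMap, by ext; simp, by ext; simp⟩

theorem semiElt_apply (c : Kˣ) (σ : K ≃ₐ[F] K) (x : K) :
    ((semiElt c σ : (Module.End F K)ˣ) : Module.End F K) x = c * σ x := rfl

theorem conj_mem_singer_iff (g h : (Module.End F K)ˣ) :
    g * h * g⁻¹ ∈ singer F K ↔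
      ∃ a : K, ∀ x, (g : Module.End F K) ((h : Module.End F K) x) = a * (g : Module.End F K) x := by
  rw [mem_singer_iff]
  refine exists_congr fun a => ⟨fun H x => ?_, fun H x => ?_⟩
  · have := H ((g : Module.End F K) x)
    simpa only [Units.val_mul, Module.End.mul_apply, unit_inv_apply_apply] using this
  · have := H (((g⁻¹ : (Module.End F K)ˣ) : Module.End F K) x)
    simpa only [Units.val_mul, Module.End.mul_apply, unit_apply_inv_apply] using this

theorem mem_normalizer_singer_iff {g : (Module.End F K)ˣ} :
    g ∈ Subgroup.normalizer (singer F K : Set (Module.End F K)ˣ) ↔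
      ∃ (c : Kˣ) (σ : K ≃ₐ[F] K), g = semiElt c σ := by
  constructor
  · intro hg
    rw [Subgroup.mem_normalizer_iff] at hg
    have h1 : (g : Module.End F K) 1 ≠ 0 := fun h =>
      one_ne_zero (unit_injective g (by rw [h, map_zero]))
    have hmul : ∀ a x : K, (g : Module.End F K) (a * x) =
        (g : Module.End F K) a * ((g : Module.End F K) 1)⁻¹ * (g : Module.End F K) x := by
      intro a x
      by_cases ha : a = 0
      · simp [ha]
      obtain ⟨b, hb⟩ := (conj_mem_singer_iff _ _).1 ((hg _).1 (singerElt_mem (Units.mk0 a ha)))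
      simp only [singerElt_apply, Units.val_mk0] at hb
      have hb1 := hb 1
      rw [mul_one] at hb1
      rw [hb, hb1, mul_assoc b, mul_inv_cancel₀ h1, mul_one]
    let φ : K →ₐ[F] K :=
      { toFun := fun a => ((g : Module.End F K) 1)⁻¹ * (g : Module.End F K) a
        map_one' := inv_mul_cancel₀ h1
        map_mul' := fun a b => by rw [hmul]; ring
        map_zero' := by simp
        map_add' := fun a b => by rw [map_add, mul_add]
        commutes' := fun c => by
          rw [Algebra.algebraMap_eq_smul_one, map_smul, mul_smul_comm, inv_mul_cancel₀ h1] }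
    have hφ : Function.Bijective φ := by
      refine ⟨φ.toRingHom.injective, fun y => ?_⟩
      obtain ⟨x, hx⟩ := unit_surjective g ((g : Module.End F K) 1 * y)
      refine ⟨x, ?_⟩
      change ((g : Module.End F K) 1)⁻¹ * (g : Module.End F K) x = y
      rw [hx, ← mul_assoc, inv_mul_cancel₀ h1, one_mul]
    refine ⟨Units.mk0 _ h1, AlgEquiv.ofBijective φ hφ, Units.ext (LinearMap.ext fun x => ?_)⟩
    rw [semiElt_apply]
    change _ = (g : Module.End F K) 1 * (((g : Module.End F K) 1)⁻¹ * (g : Module.End F K) x)
    rw [← mul_assoc, mul_inv_cancel₀ h1, one_mul]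
  · rintro ⟨c, σ, rfl⟩
    rw [Subgroup.mem_normalizer_iff]
    intro h
    change h ∈ singer F K ↔ _ ∈ singer F K
    rw [conj_mem_singer_iff, mem_singer_iff]
    simp only [semiElt_apply]
    constructor
    · rintro ⟨a, ha⟩
      exact ⟨σ a, fun x => by rw [ha, map_mul, mul_left_comm]⟩
    · rintro ⟨a, ha⟩
      refine ⟨σ.symm a, fun x => σ.injective ?_⟩
      have := ha x
      rw [mul_left_comm] at this
      rw [mul_left_cancel₀ c.ne_zero this, map_mul, AlgEquiv.apply_symm_apply]

theorem card_normalizer_singer [Finite K] :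
    Nat.card (Subgroup.normalizer (singer F K : Set (Module.End F K)ˣ)) =
      Module.finrank F K * (Nat.card K - 1) := by
  let φ : Kˣ × (K ≃ₐ[F] K) → Subgroup.normalizer (singer F K : Set (Module.End F K)ˣ) :=
    fun x => ⟨semiElt x.1 x.2, mem_normalizer_singer_iff.2 ⟨_, _, rfl⟩⟩
  have hφ : Function.Bijective φ := by
    constructor
    · rintro ⟨c, σ⟩ ⟨c', σ'⟩ h
      have h' : ∀ x, (c : K) * σ x = c' * σ' x := fun x =>
        congrArg (fun g : Subgroup.normalizer (singer F K : Set (Module.End F K)ˣ) =>
          ((g : (Module.End F K)ˣ) : Module.End F K) x) h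
      have hc : c = c' := Units.ext (by simpa using h' 1)
      subst hc
      exact Prod.ext rfl (AlgEquiv.ext fun x => mul_left_cancel₀ c.ne_zero (h' x))
    · rintro ⟨g, hg⟩
      obtain ⟨c, σ, rfl⟩ := mem_normalizer_singer_iff.1 hg
      exact ⟨⟨c, σ⟩, rfl⟩
  rw [← Nat.card_eq_of_bijective φ hφ, Nat.card_prod, Nat.card_units,
    IsGalois.card_aut_eq_finrank, mul_comm]

end Cfsg.Agent.H32
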