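import Cfsg.Agent.H32.Singer
import Cfsg.Agent.H82.Zsigmondy

/-!
Abelian subgroups of order `q^n - 1` of `GL_n(q)` are Singer cycles.
-/

set_option autoImplicit false

namespace Cfsg.Agent.H32

open Module

/-- A prime power which is one less than a power of two is a prime. -/
theorem prime_of_pow_add_one_eq_two_pow {p k a : ℕ} (hp : p.Prime) (hk : 0 < k)
    (h : p ^ k + 1 = 2 ^ a) : k = 1 := by
  have hp2 := hp.two_le
  have hpk : 2 ≤ p ^ k := le_trans hp2 (Nat.le_self_pow hk.ne' p)
  have ha : 2 ≤ a := by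
    by_contra hlt
    have : a = 0 ∨ a = 1 := by omega
    rcases this with rfl | rfl <;> omega
  obtain ⟨b, rfl⟩ : ∃ b, a = b + 2 := ⟨a - 2, by omega⟩
  have hodd : Odd p := by
    rcases hp.eq_two_or_odd' with rfl | ho
    · exfalso
      obtain ⟨j, rfl⟩ : ∃ j, k = j + 1 := ⟨k - 1, by omega⟩
      rw [pow_succ, pow_succ, pow_succ] at h
      omega
    · exact ho
  rcases Nat.even_or_odd k with ⟨j, rfl⟩ | hko
  · exfalso
    obtain ⟨c, hc⟩ := hodd.pow (n := j)
    rw [pow_add, hc, pow_succ, pow_succ] at h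
    have : (2 * c + 1) * (2 * c + 1) = 4 * (c * c + c) + 1 := by ring
    omega
  · by_contra hk1
    obtain ⟨j, rfl⟩ := hko
    have hj : 0 < j := by omega
    -- p^(2j+1) + 1 = (p+1) * s with s odd, s > 1
    have key : ∀ j : ℕ, ∃ s : ℕ, Odd s ∧ p ^ (2 * j + 1) + 1 = (p + 1) * s := by
      intro j
      induction j with
      | zero => exact ⟨1, odd_one, by simp⟩
      | succ j ih =>
        obtain ⟨s, hs, he⟩ := ih
        obtain ⟨m, hm⟩ : ∃ m, p = m + 1 := ⟨p - 1, by omega⟩
        have hme : Even m := by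
          rcases Nat.even_or_odd m with h | h
          · exact h
          · exfalso
            rw [hm] at hodd
            exact (Nat.not_even_iff_odd.2 hodd) (h.add_one)
        refine ⟨s + m * p ^ (2 * j + 1), hs.add_even (hme.mul_right _), ?_⟩
        have : p ^ (2 * (j + 1) + 1) = p ^ (2 * j + 1) * p * p := by ring
        rw [this, mul_add, ← he]
        generalize p ^ (2 * j + 1) = x
        rw [hm]; ring
    obtain ⟨s, hs, he⟩ := key j
    have hdvd : s ∣ 2 ^ (b + 2) := ⟨p + 1, by rw [← h, he, mul_comm]⟩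
    have hs1 : s = 1 := by
      have := (Nat.Coprime.pow_right (b + 2) (Nat.coprime_two_right.2 hs))
      exact Nat.Coprime.eq_one_of_dvd this hdvd
    rw [hs1, mul_one] at he
    have h1 : p ^ (2 * j + 1) = p ^ 1 := by simpa using he
    have := Nat.pow_right_injective hp2 h1
    omega

variable {F V : Type*} [Field F] [Fintype F] [AddCommGroup V] [Module F V] [Finite V]

theorem pow_modEq_fixed (r : ℕ) [Fact r.Prime] (u : Module.End F V) (hu : u ^ r = 1)
    (W : Submodule F V) (hW : ∀ w ∈ W, u w ∈ W) :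
    Fintype.card F ^ finrank F W ≡
      Fintype.card F ^ finrank F (W ⊓ LinearMap.ker (u - 1) : Submodule F V) [MOD r] := by
  classical
  haveI := Fintype.ofFinite V
  let f : Function.End W := fun w => ⟨u w, hW w w.2⟩
  have hf : ∀ k : ℕ, ∀ w : W, ((f ^ k) w : V) = (u ^ k) w := by
    intro k
    induction k with
    | zero => intro w; rfl
    | succ k ih =>
      intro w
      rw [pow_succ, pow_succ]
      exact ih (f w)
  have h1 : f ^ r ^ 1 = 1 := by
    funext w
    apply Subtype.ext
    rw [pow_one, hf, hu]; rfl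
  have h2 := Equiv.Perm.card_fixedPoints_modEq h1
  rw [← Module.card_eq_pow_finrank, ← Module.card_eq_pow_finrank]
  convert h2 using 1
  refine Fintype.card_congr ⟨fun x => ⟨⟨x.1, x.2.1⟩, ?_⟩, fun x => ⟨x.1.1, x.1.2, ?_⟩,
    fun _ => rfl, fun _ => rfl⟩
  · apply Subtype.ext
    have := x.2.2
    simp only [SetLike.mem_coe, LinearMap.mem_ker, LinearMap.sub_apply, Module.End.one_apply,
      sub_eq_zero] at this
    exact this
  · have := congrArg Subtype.val x.2
    simp only [SetLike.mem_coe, LinearMap.mem_ker, LinearMap.sub_apply, Module.End.one_apply,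
      sub_eq_zero]
    exact this

theorem dvd_sub_of_pow_modEq {q r n a b : ℕ} (hq : IsPrimitiveRoot (q : ZMod r) n) (hn : 0 < n)
    (hba : b ≤ a) (h : q ^ a ≡ q ^ b [MOD r]) : n ∣ a - b := by
  have h1 : (q : ZMod r) ^ a = (q : ZMod r) ^ b := by
    have := (ZMod.natCast_eq_natCast_iff _ _ _).2 h
    simpa using this
  have hu : IsUnit (q : ZMod r) := hq.isUnit hn.ne'
  apply hq.dvd_of_pow_eq_one
  have h2 : (q : ZMod r) ^ b * (q : ZMod r) ^ (a - b) = (q : ZMod r) ^ b * 1 := by
    rw [← pow_add, mul_one, Nat.add_sub_cancel' hba, h1]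
  exact (hu.pow b).mul_left_cancel h2

/-- An element whose order is a primitive prime divisor of `q^n - 1` acts irreducibly. -/
theorem irreducible_of_ppd {r : ℕ} (hr : r.Prime) (hn : 0 < finrank F V)
    (hq : IsPrimitiveRoot ((Fintype.card F : ℕ) : ZMod r) (finrank F V))
    (u : Module.End F V) (hu : u ^ r = 1) (hu1 : u ≠ 1)
    (W : Submodule F V) (hW : ∀ w ∈ W, u w ∈ W) : W = ⊥ ∨ W = ⊤ := by
  haveI := Fact.mk hr
  haveI : Module.Finite F V := Module.Finite.of_finite
  have hC : LinearMap.ker (u - 1) = ⊥ := by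
    have h1 := pow_modEq_fixed r u hu ⊤ (fun _ _ => trivial)
    rw [top_inf_eq, finrank_top] at h1
    have h2 := dvd_sub_of_pow_modEq hq hn (Submodule.finrank_le _) h1
    have h3 : finrank F (LinearMap.ker (u - 1)) < finrank F V := by
      apply Submodule.finrank_lt
      intro h
      exact hu1 (sub_eq_zero.1 (LinearMap.ker_eq_top.1 h))
    have h4 := Nat.le_of_dvd (by omega) h2
    exact Submodule.finrank_eq_zero.1 (by omega)
  have h1 := pow_modEq_fixed r u hu W hW
  rw [hC, inf_bot_eq, finrank_bot] at h1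
  have h2 := dvd_sub_of_pow_modEq hq hn (Nat.zero_le _) h1
  rw [Nat.sub_zero] at h2
  rcases Nat.eq_zero_or_pos (finrank F W) with h0 | h0
  · exact Or.inl (Submodule.finrank_eq_zero.1 h0)
  · exact Or.inr (Submodule.eq_top_of_finrank_eq
      (le_antisymm (Submodule.finrank_le W) (Nat.le_of_dvd h0 h2)))

/-- An irreducible abelian subgroup of order `|K| - 1` is conjugate to the Singer group. -/
theorem conj_singer_of_irreducible {K : Type*} [Field K] [Fintype K] [Algebra F K]
    (U : Subgroup (Module.End F K)ˣ) (hU : IsMulCommutative U)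
    (hcard : Nat.card U = Fintype.card K - 1)
    (hirr : ∀ W : Submodule F K, (∀ g ∈ U, ∀ w ∈ W, (g : Module.End F K) w ∈ W) →
      W = ⊥ ∨ W = ⊤) :
    ∃ g : (Module.End F K)ˣ, U.map (MulAut.conj g).toMonoidHom = singer F K := by
  classical
  haveI : Module.Finite F K := Module.Finite.of_finite
  haveI : Finite (Module.End F K) := Finite.of_injective _ (DFunLike.coe_injective)
  let S : Set (Module.End F K) := Units.val '' (U : Set (Module.End F K)ˣ)
  let A : Subalgebra F (Module.End F K) := Subalgebra.centralizer F S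
  have hcomm : ∀ g ∈ U, ∀ h ∈ U, g * h = h * g := fun g hg h hh =>
    congrArg Subtype.val (hU.is_comm.comm (⟨g, hg⟩ : U) ⟨h, hh⟩)
  have hUA : ∀ g ∈ U, (g : Module.End F K) ∈ A := by
    rintro g hg _ ⟨h, hh, rfl⟩
    rw [← Units.val_mul, ← Units.val_mul, hcomm h hh g hg]
  have hinj : ∀ a ∈ A, a ≠ 0 → Function.Injective a := by
    intro a ha ha0
    rcases hirr (LinearMap.ker a) (fun g hg w hw => by
      have := congrArg (fun x : Module.End F K => x w) (ha _ ⟨g, hg, rfl⟩)
      simp only [Module.End.mul_apply] at this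
      rw [LinearMap.mem_ker] at hw ⊢
      rw [← this, hw, map_zero]) with h | h
    · exact LinearMap.ker_eq_bot.1 h
    · exact absurd (LinearMap.ker_eq_top.1 h) ha0
  let ev : A →ₗ[F] K :=
    { toFun := fun a => (a : Module.End F K) 1
      map_add' := fun _ _ => rfl
      map_smul' := fun _ _ => rfl }
  have hev : Function.Injective ev := by
    rw [injective_iff_map_eq_zero]
    intro a ha
    by_contra h0
    have h1 : (a : Module.End F K) ≠ 0 := fun h => h0 (Subtype.ext h)
    exact one_ne_zero (hinj a a.2 h1 (ha.trans (map_zero _).symm))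
  have hKpos : 1 < Fintype.card K := Fintype.one_lt_card
  -- the map U → A \ {0} is a bijection
  let j : U → {a : A // a ≠ 0} := fun g => ⟨⟨(g : (Module.End F K)ˣ), hUA _ g.2⟩, fun h =>
    (g : (Module.End F K)ˣ).ne_zero (congrArg Subtype.val h)⟩
  have hjinj : Function.Injective j := fun g h e =>
    Subtype.ext (Units.ext (congrArg (fun x => x.1.1) e))
  have hAle : Nat.card A ≤ Fintype.card K := by
    rw [← Nat.card_eq_fintype_card]; exact Nat.card_le_card_of_injective ev hev
  have hA' : Nat.card {a : A // a ≠ 0} = Nat.card A - 1 := by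
    haveI := Fintype.ofFinite A
    simp [Nat.card_eq_fintype_card, Fintype.card_subtype_compl]
  have hjle := Nat.card_le_card_of_injective j hjinj
  have hAcard : Nat.card A = Fintype.card K := by omega
  have hjsurj : Function.Surjective j :=
    (hjinj.bijective_of_nat_card_le (by omega)).2
  have hAU : ∀ a : A, a ≠ 0 → ∃ g ∈ U, (g : Module.End F K) = a := by
    intro a ha
    obtain ⟨g, hg⟩ := hjsurj ⟨a, ha⟩
    exact ⟨g, g.2, congrArg (fun x => x.1.1) hg⟩
  have hfield : IsField A := by
    refine ⟨⟨0, 1, zero_ne_one⟩, fun a b => ?_, fun {a} ha => ?_⟩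
    · by_cases ha : a = 0
      · simp [ha]
      obtain ⟨g, hg, hga⟩ := hAU a ha
      apply Subtype.ext
      have := b.2 _ ⟨g, hg, rfl⟩
      rw [hga] at this
      exact this
    · obtain ⟨g, hg, hga⟩ := hAU a ha
      refine ⟨⟨((g⁻¹ : (Module.End F K)ˣ) : Module.End F K), hUA _ (U.inv_mem hg)⟩, ?_⟩
      apply Subtype.ext
      change (a : Module.End F K) * _ = 1
      rw [← hga, ← Units.val_mul, mul_inv_cancel, Units.val_one]
  have hevb : Function.Bijective ev :=
    hev.bijective_of_nat_card_le (by rw [hAcard, Nat.card_eq_fintype_card])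
  let e : A ≃ₗ[F] K := LinearEquiv.ofBijective ev hevb
  have hφ : ∃ φ : A →ₗ[F] K, Function.Bijective φ ∧ ∀ a b, φ (a * b) = φ a * φ b := by
    letI : Field A := hfield.toField
    obtain ⟨φ⟩ := FiniteField.nonempty_algHom_of_finrank_dvd (F := F) (K := A) (L := K)
      (by rw [e.finrank_eq])
    refine ⟨φ.toLinearMap, ?_, fun a b => map_mul φ a b⟩
    exact φ.injective.bijective_of_nat_card_le (by rw [hAcard, Nat.card_eq_fintype_card])
  obtain ⟨φ, hφb, hφm⟩ := hφ
  let g0 : K ≃ₗ[F] K := e.symm.trans (LinearEquiv.ofBijective φ hφb)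
  let g : (Module.End F K)ˣ := (LinearMap.GeneralLinearGroup.generalLinearEquiv F K).symm g0
  have hg : ∀ a : A, (g : Module.End F K) (e a) = φ a := by
    intro a
    change g0 (e a) = φ a
    simp [g0]
  refine ⟨g, ?_⟩
  apply Subgroup.eq_of_le_of_card_ge
  · rintro _ ⟨h, hh, rfl⟩
    change g * h * g⁻¹ ∈ singer F K
    rw [conj_mem_singer_iff]
    refine ⟨φ ⟨h, hUA h hh⟩, fun x => ?_⟩
    obtain ⟨a, rfl⟩ := e.surjective x
    have : (h : Module.End F K) (e a) = e (⟨h, hUA h hh⟩ * a) := rfl
    rw [this, hg, hg, hφm]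
  · rw [card_singer, Subgroup.card_map_of_injective (MulAut.conj g).injective, hcard,
      Nat.card_eq_fintype_card]

theorem conj_singer_of_abelian {K : Type*} [Field K] [Fintype K] [Algebra F K] (n : ℕ)
    (hn : 2 ≤ n) (hdim : Module.finrank F K = n)
    (hex1 : ¬ (n = 6 ∧ Fintype.card F = 2))
    (hex2 : ¬ (n = 2 ∧ (Fintype.card F).Prime ∧ ∃ a : ℕ, Fintype.card F + 1 = 2 ^ a))
    (U : Subgroup (Module.End F K)ˣ) (hU : IsMulCommutative U)
    (hcard : Nat.card U = Fintype.card K - 1) :
    ∃ g : (Module.End F K)ˣ, U.map (MulAut.conj g).toMonoidHom = singer F K := by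
  haveI : Finite (Module.End F K) := Finite.of_injective _ (DFunLike.coe_injective)
  obtain ⟨r, hr, hq⟩ := H82.zsigmondy (Fintype.card F) n Fintype.one_lt_card (by omega)
    (fun h => hex1 ⟨h.2, h.1⟩) (by
      rintro ⟨h2, a, ha⟩
      obtain ⟨p, hp⟩ := CharP.exists F
      obtain ⟨k, hpp, hk⟩ := FiniteField.card F p
      have h1 := prime_of_pow_add_one_eq_two_pow hpp k.2 (by rw [← ha, hk]; rfl)
      refine hex2 ⟨h2, ?_, a, ha⟩
      have h3 : (k : ℕ) = 1 := h1
      rw [hk, h3, pow_one]; exact hpp)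
  haveI := Fact.mk hr
  have hK : Fintype.card K = Fintype.card F ^ n := by rw [← hdim]; exact Module.card_eq_pow_finrank
  have hdvd : r ∣ Nat.card U := by
    rw [hcard, hK]
    have h1 : ((Fintype.card F ^ n : ℕ) : ZMod r) = ((1 : ℕ) : ZMod r) := by
      push_cast; exact hq.pow_eq_one
    exact (Nat.modEq_iff_dvd' (Nat.one_le_pow _ _ Fintype.card_pos)).1
      ((ZMod.natCast_eq_natCast_iff _ _ _).1 h1).symm
  obtain ⟨u, hu⟩ := exists_prime_orderOf_dvd_card' r hdvd
  apply conj_singer_of_irreducible U hU hcard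
  intro W hW
  refine irreducible_of_ppd hr (by omega) (by rw [hdim]; exact hq)
    ((u : (Module.End F K)ˣ) : Module.End F K) ?_ ?_ W (fun w hw => hW _ u.2 w hw)
  · have := pow_orderOf_eq_one u
    rw [hu] at this
    have h2 := congrArg (fun x : U => ((x : (Module.End F K)ˣ) : Module.End F K)) this
    simpa using h2
  · intro h
    have : u = 1 := Subtype.ext (Units.ext h)
    rw [this, orderOf_one] at hu
    exact hr.one_lt.ne hu

end Cfsg.Agent.H32
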