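import Cfsg.Agent.H29.SpKit

/-! Project SP, piece H6: additivity of the doubled short root elements for `l0 = 1`. -/

set_option autoImplicit false

namespace Cfsg.Agent.H32.SpH6

open Cfsg Cfsg.Agent.H63 Cfsg.Agent.H63.SL Cfsg.Agent.H26 Cfsg.Agent.H68.Sp Cfsg.Agent.H29.SpK
open Cfsg.Agent.H78 hiding tv
open Subgroup Module
open scoped commutatorElement

universe u v

variable {F V : Type v} [Field F] [AddCommGroup V] [Module F V] {G : Type u} [Group G]
  {P : PForm F V} {φ : P.E →* G} {L : Subgroup G} {k : ℕ} {t : G} {c0 : F} {y : V → V → G}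
  {u v v' w b e : V}

theorem i2_symm (H : I2 P u v) : I2 P v u :=
  ⟨PForm.f_symm_zero H.1, LinearIndependent.pair_symm_iff.1 H.2⟩

theorem i2_co (H : I2 P u v) {a c : F} (e : a • u + c • v = 0) : a = 0 ∧ c = 0 :=
  LinearIndependent.pair_iff.1 H.2 a c e

theorem i2_ne (H : I2 P u v) : v ≠ 0 := H.2.ne_zero 1

theorem i2_of (hb : b ≠ 0) (h0 : P.f u b = 0) (H : u ∉ F ∙ b) : I2 P u b :=
  i2_symm ⟨PForm.f_symm_zero h0, (LinearIndependent.pair_iff' hb).2 fun a ha =>
    H (Submodule.mem_span_singleton.2 ⟨a, ha⟩)⟩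

theorem i2_smul (H : I2 P u v) {c : F} (hc : c ≠ 0) : I2 P (c • u) v :=
  ⟨by rw [P.f_smul_left, H.1, mul_zero], LinearIndependent.pair_iff.2 fun a d e => by
    rw [smul_smul] at e
    exact ⟨(mul_eq_zero.1 (i2_co H e).1).resolve_right hc, (i2_co H e).2⟩⟩

theorem li3 (H : ∀ a c d : F, a • u + c • v + d • w = 0 → a = 0 ∧ c = 0 ∧ d = 0) :
    LinearIndependent F ![u, v, w] := Fintype.linearIndependent_iff.2 fun g hg i => by
  obtain ⟨h0, h1, h2⟩ := H (g 0) (g 1) (g 2) (by simpa [Fin.sum_univ_three] using hg)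
  fin_cases i <;> assumption

theorem YA_im (c : F) : YA P φ y u v (⟨0, c⟩ : QA F c0) = y u (c • v) := by
  rw [YA, zero_smul, Es_zero, one_mul]

variable (h : SG P φ L k)
include h

theorem i2_shear (H : I2 P u v) (r : F) : I2 P u (v + r • u) :=
  ⟨by rw [P.f_add_right, H.1, fr h, fs h, mul_zero, add_zero],
    LinearIndependent.pair_iff.2 fun a d e => by
      obtain ⟨h1, h2⟩ := i2_co H (a := a + d * r) (c := d) (by rw [← e]; module)
      exact ⟨by simpa [h2] using h1, h2⟩⟩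

theorem sgm (c : F) : sg 1 (⟨0, 1⟩ : QA F c0) * ⟨0, c⟩ = ⟨c0 * c, 0⟩ := by
  ext
  · simp [sg]
  · simp [sg, fadd_self h]

/-- Vectors orthogonal to `v'` are independent from a vector not orthogonal to it. -/
theorem ind3 (hf : P.f v v' ≠ 0) (hb : P.f b v' = 0) (he : P.f e v' = 0) (H : I2 P b e)
    (h1 : P.f v b = 0) (h2 : P.f v e = 0) : I3 P v b e ∧ I2 P v e ∧ I2 P v (b + e) := by
  have key : ∀ a c d : F, a • v + c • b + d • e = 0 → a = 0 ∧ c = 0 ∧ d = 0 := fun a c d E => by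
    have h3 := congrArg (P.f · v') E
    simp only [P.f_add_left, P.f_smul_left, hb, he, mul_zero, add_zero, P.f_zero_left] at h3
    obtain rfl := (mul_eq_zero.1 h3).resolve_right hf
    rw [zero_smul, zero_add] at E
    exact ⟨rfl, i2_co H E⟩
  refine ⟨⟨h1, h2, H.1, li3 key⟩, ⟨h2, LinearIndependent.pair_iff.2 fun a d E => ?_⟩,
    ⟨by rw [P.f_add_right, h1, h2, add_zero], LinearIndependent.pair_iff.2 fun a d E => ?_⟩⟩
  · have := key a 0 d (by rw [← E]; module)
    exact ⟨this.1, this.2.2⟩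
  · have := key a d d (by rw [← E]; module)
    exact ⟨this.1, this.2.2⟩

variable (Y : Y1 P φ L t 1 y)
include Y

theorem cy (H : I2 P u v) {a : V} (h1 : P.f u a = 0) (h2 : P.f u w = 0) (h3 : P.f v a = 0)
    (h4 : P.f v w = 0) (ν : F) : Commute (ET P φ a w ν) (y u v) := by
  have := Y.conj u v H (eE P a w ν)
  rw [eE_fix h h1 h2, eE_fix h h3 h4] at this
  exact mul_inv_eq_iff_eq_mul.1 this

theorem cyt (H : I2 P u v) {a : V} (h1 : P.f u a = 0) (h3 : P.f v a = 0) (ν : F) :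
    Commute (tv P φ a ν) (y u v) :=
  cy h Y H h1 (P.f_zero_right _) h3 (P.f_zero_right _) ν

theorem sh1 (H : I2 P v b) (r : F) : y (v + r • b) b = y v b * tv P φ b r := by
  have H' := i2_symm H
  rw [Y.swap _ _ (i2_shear h H' r), Y.swap _ _ H', Y.shear _ _ H', one_smul, one_smul, one_mul,
    Es_shear h, mul_assoc, mul_assoc, (comm_same h b 0 v r 0).eq]

theorem qy (H : I2 P v b) (hw : P.f b w = 0) (ν : F) :
    ET P φ b w ν * y v b * (ET P φ b w ν)⁻¹ = y v b * tv P φ b (P.f v w) := by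
  rw [ET_eq, Y.conj v b H, eE_fix h (fs h b) hw, eE_apply h hw, H.1, zero_smul, mul_zero, add_zero,
    add_zero, sh1 h Y H]

theorem yq (H : I2 P v b) (hw : P.f b w = 0) (ν : F) :
    y v b * ET P φ b w ν = ET P φ b w (ν + P.f v w) * y v b := by
  have h1 := qy h Y H hw (ν + P.f v w)
  rw [mul_inv_eq_iff_eq_mul] at h1
  rw [h1, mul_assoc, tv, ET_mul h (P.f_zero_right b) hw, zero_add, P.f_zero_left, add_zero,
    add_comm ν, ← add_assoc, fadd_self h, zero_add]

theorem yt (hT : Tc L t) (H : I2 P v b) : y v b * t = t * (ET P φ b v 0 * y v b) := by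
  have h1 := Y.tact v b H
  have h2 : ET P φ b v 0 * t = t * ET P φ b v 0 := hT.tc _ (ET_mem h b v 0)
  rw [mul_inv_eq_iff_eq_mul, Es_symm h, Es, mul_assoc, h2] at h1
  rw [(cy h Y H H.1 (fs h v) (fs h b) (i2_symm H).1 0).eq, ← mul_assoc t, h1, mul_assoc,
    mul_assoc, ET_sq h, mul_one]

theorem orth (H : I2 P v b) (H' : I2 P v' b) (H'' : I2 P (v + v') b) (hf : P.f v v' = 0) :
    y (v + v') b = y v b * y v' b := by
  have K := i2_symm H
  have K' := i2_symm H'
  have K'' := i2_symm H''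
  have key : y b (v + v') = y b v * y b v' := by
    by_cases hc : ∃ c r : F, v' = c • v + r • b
    · obtain ⟨c, r, rfl⟩ := hc
      have hc : c ≠ 0 := fun e => one_ne_zero (i2_co K' (a := -r) (c := 1) (by rw [e]; module)).2
      have hc' : 1 + c ≠ 0 := fun e => one_ne_zero (i2_co K'' (a := -r) (c := 1) (by
        rw [eq_neg_of_add_eq_zero_right e]; module)).2
      rw [show v + (c • v + r • b) = (1 + c) • v + r • b by module,
        Y.shear _ _ (i2_symm (i2_smul H hc')), Y.shear _ _ (i2_symm (i2_smul H hc)),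
        Y.adds _ _ K, one_smul, mul_assoc]
    · refine Y.add _ _ _ ⟨K.1, K'.1, hf, li3 fun a c d E => ?_⟩
      by_cases hd : d = 0
      · rw [hd, zero_smul, add_zero] at E
        exact ⟨(i2_co K E).1, (i2_co K E).2, hd⟩
      · refine absurd ⟨-(c / d), -(a / d), smul_right_injective V hd ?_⟩ hc
        change d • v' = d • _
        rw [eq_neg_of_add_eq_zero_right E, smul_add, smul_smul, smul_smul, mul_neg, mul_neg,
          mul_div_cancel₀ _ hd, mul_div_cancel₀ _ hd]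
        module
  rw [Y.swap _ _ K, Y.swap _ _ K', Y.swap _ _ K'', one_smul, one_smul, one_smul, key,
    Es_add0 h K.1 K'.1 hf, mul_assoc, mul_assoc, ← mul_assoc (Es P φ b v),
    (cy h Y K' (fs h b) K.1 H'.1 (PForm.f_symm_zero hf) 0).eq, mul_assoc]

variable (S : Sh P φ 1 c0 y)
include S

theorem com (H : I2 P v b) (H' : I2 P v' b) : Commute (y v b) (y v' b) := by
  by_cases hf : P.f v v' = 0
  · exact Y.com _ _ _ _ H H' hf H.1 (i2_symm H').1 (fs h b)
  have K := i2_smul H' (inv_ne_zero hf)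
  have := S.ss v ((P.f v v')⁻¹ • v') b ⟨by rw [fr h, inv_mul_cancel₀ hf], i2_ne H, H.1, K.1⟩
    ⟨0, 1⟩ ⟨0, P.f v v'⟩
  rwa [YA_im, YA_im, sgm h, one_smul, ← Y.smul _ _ K _ hf, smul_inv_smul₀ hf, mul_zero, H29.SpK.tv_zero,
    commutatorElement_eq_one_iff_commute] at this

theorem cm (hf : P.f v v' ≠ 0) (H : I2 P e b) (H' : I2 P v' b) (h1 : P.f v e = 0)
    (h2 : P.f v' e = 0) (h3 : P.f v b = 0) :
    y v e * y v' b = Es P φ b ((c0 * P.f v v') • e) * (y v' b * y v e) := by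
  have K := i2_smul H' (inv_ne_zero hf)
  have := S.sp v ((P.f v v')⁻¹ • v') e b ⟨by rw [fr h, inv_mul_cancel₀ hf], H, h1,
    by rw [P.f_smul_left, h2, mul_zero], h3, K.1⟩ ⟨0, 1⟩ ⟨0, P.f v v'⟩
  rw [YA_im, YA_im, sgm h, one_smul, ← Y.smul _ _ K _ hf, smul_inv_smul₀ hf, YA, zero_smul,
    Y.zero, mul_one, ← Es_smul h, Es_symm h] at this
  rw [← this, commutatorElement_def]
  group

variable [FiniteDimensional F V]

theorem core1 (g2 : G2 P φ) (nf : NF P φ L) (hT : Tc L t) (H : I2 P v b) (H' : I2 P v' b)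
    (H'' : I2 P (v + v') b) : ∃ ν, y (v + v') b = y v b * y v' b * tv P φ b ν := by
  have hb := i2_ne H
  have tL : ∀ w ν, Commute (ET P φ b w ν) t := fun w ν => hT.tc _ (ET_mem h b w ν)
  have cy' : ∀ u, I2 P u b → Commute (y (v + v') b * y v b * y v' b) (y u b) := fun u K =>
    ((com h Y S H'' K).mul_left (com h Y S H K)).mul_left (com h Y S H' K)
  have sq : y (v + v') b * y v b * y v' b * (y (v + v') b * y v b * y v' b) = 1 := by
    rw [← sq, ((com h Y S H'' H').mul_left (com h Y S H H')).mul_pow, (com h Y S H'' H).mul_pow,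
      sq, sq, sq, Y.sq _ _ H, Y.sq _ _ H', Y.sq _ _ H'', one_mul, one_mul]
  have ct : Commute (y (v + v') b * y v b * y v' b) t := by
    rw [Commute, SemiconjBy, mul_assoc, yt h Y hT H', mul_assoc, ← mul_assoc (y v b), yt h Y hT H,
      mul_assoc, ← mul_assoc (y (v + v') b), yt h Y hT H'', mul_assoc t, mul_assoc (ET P φ b v 0),
      ← mul_assoc (y v b), yq h Y H (i2_symm H').1, mul_assoc (ET P φ b v' _),
      ← mul_assoc (ET P φ b v 0), ET_mul h (i2_symm H).1 (i2_symm H').1, mul_assoc (ET P φ b _ 0),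
      ← mul_assoc (y (v + v') b), yq h Y H'' (i2_symm H'').1, fs h, add_zero, zero_add, zero_add,
      fadd_self h, mul_assoc, ← mul_assoc (ET P φ b _ 0), ET_sq h, one_mul, mul_assoc]
  have cq : y (v + v') b * y v b * y v' b ∈ C[QW P φ {b}] := fun g hg => by
    obtain ⟨w, ν, hw, rfl⟩ := (g2.crdQ b g).1 hg
    have hw := PForm.f_symm_zero hw
    simp only [mul_assoc]
    rw [yq h Y H' hw, ← mul_assoc (y v b) (ET P φ b w _), yq h Y H hw, mul_assoc (ET P φ b w _),
      ← mul_assoc (y (v + v') b) (ET P φ b w _), yq h Y H'' hw, P.f_add_left, add_assoc ν,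
      add_comm (P.f v' w), add_assoc ν, fadd_self h, add_zero, mul_assoc]
  obtain ⟨s, hs, κ, hκ, e⟩ := nf.cQ1 b hb _ ⟨hT.cN (mem_centralizer_singleton_iff.2 ct), cq⟩
  obtain ⟨w, ν, hw, rfl⟩ := (g2.crdQ b s).1 hs
  have hw' := PForm.f_symm_zero hw
  have sκ : Commute (ET P φ b w ν) κ := hκ _ (ET_mem h b w ν)
  have κ2 : κ * κ = 1 := by
    rwa [e, ← pow_two, sκ.mul_pow, pow_two, pow_two, ET_sq h, one_mul] at sq
  have κt : Commute κ t := by
    have := (tL w ν).mul_left ct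
    rwa [e, ← mul_assoc, ET_sq h, one_mul] at this
  rcases hT.one κ hκ κt κ2 with rfl | rfl
  · rw [mul_one] at e
    obtain ⟨r, rfl⟩ : ∃ r : F, r • b = w := by
      by_contra hn
      obtain ⟨u, hu, h1⟩ := P.exists_perp_f_left (W := F ∙ b)
        (fun H => hn (Submodule.mem_span_singleton.1 H)) 1
      have K : I2 P u b := i2_of hb (PForm.mem_perp_span_singleton.1 hu) fun H => by
        obtain ⟨a, rfl⟩ := Submodule.mem_span_singleton.1 H
        rw [P.f_smul_left, hw', mul_zero] at h1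
        exact zero_ne_one h1
      have h2 := qy h Y K hw' ν
      rw [← e, (cy' u K).eq, mul_inv_cancel_right, h1, left_eq_mul, tv_eq_one h hb] at h2
      exact one_ne_zero h2
    refine ⟨ν, ?_⟩
    rw [← ET_self h b r, ← e, ← mul_assoc (y v b * y v' b), ← mul_assoc (y v b * y v' b),
      ← ((com h Y S H'' H).mul_right (com h Y S H'' H')).eq, mul_assoc (y (v + v') b),
      mul_assoc (y (v + v') b), mul_assoc (y v b * y v' b), ← pow_two, (com h Y S H H').mul_pow,
      pow_two, pow_two, Y.sq _ _ H, Y.sq _ _ H', one_mul, mul_one]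
  · exfalso
    have h1 := (cy' v H).eq
    have h2 := yt h Y hT H
    rw [e, ← mul_assoc, yq h Y H hw', mul_assoc (ET P φ b w (ν + _)), h2, ← mul_assoc,
      ← mul_assoc, mul_left_inj, mul_assoc, ← (tL v 0).eq, ← mul_assoc, mul_left_inj,
      ← mul_inv_eq_one, mul_inv_rev, ET_inv h, ET_inv h, ← mul_assoc,
      ET_mul h hw' (i2_symm H).1, ET_mul h (by rw [P.f_add_right, hw', (i2_symm H).1, add_zero])
        hw', add_right_comm, vadd_self h, zero_add] at h1
    obtain ⟨-, r, hr⟩ := ET_eq_one h hb (i2_symm H).1 h1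
    exact one_ne_zero (i2_co H (a := 1) (c := -r) (by rw [hr]; module)).1

theorem core (hk : 3 ≤ k) (g2 : G2 P φ) (nf : NF P φ L) (hT : Tc L t) (H : I2 P v b)
    (H' : I2 P v' b) (H'' : I2 P (v + v') b) :
    y (v + v') b = y v b * y v' b * tv P φ b (c0 * P.f v v') := by
  by_cases hf : P.f v v' = 0
  · rw [hf, mul_zero, H29.SpK.tv_zero, mul_one, orth h Y H H' H'' hf]
  obtain ⟨e, he, he'⟩ : ∃ e ∈ P.perp (Submodule.span F (Set.range ![v, v', b])), e ∉ F ∙ b := by
    by_contra hn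
    push Not at hn
    have h1 := Submodule.finrank_mono (show _ ≤ F ∙ b from hn)
    have h2 := P.finrank_perp (Submodule.span F (Set.range ![v, v', b]))
    have h3 : finrank F (Submodule.span F (Set.range ![v, v', b])) ≤ 3 :=
      (finrank_range_le_card _).trans_eq (Fintype.card_fin 3)
    rw [finrank_span_singleton (i2_ne H)] at h1
    have := h.dim
    omega
  rw [PForm.mem_perp_span] at he
  have e1 := he v ⟨0, rfl⟩
  have e2 := he v' ⟨1, rfl⟩
  have K := i2_of (i2_ne H) (he b ⟨2, rfl⟩) he'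
  have K' := i2_symm K
  have e1' := PForm.f_symm_zero e1
  have e2' := PForm.f_symm_zero e2
  obtain ⟨a1, a2, a3⟩ := ind3 h hf (i2_symm H').1 e2 K' H.1 e1'
  obtain ⟨b1, b2, b3⟩ := ind3 h (PForm.f_symm_ne hf) (i2_symm H).1 e1 K' H'.1 e2'
  obtain ⟨c1, c2, c3⟩ := ind3 h (v := v + v') (by rwa [P.f_add_left, fs h, add_zero])
    (i2_symm H').1 e2 K' H''.1 (by rw [P.f_add_left, e1', e2', add_zero])
  obtain ⟨ν, h1⟩ := core1 h Y S g2 nf hT H H' H''
  obtain ⟨ν', h2⟩ := core1 h Y S g2 nf hT a2 b2 c2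
  obtain ⟨ν'', h3⟩ := core1 h Y S g2 nf hT a3 b3 c3
  rw [Y.add _ _ _ a1, Y.add _ _ _ b1, Y.add _ _ _ c1, h1, h2, tv_add_vec h K'.1] at h3
  have z : ∀ (c : F) {u : V}, P.f u e = 0 → P.f u (c • e) = 0 := fun c _ hu => by
    rw [fr h, hu, mul_zero]
  have hE := @z (c0 * P.f v v')
  have h4 : tv P φ b ν * tv P φ e ν' = Es P φ b ((c0 * P.f v v') • e) *
      (tv P φ b ν'' * tv P φ e ν'' * Es P φ b (ν'' • e)) := by
    rw [mul_assoc (y v b) (y v e), ← mul_assoc (y v e) (y v' b), cm h Y S hf K H' e1' e2' H.1,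
      (((cy h Y H' H'.1 (hE e2') (fs h b) (hE K'.1) 0).mul_right
        (cy h Y a2 H.1 (hE e1') K.1 (hE (fs h e)) 0))).eq, mul_assoc (y v' b * y v e),
      (cy h Y b2 H'.1 (hE e2') K.1 (hE (fs h e)) 0).eq, mul_assoc (y v b * y v' b),
      ← mul_assoc (tv P φ b ν),
      ((cyt h Y a2 H.1 K.1 ν).mul_right (cyt h Y b2 H'.1 K.1 ν)).eq] at h3
    simpa only [mul_assoc, mul_right_inj] using h3
  have c4 : ∀ c a, Commute (tv P φ b a * tv P φ e a) (Es P φ b (c • e)) := fun c a =>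
    (comm_same h b 0 _ a 0).mul_left (comm_tv_ET h K.1 (z c (fs h e)) a 0)
  have c5 := comm_tv_tv h K'.1
  obtain ⟨h5, -, h6⟩ := g2.uni2 b e K' (ν + ν'') (ν' + ν'') (c0 * P.f v v' + ν'') (by
    rw [tv_add h, tv_add h, (c5 ν'' ν').mul_mul_mul_comm, h4, ← mul_assoc (Es P φ b _),
      ← (c4 _ _).eq, mul_assoc (tv P φ b ν'' * _), ← Es_adds h K'.1, (c4 _ _).eq,
      mul_assoc (Es P φ b _), ← pow_two, (c5 _ _).mul_pow, pow_two, pow_two, tv_sq h, tv_sq h,
      one_mul, mul_one, Es_sq h])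
  rw [h1, show ν = c0 * P.f v v' by linear_combination h5 - h6]

theorem addU (hk : 3 ≤ k) (g2 : G2 P φ) (nf : NF P φ L) (hT : Tc L t) : AddU P φ c0 y := by
  rintro v v' b H H' H'' ⟨x, z⟩
  have s : ∀ (c : F) {u : V}, I2 P u b → P.f b (c • u) = 0 := fun c _ K => by
    rw [fr h, (i2_symm K).1, mul_zero]
  have e : ∀ u, Es P φ u (x • b) = ET P φ b (x • u) 0 := fun u => by
    rw [← Es_smul h, Es_symm h]
  simp only [YA, e, QuadraticAlgebra.norm_def]
  by_cases hz : z = 0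
  · subst hz
    simp only [zero_smul, Y.zero, mul_one]
    rw [tv, ET_mul h (s x H) (s x H'), ← smul_add, ET_mul h (s x H'') (P.f_zero_right b), add_zero,
      P.f_zero_right, P.f_smul_left, fr h]
    congr 1
    linear_combination (-(x * x * P.f v v')) * h.two
  have K := i2_smul H hz
  have K' := i2_smul H' hz
  have K'' := i2_smul H'' hz
  rw [← Y.smul _ _ H _ hz, ← Y.smul _ _ H' _ hz, ← Y.smul _ _ H'' _ hz, smul_add z,
    core h Y S hk g2 nf hT K K' (smul_add z v v' ▸ K''), mul_assoc (ET P φ b (x • v) 0),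
    ← mul_assoc (y (z • v) b), yq h Y K (s x H'), mul_assoc (ET P φ b (x • v') _),
    ← mul_assoc (ET P φ b (x • v) 0), ET_mul h (s x H) (s x H'), ← smul_add,
    ET_split' h (s x H'') (_ + _), mul_assoc (Es P φ b _), mul_assoc (Es P φ b _),
    ((cyt h Y K K.1 (fs h b) _).mul_right (cyt h Y K' K'.1 (fs h b) _)).eq,
    mul_assoc (y (z • v) b * _), ← tv_add h]
  congr 3
  simp only [P.f_smul_left, fr h]
  linear_combination (c0 * z * z * P.f v v' - x * x * P.f v v' - x * z * P.f v v') * h.two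

omit h Y S [FiniteDimensional F V] in
theorem h6 : H6Stmt.{u, v} := fun _ _ _ _ _ c _ _ _ Y S =>
  addU c.toSG Y S c.k3 c.g2 c.nf c.tc

end Cfsg.Agent.H32.SpH6
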