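import Cfsg.Agent.H97.U5Defs

/-! U5F-W3: a group permuting the isotropic points of `W` contains the reflection and the torus. -/

set_option autoImplicit false

namespace Cfsg.Agent.H32.U5W

open Cfsg.Agent.H97.U5

universe u

variable {K : Type u} [Field K] {T : Hm K}

theorem nW_mul : nW K * nW K = 1 := Equiv.ext fun x => by simp [nW_apply]

theorem fin {Γ : Subgroup (Equiv.Perm (W K))} (hA : AW T ≤ Γ)
    (h : ∀ a b, b + T.σ b + a * T.σ a = 0 → nW K * uW T a b * nW K ∈ Γ) :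
    nW K ∈ Γ ∧ ∀ l, hW T l ∈ Γ := by
  have key : ∀ l : Kˣ, nW K * hW T l ∈ Γ := fun l => by
    obtain ⟨a, ha⟩ := T.exists_nrm l
    have l0 := l.ne_zero
    have l1 := T.σ_ne_zero l0
    have e : uW T (a / T.σ l) (1 / T.σ l) * (nW K * uW T a l * nW K) =
        nW K * hW T l * uW T (-a / l) (1 / l) := Equiv.ext fun x => by
      simp only [Equiv.Perm.mul_apply, uW_apply, nW_apply, hW_apply, map_div₀, map_neg, map_one, T.inv]
      ext <;> simp only <;> field_simp
      · ring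
      · linear_combination x.2.1 * ha
      · linear_combination x.2.2 * ha
    have m1 : uW T (a / T.σ l) (1 / T.σ l) ∈ Γ := hA ⟨_, _, by
      simp only [map_div₀, map_one, T.inv]; field_simp; linear_combination ha, rfl⟩
    have m2 : uW T (-a / l) (1 / l) ∈ Γ := hA ⟨_, _, by
      simp only [map_div₀, map_one, map_neg]; field_simp; linear_combination ha, rfl⟩
    exact (Γ.mul_mem_cancel_right m2).1 (e ▸ mul_mem m1 (h a l ha))
  have n : nW K ∈ Γ := by
    have := key 1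
    rwa [show hW T 1 = 1 from Equiv.ext fun x => by simp [hW_apply], mul_one] at this
  exact ⟨n, fun l => (Γ.mul_mem_cancel_left n).1 (key l)⟩

variable [Finite K]

/-- U5F-W3 -/
theorem w3 : W3Stmt T := by
  intro Γ hA add perp H ⟨g0, hg0, x0, hx0⟩
  obtain ⟨g, hg, p1, p2, q1, q2⟩ : ∃ g ∈ Γ, (∀ x, ∃ y, g (0, 0, x) = (y, 0, 0)) ∧
      (∀ y, ∃ x, g (0, 0, x) = (y, 0, 0)) ∧ (∀ y, ∃ x, g (y, 0, 0) = (0, 0, x)) ∧
      ∀ x, ∃ y, g (y, 0, 0) = (0, 0, x) := by
    obtain ⟨u, hu, e⟩ := (H g0 hg0).resolve_left fun k => by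
      obtain ⟨y, hy⟩ := k x0
      exact hx0 (by rw [hy])
    have a1 : ∀ x, ∃ y, (u⁻¹ * g0) (0, 0, x) = (y, 0, 0) := fun x => by
      obtain ⟨y, hy⟩ := (e _).1 ⟨x, rfl⟩
      exact ⟨y, by simp [hy]⟩
    have a2 : ∀ y, ∃ x, (u⁻¹ * g0) (0, 0, x) = (y, 0, 0) := fun y => by
      obtain ⟨x, hx⟩ := (e _).2 ⟨y, rfl⟩
      exact ⟨x, by simp [← hx]⟩
    have m := mul_mem (inv_mem (hA hu)) hg0
    generalize u⁻¹ * g0 = g1 at a1 a2 m
    obtain ⟨v, hv, e'⟩ := (H _ (inv_mem m)).resolve_left fun k => by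
      obtain ⟨y, hy⟩ := k 1
      obtain ⟨z, hz⟩ := a1 y
      rw [← hy] at hz
      simp at hz
    have fx : ∀ x, v (0, 0, x) = (0, 0, x) := fun x => (fix_AW T).2 ⟨rfl, rfl⟩ v hv
    refine ⟨g1 * v, mul_mem m (hA hv), fun x => by simpa [fx] using a1 x,
      fun y => by simpa [fx] using a2 y, fun y => ?_, fun x => ?_⟩
    · obtain ⟨x, hx⟩ := (e' _).2 ⟨y, rfl⟩
      exact ⟨x, by simp [hx]⟩
    · obtain ⟨y, hy⟩ := (e' _).1 ⟨x, rfl⟩
      exact ⟨y, by simp [← hy]⟩
  choose g1 e1 using p1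
  choose g2 e2 using q1
  obtain ⟨g0, e0⟩ : ∃ g0 : K → K, ∀ b, g (0, b, 0) = (0, g0 b, 0) :=
    ⟨fun b => (g (0, b, 0)).2.1, fun b => Prod.ext ((perp_P (T := T)).1 fun x => by
      obtain ⟨y, hy⟩ := q2 x
      have := perp g hg (0, b, 0) (y, 0, 0) (by simp [Perp, hm])
      rwa [hy] at this) (Prod.ext rfl (T.σ_eq_zero.1
        (T.eq_zero_of_skew fun y => by
          obtain ⟨x, hx⟩ := p2 y
          have := perp g hg (0, b, 0) (0, 0, x) (by simp [Perp, hm])
          rw [hx] at this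
          simp only [Perp, hm, map_zero] at this
          rw [T.inv]; linear_combination -this)))⟩
  have eg : ∀ c b a, g (c, b, a) = (g1 a, g0 b, g2 c) := fun c b a => by
    rw [show ((c, b, a) : W K) = (c, 0, 0) + (0, b, 0) + (0, 0, a) by simp, add g hg, add g hg,
      e0, e1, e2]
    simp
  have z : g 0 = 0 := by simpa using add g hg 0 0
  have nz : ∀ w, w ≠ 0 → g w ≠ 0 := fun w h e => h (g.injective (e.trans z.symm))
  have n0 : g0 1 ≠ 0 := fun e => nz (0, 1, 0) (by simp) (by rw [e0, e]; rfl)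
  have n1 : g1 1 ≠ 0 := fun e => nz (0, 0, 1) (by simp) (by rw [e1, e]; rfl)
  have n2 : g2 1 ≠ 0 := fun e => nz (1, 0, 0) (by simp) (by rw [e2, e]; rfl)
  have line : ∀ a b, b + T.σ b + a * T.σ a = 0 → (∀ y, g0 (-a * y) * g2 1 = g0 (-a) * g2 y ∧
      g1 (T.σ b * y) * g2 1 = g1 (T.σ b) * g2 y) ∧
      g0 (-a) * T.σ (g0 (-a)) + g1 (T.σ b) * T.σ (g2 1) + g2 1 * T.σ (g1 (T.σ b)) = 0 := by
    intro a b h
    have ev : ∀ y, ∃ x, (g * uW T a b * g) (0, 0, x) = (g1 (T.σ b * y), g0 (-a * y), g2 y) := fun y => by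
      obtain ⟨x, hx⟩ := p2 y
      exact ⟨x, by simp [hx, uW_apply, eg]⟩
    rcases H _ (mul_mem (mul_mem hg (hA ⟨a, b, h, rfl⟩)) hg) with k | ⟨_, ⟨c, d, hd, rfl⟩, k⟩
    · have k' : ∀ y, g1 (T.σ b * y) = 0 ∧ g0 (-a * y) = 0 := fun y => by
        obtain ⟨x, hx⟩ := ev y
        obtain ⟨t, ht⟩ := k x
        rw [hx] at ht
        exact ⟨congrArg (·.1) ht, congrArg (·.2.1) ht⟩
      have k1 := k' 1
      rw [mul_one, mul_one] at k1
      exact ⟨fun y => by simp only [k' y, k1, zero_mul, and_self], by simp [k1]⟩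
    · have k' : ∀ y, ∃ t, g1 (T.σ b * y) = t ∧ g0 (-a * y) = -c * t ∧ g2 y = T.σ d * t := fun y => by
        obtain ⟨x, hx⟩ := ev y
        obtain ⟨t, ht⟩ := (k _).1 ⟨x, hx.symm⟩
        exact ⟨t, by simpa [uW_apply] using ht⟩
      obtain ⟨s, k1, k2, k3⟩ := k' 1
      rw [mul_one] at k1 k2
      refine ⟨fun y => ?_, ?_⟩
      · obtain ⟨t, j1, j2, j3⟩ := k' y
        rw [j1, j2, j3, k1, k2, k3]
        constructor <;> ring
      · rw [k1, k2, k3]
        simp only [map_mul, map_neg, T.inv]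
        linear_combination s * T.σ s * hd
  have l0 : ∀ a y, g0 (a * y) * g2 1 = g0 a * g2 y := fun a y => by
    obtain ⟨b, hb⟩ := T.exists_tr (c := -(a * T.σ a)) (by simp [mul_comm])
    simpa using ((line (-a) b (by rw [hb]; simp)).1 y).1
  let ψ : K →+* K :=
    { toFun := fun y => g2 y / g2 1
      map_one' := div_self n2
      map_zero' := by rw [show g2 0 = 0 from congrArg (·.2.2) ((e2 0).symm.trans z), zero_div]
      map_add' := fun x y => by
        have := add g hg (x, 0, 0) (y, 0, 0)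
        rw [show ((x, 0, 0) + (y, 0, 0) : W K) = (x + y, 0, 0) by simp, e2, e2, e2] at this
        rw [show g2 (x + y) = g2 x + g2 y from congrArg (·.2.2) this, add_div]
      map_mul' := fun x y => by
        have h1 := l0 1 (x * y)
        have h2 := l0 1 x
        have h3 := l0 x y
        rw [one_mul] at h1 h2
        field_simp
        refine mul_left_cancel₀ n0 ?_
        linear_combination -g2 1 * h1 + g2 y * h2 + g2 1 * h3 }
  obtain ⟨φ, f2⟩ : ∃ φ : RingAut K, ∀ y, g2 y = g2 1 * φ y :=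
    ⟨RingEquiv.ofBijective ψ (Finite.injective_iff_bijective.1 ψ.injective),
      fun y => (mul_div_cancel₀ _ n2).symm⟩
  clear ψ
  have f0 : ∀ y, g0 y = g0 1 * φ y := fun y => by
    have := l0 1 y
    rw [one_mul, f2 y] at this
    exact mul_right_cancel₀ n2 (by linear_combination this)
  have f1 : ∀ y, g1 y = g1 1 * φ y := fun y => by
    obtain ⟨a, ha⟩ := T.exists_nrm 1
    have := ((line a 1 ha).1 y).2
    rw [map_one, one_mul, f2 y] at this
    exact mul_right_cancel₀ n2 (by linear_combination this)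
  obtain ⟨c0, hc0⟩ : ∃ c, g0 1 = c := ⟨_, rfl⟩
  obtain ⟨c1, hc1⟩ : ∃ c, g1 1 = c := ⟨_, rfl⟩
  obtain ⟨c2, hc2⟩ : ∃ c, g2 1 = c := ⟨_, rfl⟩
  rw [hc0] at n0 f0
  rw [hc1] at n1 f1
  rw [hc2] at n2 f2 line
  have iso : ∀ w, (c1 * T.σ c2 - c0 * T.σ c0) * T.σ w + (c2 * T.σ c1 - c0 * T.σ c0) * w = 0 :=
    fun w => by
      obtain ⟨b, rfl⟩ := φ.surjective w
      obtain ⟨a, ha⟩ := T.exists_nrm b
      have h1 := (line a b ha).2
      have h2 := congrArg φ ha
      rw [f0, f1] at h1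
      simp only [map_add, map_mul, map_neg, map_zero, T.com, T.inv] at h1 h2
      linear_combination h1 - c0 * T.σ c0 * h2
  have r : c1 * T.σ c2 = c0 * T.σ c0 := by
    have h1 := iso 1
    have h2 := iso T.om
    rw [map_one] at h1
    refine sub_eq_zero.1 ((mul_eq_zero.1 ?_).resolve_right (sub_ne_zero.2 T.om_ne))
    linear_combination h2 - T.om * h1
  have r' : c2 * T.σ c1 = c0 * T.σ c0 := by
    have := congrArg T.σ r
    simp only [map_mul, T.inv] at this
    linear_combination this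
  have s0 := T.σ_ne_zero n0
  have s1 := T.σ_ne_zero n1
  refine fin hA fun a' b' h => ?_
  obtain ⟨a, ha⟩ := φ.surjective (-a' * c2 / c0)
  obtain ⟨b, hb⟩ := φ.surjective (b' * T.σ c2 / T.σ c1)
  have m : uW T a b ∈ Γ := hA ⟨a, b, φ.injective (by
    simp only [map_add, map_mul, map_zero, T.com, ha, hb, map_div₀, map_neg, T.inv]
    field_simp
    linear_combination (c1 * T.σ c1 * c2 * T.σ c2) * h - (b' * c1 * T.σ c2) * r' -
      (T.σ b' * T.σ c1 * c2) * r), rfl⟩
  have e : nW K * uW T a' b' * nW K * g = g * uW T a b := Equiv.ext fun ⟨x, y, z⟩ => by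
    simp only [Equiv.Perm.mul_apply, uW_apply, nW_apply, eg, f0, f1, f2, map_add, map_sub, map_mul,
      T.com, ha, hb, map_div₀, map_neg, T.inv]
    ext <;> simp only <;> field_simp
    · linear_combination (T.σ a' * φ y) * r
    · ring
  exact (Γ.mul_mem_cancel_right hg).1 (e ▸ mul_mem hg m)

end Cfsg.Agent.H32.U5W
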