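import Cfsg.Agent.H32.X3Ex

/-! Exceptional groups of Lie type with a noncommutative Sylow subgroup of order `p ^ 3`: the families. -/

set_option autoImplicit false

namespace Cfsg.Agent.H32.X3

open Cfsg Cfsg.Lie Cfsg.Agent.H73.GK Cfsg.Agent.H34 Cfsg.Agent.H40

variable {p : ℕ}

theorem nt_char (hp : p.Prime) {g N q k R : ℕ} (h : g * N = q ^ k * R) (hq : p ∣ q) (hk : 4 ≤ k) (hg : ¬ p ∣ g) :
    N.factorization p ≠ 3 :=
  ne_three hp (dvd_of_cop hp hg (h ▸ ((pow_dvd_pow_of_dvd hq 4).trans (pow_dvd_pow _ hk)).mul_right R))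

theorem not_dvd_pred (hp : p.Prime) {q : ℕ} (h1 : 1 ≤ q) (hq : p ∣ q) : ¬ p ∣ q - 1 := fun h =>
  hp.one_lt.ne' (Nat.dvd_one.1 (by simpa [Nat.sub_sub_self h1] using Nat.dvd_sub hq h))

theorem icast_ne_zero {q : ℕ} (h : ¬ p ∣ q) : ((q : ℤ) : ZMod p) ≠ 0 := by simpa using cast_ne_zero h

theorem odd_of_not_dvd {q : ℕ} (h : ¬ 2 ∣ q) : Odd (q : ℤ) := by
  exact_mod_cast Nat.not_even_iff_odd.1 fun e => h (even_iff_two_dvd.1 e)

theorem cube_dvd {Q : ℤ} (h : 9 ∣ T Q 2) : 3 ^ 4 ∣ LP Q [2, 6] :=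
  (show 3 ^ 4 ∣ 9 * (3 ^ 2 * 1) by decide).trans
    (mul_dvd_mul h (mul_dvd_mul (sq_dvd_T ((show 3 ∣ 9 by decide).trans h)) dvd_rfl))

variable {G : Type*} [Group G] [Fact p.Prime]

theorem x3_G2 (h : IsoChevG2 G) (hx : X3 G p) : X3Concl G p := by
  obtain ⟨F, _, _, h3, ⟨e⟩⟩ := h
  have hp : p.Prime := Fact.out
  obtain ⟨h1, h2⟩ := hx.congr e
  have hc : 1 * Nat.card (chevG2.group F) = Fintype.card F ^ 6 * LP (Fintype.card F) [2, 6] := by
    rw [one_mul, S1059.result rfl]; simp [LP, T_nat Fintype.card_pos, mul_assoc]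
  by_cases hq : p ∣ Fintype.card F
  · exact absurd h2 (nt_char hp hc hq (by decide) hp.not_dvd_one)
  have hW : p ∣ ([2, 6] : List ℕ).prod := by_contra fun h => h1 (sylAb_chev (chevG2, _) (by simp) hq h)
  rcases prime_cases hp hW (by decide) with rfl | rfl | rfl | rfl
  · exact absurd h2 (nt_cop hp hc (by decide) (List.Sublist.refl _)
      (dvd_trans (by decide) (two_LP (odd_of_not_dvd hq) (by decide) (by decide))))
  · have h9 : ¬ 9 ∣ T (Fintype.card F) 2 := fun h => nt_cop hp hc (by decide) (List.Sublist.refl _) (cube_dvd h) h2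
    obtain ⟨r, hr⟩ := CharP.exists F
    obtain ⟨a, hrp, ha⟩ := FiniteField.card F r
    have hr3 : ¬ 3 ∣ r := fun h => hq (ha ▸ dvd_pow h a.2.ne')
    refine Or.inr (Or.inr (Or.inl ⟨rfl, Or.inr ⟨F, _, _, r, a, hrp, ?_, a.2, ?_, ?_, ha, ⟨e⟩⟩⟩))
    · by_contra hn
      refine h9 (dvd_T.2 ?_)
      have h4 : (r : ZMod 9) ^ 2 = 1 := by
        rw [← ZMod.natCast_mod r 9]
        have : r % 9 = 1 ∨ r % 9 = 8 := by omega
        rcases this with h | h <;> rw [h] <;> decide
      rw [ha]; push_cast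
      rw [← pow_mul, mul_comm, pow_mul, h4, one_pow]
    · rintro ⟨b, hb⟩
      refine h9 ?_
      have h4 := sq_dvd_T (dvd_T.2 (sq_three (icast_ne_zero (q := r ^ b) fun h => hr3 (hp.dvd_of_dvd_pow h))))
      rw [ha, hb]
      simpa [T, ← pow_mul, show b * 6 = 3 * b * 2 by ring] using h4
    · rintro rfl
      by_contra h
      have : (a : ℕ) = 1 := le_antisymm (not_lt.1 h) a.2
      rw [ha, this] at h3
      omega
  · exact absurd hW (by decide)
  · exact absurd hW (by decide)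

theorem x3_F4 (h : IsoF4 G) (hx : X3 G p) : False := by
  obtain ⟨F, _, _, ⟨e⟩⟩ := h
  have hp : p.Prime := Fact.out
  obtain ⟨h1, h2⟩ := hx.congr e
  have hc : 1 * Nat.card (chevF4.group F) = Fintype.card F ^ 24 * LP (Fintype.card F) [2, 6, 8, 12] := by
    rw [one_mul, S1062.result rfl]; simp [LP, T_nat Fintype.card_pos, mul_assoc]
  by_cases hq : p ∣ Fintype.card F
  · exact nt_char hp hc hq (by decide) hp.not_dvd_one h2
  have hW : p ∣ ([2, 6, 8, 12] : List ℕ).prod := by_contra fun h => h1 (sylAb_chev (chevF4, _) (by simp) hq h)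
  rcases prime_cases hp hW (by decide) with rfl | rfl | rfl | rfl
  · exact nt_cop hp hc (by decide) (L' := [2, 6]) (by decide)
      (dvd_trans (by decide) (two_LP (odd_of_not_dvd hq) (by decide) (by decide))) h2
  · exact nt_cop hp hc (by decide) (L' := [6, 12]) (by decide)
      (four_LP' (sq_three (icast_ne_zero hq)) (by decide) (by decide)) h2
  · exact absurd hW (by decide)
  · exact absurd hW (by decide)

theorem x3_E6 (h : IsoChevE6 G) (hx : X3 G p) : False := by
  obtain ⟨F, _, _, ⟨e⟩⟩ := h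
  have hp : p.Prime := Fact.out
  obtain ⟨h1, h2⟩ := hx.congr e
  have hc : Nat.gcd 3 (Fintype.card F - 1) * Nat.card (chevE6.group F) =
      Fintype.card F ^ 36 * LP (Fintype.card F) [2, 5, 6, 8, 9, 12] := by
    rw [S1063.result rfl]; simp [LP, T_nat Fintype.card_pos, mul_assoc]
  by_cases hq : p ∣ Fintype.card F
  · exact nt_char hp hc hq (by decide)
      (fun h => not_dvd_pred hp Fintype.card_pos hq (h.trans (Nat.gcd_dvd_right _ _))) h2
  have hW : p ∣ ([2, 5, 6, 8, 9, 12] : List ℕ).prod := by_contra fun h => h1 (sylAb_chev (chevE6, _) (by simp) hq h)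
  refine arith_E6 hp hc (Nat.gcd_dvd_left _ _) (fun h => hq (hp.dvd_of_dvd_pow h)) (icast_ne_zero hq) ?_ h2
  rcases prime_cases hp hW (by decide) with rfl | rfl | rfl | rfl
  exacts [by simp, by simp, by simp, absurd hW (by decide)]

theorem x3_E7 (h : IsoE7 G) (hx : X3 G p) : False := by
  obtain ⟨F, _, _, ⟨e⟩⟩ := h
  have hp : p.Prime := Fact.out
  obtain ⟨h1, h2⟩ := hx.congr e
  have hc : Nat.gcd 2 (Fintype.card F - 1) * Nat.card (chevE7.group F) =
      Fintype.card F ^ 63 * LP (Fintype.card F) [2, 6, 8, 10, 12, 14, 18] := by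
    rw [S1064.result rfl]; simp [LP, T_nat Fintype.card_pos, mul_assoc]
  by_cases hq : p ∣ Fintype.card F
  · exact nt_char hp hc hq (by decide)
      (fun h => not_dvd_pred hp Fintype.card_pos hq (h.trans (Nat.gcd_dvd_right _ _))) h2
  have hW : p ∣ ([2, 6, 8, 10, 12, 14, 18] : List ℕ).prod :=
    by_contra fun h => h1 (sylAb_chev (chevE7, _) (by simp) hq h)
  have hg := Nat.gcd_dvd_left 2 (Fintype.card F - 1)
  rcases prime_cases hp hW (by decide) with rfl | rfl | rfl | rfl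
  · exact nt_dvd hp hc (Nat.gcd_ne_zero_left two_ne_zero) (L' := [2, 6]) (by decide)
      ((mul_dvd_mul_right hg _).trans (dvd_trans (by decide) (two_LP (odd_of_not_dvd hq) (by decide) (by decide)))) h2
  · exact nt_cop hp hc (fun h => absurd (h.trans hg) (by decide)) (L' := [6, 12]) (by decide)
      (four_LP' (sq_three (icast_ne_zero hq)) (by decide) (by decide)) h2
  · have hg5 : ¬ 5 ∣ Nat.gcd 2 (Fintype.card F - 1) := fun h => absurd (h.trans hg) (by decide)
    have hQ := pow_five (icast_ne_zero hq)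
    generalize (Fintype.card F : ℤ) = Q at hc hQ
    by_cases h2' : (Q : ZMod 5) ^ 2 = 1
    · exact nt_cop hp hc hg5 (L' := [2, 6, 8, 12]) (by decide)
        (four_LP h2' (by decide) (by decide) (by decide) (by decide)) h2
    · refine nt_five (u := T Q 2 * (T Q 6 * (T Q 10 * (T Q 14 * T Q 18)))) (c := Fintype.card F ^ 63)
        (by rw [hc]; simp only [LP, List.map_cons, List.map_nil, List.prod_cons, List.prod_nil]; ring) hg5
        (fun h => hq (hp.dvd_of_dvd_pow h)) ?_ hQ h2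
      simp only [Nat.Prime.dvd_mul hp, not_or]
      exact ⟨not_five h2' hQ (by decide), not_five h2' hQ (by decide), not_five h2' hQ (by decide),
        not_five h2' hQ (by decide), not_five h2' hQ (by decide)⟩
  · by_cases h7 : (Fintype.card F : ZMod 7) ^ 2 = 1
    · exact nt_cop hp hc (fun h => absurd (h.trans hg) (by decide)) (L' := [2, 6, 8, 12]) (by decide)
        (four_LP (e := 2) (by simpa using h7) (by decide) (by decide) (by decide) (by decide)) h2
    · exact h1 (sylAb_E7_seven hq h7)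

theorem x3_E8 (h : IsoE8 G) (hx : X3 G p) : False := by
  obtain ⟨F, _, _, ⟨e⟩⟩ := h
  have hp : p.Prime := Fact.out
  obtain ⟨h1, h2⟩ := hx.congr e
  have hc : 1 * Nat.card (chevE8.group F) =
      Fintype.card F ^ 120 * LP (Fintype.card F) [2, 8, 12, 14, 18, 20, 24, 30] := by
    rw [one_mul, S1065.result rfl]; simp [LP, T_nat Fintype.card_pos, mul_assoc]
  by_cases hq : p ∣ Fintype.card F
  · exact nt_char hp hc hq (by decide) hp.not_dvd_one h2
  have hW : p ∣ ([2, 8, 12, 14, 18, 20, 24, 30] : List ℕ).prod :=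
    by_contra fun h => h1 (sylAb_chev (chevE8, _) (by simp) hq h)
  rcases prime_cases hp hW (by decide) with rfl | rfl | rfl | rfl
  · exact nt_cop hp hc (by decide) (L' := [2, 8]) (by decide)
      (dvd_trans (by decide) (two_LP (odd_of_not_dvd hq) (by decide) (by decide))) h2
  · exact nt_cop hp hc (by decide) (L' := [12, 18]) (by decide)
      (four_LP' (sq_three (icast_ne_zero hq)) (by decide) (by decide)) h2
  · exact nt_cop hp hc (by decide) (L' := [8, 12, 20, 24]) (by decide)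
      (four_LP (pow_five (icast_ne_zero hq)) (by decide) (by decide) (by decide) (by decide)) h2
  · by_cases h7 : (Fintype.card F : ZMod 7) ^ 2 = 1
    · exact nt_cop hp hc (by decide) (L' := [2, 8, 12, 14]) (by decide)
        (four_LP (e := 2) (by simpa using h7) (by decide) (by decide) (by decide) (by decide)) h2
    · exact h1 (sylAb_E8_seven hq h7)

theorem T_neg_even {q : ℕ} (hq : 1 ≤ q) {i : ℕ} (hi : Even i) : T (-q) i = q ^ i - 1 := by
  rw [← T_nat hq, T, T, hi.neg_pow]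

theorem T_neg_odd (q : ℕ) {i : ℕ} (hi : Odd i) : T (-q) i = q ^ i + 1 := by
  rw [T, hi.neg_pow, show (-(q : ℤ) ^ i - 1) = -((q ^ i + 1 : ℕ) : ℤ) by push_cast; ring,
    Int.natAbs_neg, Int.natAbs_natCast]

theorem sylAb_gen {D : ChevalleyDatum} (C : Cert D) {K : Type*} [Field K] {W : Set (List (ℕ × K))}
    (h : SylAb (D.group K) p) : SylAb (D.genSubgroup K W) p :=
  h.of_inj (Subgroup.inclusion (C.genSubgroup_le W)) (Subgroup.inclusion_injective _)

theorem x3_2E6 (h : Iso2E6 G) (hx : X3 G p) : False := by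
  obtain ⟨K, _, _, q, hqq, hK, ⟨e⟩⟩ := h
  have hp : p.Prime := Fact.out
  obtain ⟨h1, h2⟩ := hx.congr e
  have hc : Nat.gcd 3 (q + 1) * Nat.card (twistedE6 K q) = q ^ 36 * LP (-q) [2, 5, 6, 8, 9, 12] := by
    rw [S1066.result hqq hK]
    simp only [LP, List.map_cons, List.map_nil, List.prod_cons, List.prod_nil, mul_assoc, mul_one]
    rw [T_neg_even hqq.pos (by decide), T_neg_odd q (by decide), T_neg_even hqq.pos (by decide),
      T_neg_even hqq.pos (by decide), T_neg_odd q (by decide), T_neg_even hqq.pos (by decide)]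
  by_cases hq : p ∣ q
  · exact nt_char hp hc hq (by decide)
      (fun h => hp.not_dvd_one ((Nat.dvd_add_right hq).1 (h.trans (Nat.gcd_dvd_right _ _)))) h2
  have hW : p ∣ ([2, 5, 6, 8, 9, 12] : List ℕ).prod := by_contra fun h => h1 (sylAb_gen (cert (D := chevE6) (by simp))
    (sylAb_chev (chevE6, _) (by simp) (fun h => hq (hp.dvd_of_dvd_pow (hK ▸ h))) h))
  refine arith_E6 hp hc (Nat.gcd_dvd_left _ _) (fun h => hq (hp.dvd_of_dvd_pow h))
    (by simpa using cast_ne_zero hq) ?_ h2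
  rcases prime_cases hp hW (by decide) with rfl | rfl | rfl | rfl
  exacts [by simp, by simp, by simp, absurd hW (by decide)]

theorem x3_3D4 (h : Iso3D4 G) (hx : X3 G p) : False := by
  obtain ⟨K, _, _, q, hqq, hK, ⟨e⟩⟩ := h
  have hp : p.Prime := Fact.out
  obtain ⟨h1, h2⟩ := hx.congr e
  have hc : 1 * Nat.card (twistedD4 K q) = q ^ 12 * ((q ^ 8 + q ^ 4 + 1) * LP q [2, 6]) := by
    rw [one_mul, S1067.result hqq hK]
    simp only [LP, List.map_cons, List.map_nil, List.prod_cons, List.prod_nil, T_nat hqq.pos]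
    ring
  by_cases hq : p ∣ q
  · exact nt_char hp hc hq (by decide) hp.not_dvd_one h2
  have hW : p ∣ ([2, 4, 4, 6] : List ℕ).prod := by_contra fun h => h1 (sylAb_gen (cert (D := chevD4) (by simp))
    (sylAb_chev (chevD4, _) (by simp) (fun h => hq (hp.dvd_of_dvd_pow (hK ▸ h))) h))
  rw [← mul_assoc] at hc
  rcases prime_cases hp hW (by decide) with rfl | rfl | rfl | rfl
  · exact nt_cop hp hc (by decide) (List.Sublist.refl _)
      (dvd_trans (by decide) (two_LP (odd_of_not_dvd hq) (by decide) (by decide))) h2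
  · have h3 := sq_three (icast_ne_zero hq)
    have h4 : 3 ∣ q ^ 8 + q ^ 4 + 1 := by
      rw [← ZMod.natCast_eq_zero_iff]
      push_cast at h3 ⊢
      rw [show (q : ZMod 3) ^ 8 + (q : ZMod 3) ^ 4 + 1 = ((q : ZMod 3) ^ 2) ^ 4 + ((q : ZMod 3) ^ 2) ^ 2 + 1 by ring, h3]
      rfl
    refine ne_three hp ?_ h2
    rw [one_mul] at hc
    rw [hc, mul_assoc]
    exact Dvd.dvd.mul_left (mul_dvd_mul h4 (mul_dvd_mul (dvd_T_of h3 dvd_rfl)
      (mul_dvd_mul (sq_dvd_T_of h3 (by decide)) dvd_rfl))) _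
  · exact absurd hW (by decide)
  · exact absurd hW (by decide)

theorem x3_Sz (h : IsoSuzuki G) (hx : X3 G p) : False := by
  obtain ⟨F, _, _, m, hm, hF, ⟨e⟩⟩ := h
  have hp : p.Prime := Fact.out
  obtain ⟨h1, h2⟩ := hx.congr (e.trans (H39.szEquivLieSz hm hF).symm)
  by_cases h : p = 2
  · subst h
    refine ne_three hp ?_ h2
    rw [S0324.result hm hF, ← pow_mul]
    exact ((pow_dvd_pow _ (by omega)).mul_right _).mul_right _
  · obtain ⟨P⟩ : Nonempty (Sylow p (Cfsg.Sz F m)) := inferInstance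
    have := S0331.result hm hF h P
    exact h1 (sylAb_of_sylow P inferInstance)

theorem x3_Ree (h : IsoRee G) (hx : X3 G p) : False := by
  obtain ⟨K, _, _, m, hm, hK, ⟨e⟩⟩ := h
  have hp : p.Prime := Fact.out
  obtain ⟨h1, h2⟩ := hx.congr e
  by_cases h3 : p = 3
  · subst h3
    refine ne_three hp ?_ h2
    rw [S1069.result hK, ← pow_mul]
    exact ((pow_dvd_pow _ (by omega)).mul_right _).mul_right _
  have hq : ¬ p ∣ Fintype.card K := fun h =>
    h3 ((Nat.prime_dvd_prime_iff_eq hp (by decide)).1 (hp.dvd_of_dvd_pow (hK ▸ h)))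
  have hW : p ∣ ([2, 6] : List ℕ).prod := by_contra fun h => h1 (sylAb_gen (cert (D := chevG2) (by simp))
    (sylAb_chev (chevG2, _) (by simp) hq h))
  rcases prime_cases hp hW (by decide) with rfl | rfl | rfl | rfl
  · obtain ⟨S⟩ : Nonempty (Sylow 2 (twistedG2 K (3 ^ m))) := inferInstance
    exact h1 (sylAb_of_sylow S (Subgroup.le_centralizer_iff_isMulCommutative.1 (S1157.result hm hK S).1.ge))
  · exact h3 rfl
  · exact absurd hW (by decide)
  · exact absurd hW (by decide)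

theorem x3_2F4 (h : Iso2F4 G) (hx : X3 G p) : X3Concl G p := by
  obtain ⟨K, _, _, m, hm, hK, ⟨e⟩⟩ := h
  have hp : p.Prime := Fact.out
  obtain ⟨h1, h2⟩ := hx.congr e
  by_cases h3 : p = 2
  · subst h3
    refine absurd h2 (ne_three hp ?_)
    rw [S1068.result hK, ← pow_mul]
    exact ((((pow_dvd_pow _ (by omega)).mul_right _).mul_right _).mul_right _).mul_right _
  have hq : ¬ p ∣ Fintype.card K := fun h =>
    h3 ((Nat.prime_dvd_prime_iff_eq hp (by decide)).1 (hp.dvd_of_dvd_pow (hK ▸ h)))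
  have hW : p ∣ ([2, 6, 8, 12] : List ℕ).prod := by_contra fun h => h1 (sylAb_gen (cert (D := chevF4) (by simp))
    (sylAb_chev (chevF4, _) (by simp) hq h))
  rcases prime_cases hp hW (by decide) with rfl | rfl | rfl | rfl
  · exact absurd rfl h3
  · refine Or.inr (Or.inr (Or.inr (Or.inl ⟨rfl, Or.inr ⟨K, _, _, m, hm, ?_, hK, ⟨e⟩⟩⟩)))
    rintro ⟨b, hb⟩
    refine ne_three hp ?_ h2
    have hb' : Odd b := by
      have : b % 2 = 1 := by omega
      exact Nat.odd_iff.2 this
    have h4 : ((-((2 ^ b : ℕ) : ℤ) : ℤ) : ZMod 3) ^ 1 = 1 := by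
      push_cast
      rw [show (2 : ZMod 3) = -1 from rfl, hb'.neg_one_pow]
      simp
    have h5 : 3 ^ 2 ∣ (2 ^ (2 * m + 1)) ^ 3 + 1 := by
      rw [hb, mul_comm 3 b, pow_mul, ← pow_mul _ 3 3, ← T_neg_odd _ (by decide)]
      exact sq_dvd_T_of h4 (by decide)
    have h6 : 3 ^ 2 ∣ (2 ^ (2 * m + 1)) ^ 4 - 1 := by
      rw [hb, mul_comm 3 b, pow_mul, ← pow_mul _ 3 4, ← T_neg_even (Nat.one_le_two_pow) (by decide)]
      exact sq_dvd_T_of h4 (by decide)
    rw [S1068.result hK, mul_assoc _ _ (_ - 1)]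
    exact ((mul_dvd_mul h5 h6).mul_left _).mul_right _
  · exact absurd hW (by decide)
  · exact absurd hW (by decide)

theorem cube_mem (hp : p.Prime) {N : ℕ} (M : List ℕ)
    (hN : N ∣ ([2, 3, 5, 7, 11, 13, 17, 19, 23, 29, 31, 37, 41, 43, 47, 59, 67, 71] : List ℕ).prod ^ 46)
    (hM : ([2, 3, 5, 7, 11, 13, 17, 19, 23, 29, 31, 37, 41, 43, 47, 59, 67, 71] : List ℕ).filter
      (fun x => decide (x ^ 3 ∣ N) && !decide (x ^ 4 ∣ N)) = M) (h : N.factorization p = 3) : p ∈ M := by
  have hN0 : N ≠ 0 := by rintro rfl; simp at h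
  have h3 : p ^ 3 ∣ N := (hp.pow_dvd_iff_le_factorization hN0).2 h.ge
  have h4 : ¬ p ^ 4 ∣ N := fun e => ne_three hp e h
  obtain ⟨x, hx, hpx⟩ := (Prime.dvd_prod_iff hp.prime).1
    (hp.dvd_of_dvd_pow (((dvd_pow_self p three_ne_zero).trans h3).trans hN))
  have hxp : x.Prime := by
    revert x
    simp only [List.forall_mem_cons, List.not_mem_nil, false_imp_iff, implies_true, and_true]
    norm_num
  obtain rfl := (Nat.prime_dvd_prime_iff_eq hp hxp).1 hpx
  rw [← hM, List.mem_filter]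
  exact ⟨hx, by simp [h3, h4]⟩

theorem x3_Tits (h : IsoTits G) (hx : X3 G p) : X3Concl G p := by
  have h2 := hx.2
  rw [h.elim fun e => (Nat.card_congr e.toEquiv).trans H91.TC.card_T] at h2
  have := cube_mem Fact.out [3] (by decide +kernel) (by decide +kernel) h2
  exact Or.inr (Or.inr (Or.inr (Or.inl ⟨by simpa using this, Or.inl h⟩)))

/-- The exceptional families. -/
theorem x3_ex (h : IsExceptionalLieType G) (hx : X3 G p) : X3Concl G p := by
  rcases h with h | h | h | h | h | h | h | h | h | h | h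
  exacts [x3_G2 h hx, (x3_F4 h hx).elim, (x3_E6 h hx).elim, (x3_E7 h hx).elim, (x3_E8 h hx).elim, (x3_2E6 h hx).elim,
    (x3_3D4 h hx).elim, (x3_Sz h hx).elim, (x3_Ree h hx).elim, x3_2F4 h hx, x3_Tits h hx]

end Cfsg.Agent.H32.X3
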