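import Cfsg.Agent.H32.X3Ex2
import Cfsg.Agent.H74.Mathieu
import Cfsg.Agent.H42.M24
import Cfsg.Agent.H46.J1
import Cfsg.Agent.H70.HJ6
import Cfsg.Agent.H46.J4B
import Cfsg.Agent.H48.Simple
import Cfsg.Agent.H44.SuzM
import Cfsg.Agent.H44.HeM
import Cfsg.Agent.H46.Ru
import Cfsg.Agent.H44.ONM
import Cfsg.Agent.H81.LyO
import Cfsg.Agent.H44.Fi22M
import Cfsg.Agent.H44.Fi23M
import Cfsg.Agent.H44.F24M
import Cfsg.Agent.H68.HNB
import Cfsg.Agent.H90.ThO
import Cfsg.Agent.H97.YtMain
import Cfsg.Agent.H98.AltSimple
import Cfsg.Agent.S0254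

/-! Alternating and sporadic groups with a noncommutative Sylow subgroup of order `p ^ 3`. -/

set_option autoImplicit false

namespace Cfsg.Agent.H32.X3

open Cfsg Cfsg.Agent.H73.GK

variable {p : ℕ} {G : Type*} [Group G] [Fact p.Prime]

theorem x3_alt (h : IsAlternating G) (hx : X3 G p) : X3Concl G p := by
  obtain ⟨n, hn, ⟨e⟩⟩ := h
  have hp : p.Prime := Fact.out
  obtain ⟨h1, h2⟩ := hx.congr e
  have : Nontrivial (Fin n) := Fin.nontrivial_iff_two_le.2 (by omega)
  have hc : 2 * Nat.card (alternatingGroup (Fin n)) = n.factorial := by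
    rw [two_mul_nat_card_alternatingGroup, Nat.card_perm, Nat.card_fin]
  by_cases h5 : n = 5
  · subst h5
    rw [show Nat.card (alternatingGroup (Fin 5)) = 60 by
      rw [show Nat.factorial 5 = 120 from rfl] at hc; omega] at h2
    simpa using cube_mem hp [] (by decide +kernel) (by decide +kernel) h2
  obtain ⟨S⟩ : Nonempty (Sylow p (alternatingGroup (Fin n))) := inferInstance
  have h3 : p ^ 2 ≤ n := by
    by_contra h
    exact h1 (sylAb_of_sylow S ((H98.AltS.alt_comm_iff (by simp; omega) S).2 (by simpa using h)))
  by_cases h2' : p = 2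
  · subst h2'
    by_cases h8 : 8 ≤ n
    · refine absurd h2 (ne_three hp (Nat.dvd_of_mul_dvd_mul_left two_pos ?_))
      rw [hc]
      exact dvd_trans (by decide) (Nat.factorial_dvd_factorial h8)
    obtain rfl | rfl : n = 6 ∨ n = 7 := by omega
    · have : Fact (Nat.Prime 3) := ⟨by decide⟩
      have := Fintype.ofFinite (GaloisField 3 2)
      have h9 : Fintype.card (GaloisField 3 2) = 9 := by
        rw [← Nat.card_eq_fintype_card, GaloisField.card 3 2 two_ne_zero]; rfl
      obtain ⟨f⟩ := S0254.result h9
      exact Or.inr (Or.inl ⟨rfl, Or.inr ⟨_, _, _, Or.inr (by rw [h9]), ⟨e.trans f.symm⟩⟩⟩)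
    · exact Or.inr (Or.inl ⟨rfl, Or.inl ⟨e⟩⟩)
  have h4 : 3 ≤ p := by have := hp.two_le; omega
  refine absurd h2 (ne_three hp (dvd_of_cop hp (A := 2)
    (fun h => h2' ((Nat.prime_dvd_prime_iff_eq hp Nat.prime_two).1 h)) ?_))
  rw [hc, ← Finset.prod_Ico_id_eq_factorial]
  have h6 : p < 2 * p := by omega
  have h7 : 2 * p < p ^ 2 := by nlinarith
  refine dvd_trans ?_ (Finset.prod_dvd_prod_of_subset {p, 2 * p, p ^ 2} _ _ fun i hi => by
    simp only [Finset.mem_insert, Finset.mem_singleton] at hi
    rw [Finset.mem_Ico]; omega)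
  rw [Finset.prod_insert (by simp only [Finset.mem_insert, Finset.mem_singleton]; omega), Finset.prod_pair h7.ne]
  exact ⟨2, by ring⟩

omit [Fact p.Prime] in
theorem fact_of {H : Type*} [Group H] (hx : X3 G p) (h : Nonempty (G ≃* H)) {N : ℕ} (hN : Nat.card H = N) :
    N.factorization p = 3 := by
  rw [← hN, ← h.elim fun e => Nat.card_congr e.toEquiv]
  exact hx.2

theorem sylAb_J1 : SylAb Spor.J1 2 := by
  refine sylAb_of_sylow (H46.J1.sylow_S.1.toSylow H46.J1.sylow_S.2) ⟨⟨fun a b => ?_⟩⟩
  have h : ∀ g : H46.J1.S, g * g = 1 := fun g => Subtype.ext (by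
    rcases H46.J1.mem_S g.2 with h | ⟨k, h⟩
    · simp [h]
    · have h2 : H46.J1.t * H46.J1.t = 1 := by rw [← sq, ← H46.J1.ord_t, pow_orderOf_eq_one]
      change (g : H46.J1.G) * g = 1
      rw [← h, conj_mul, h2, mul_one, mul_inv_cancel])
  have h' : ∀ g : H46.J1.S, g⁻¹ = g := fun g => inv_eq_of_mul_eq_one_right (h g)
  exact (h' (a * b)).symm.trans ((mul_inv_rev a b).trans (congrArg₂ (· * ·) (h' b) (h' a)))

theorem x3_spor (h : IsSporadicGroup G) (hx : X3 G p) : X3Concl G p := by
  have hp : p.Prime := Fact.out
  have no : ∀ {N : ℕ}, N.factorization p = 3 →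
      N ∣ ([2, 3, 5, 7, 11, 13, 17, 19, 23, 29, 31, 37, 41, 43, 47, 59, 67, 71] : List ℕ).prod ^ 46 →
      ([2, 3, 5, 7, 11, 13, 17, 19, 23, 29, 31, 37, 41, 43, 47, 59, 67, 71] : List ℕ).filter
        (fun x => decide (x ^ 3 ∣ N) && !decide (x ^ 4 ∣ N)) = [] → X3Concl G p :=
    fun h1 h2 h3 => absurd (cube_mem hp [] h2 h3 h1) (by simp)
  rcases h with h | h | h | h | h | h | h | h | h | h | h | h | h | h | h | h | h | h | h | h | h | h | h | h | h | h
  · exact no (fact_of hx h H74.card_M11) (by decide +kernel) (by decide +kernel)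
  · have := cube_mem hp [3] (by decide +kernel) (by decide +kernel) (fact_of hx h H74.card_M12)
    simp only [X3Concl, h, true_or, or_true, and_true, List.mem_singleton.1 this]
  · exact no (fact_of hx h H74.card_M22) (by decide +kernel) (by decide +kernel)
  · exact no (fact_of hx h H74.card_M23) (by decide +kernel) (by decide +kernel)
  · have := cube_mem hp [3] (by decide +kernel) (by decide +kernel) (fact_of hx h H42.card_M24)
    simp only [X3Concl, h, true_or, or_true, and_true, List.mem_singleton.1 this]
  · obtain rfl := List.mem_singleton.1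
      (cube_mem hp [2] (by decide +kernel) (by decide +kernel) (fact_of hx h H46.J1.card_G))
    exact h.elim fun e => absurd sylAb_J1 (hx.congr e).1
  · have := cube_mem hp [3] (by decide +kernel) (by decide +kernel) (H70.IsoJ2.card h ▸ hx.2)
    simp only [X3Concl, h, true_or, or_true, and_true, List.mem_singleton.1 this]
  · exact no (H70.IsoJ3.card h ▸ hx.2) (by decide +kernel) (by decide +kernel)
  · have := cube_mem hp [3, 11] (by decide +kernel) (by decide +kernel) (fact_of hx h H46.J4.hub.card)
    rcases List.mem_pair.1 this with this | this <;> simp only [X3Concl, h, true_or, or_true, and_true, this]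
  · exact no (fact_of hx h H48.card_Co1) (by decide +kernel) (by decide +kernel)
  · have := cube_mem hp [5] (by decide +kernel) (by decide +kernel) (fact_of hx h H48.card_Co2)
    simp only [X3Concl, h, true_or, or_true, and_true, List.mem_singleton.1 this]
  · have := cube_mem hp [5] (by decide +kernel) (by decide +kernel) (fact_of hx h H48.card_Co3)
    simp only [X3Concl, h, true_or, or_true, and_true, List.mem_singleton.1 this]
  · have := cube_mem hp [5] (by decide +kernel) (by decide +kernel) (fact_of hx h H48.card_McL)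
    simp only [X3Concl, h, true_or, or_true, and_true, List.mem_singleton.1 this]
  · have := cube_mem hp [5] (by decide +kernel) (by decide +kernel) (fact_of hx h H48.card_HS)
    simp only [X3Concl, h, true_or, or_true, and_true, List.mem_singleton.1 this]
  · exact no (fact_of hx h H44.SuzM.card) (by decide +kernel) (by decide +kernel)
  · have := cube_mem hp [3, 7] (by decide +kernel) (by decide +kernel) (fact_of hx h H44.HeM.card)
    rcases List.mem_pair.1 this with this | this <;> simp only [X3Concl, h, true_or, or_true, and_true, this]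
  · have := cube_mem hp [3, 5] (by decide +kernel) (by decide +kernel) (fact_of hx h H46.Ru.card_Ru)
    rcases List.mem_pair.1 this with this | this <;> simp only [X3Concl, h, true_or, or_true, and_true, this]
  · have := cube_mem hp [7] (by decide +kernel) (by decide +kernel) (fact_of hx h H44.ONM.card)
    simp only [X3Concl, h, true_or, or_true, and_true, List.mem_singleton.1 this]
  · exact no (fact_of hx h H81.Ly.card_Ly) (by decide +kernel) (by decide +kernel)
  · exact no (fact_of hx h H44.Fi22M.card) (by decide +kernel) (by decide +kernel)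
  · exact no (fact_of hx h H44.Fi23M.card) (by decide +kernel) (by decide +kernel)
  · have := cube_mem hp [7] (by decide +kernel) (by decide +kernel)
      (fact_of hx h ((Nat.card_congr H44.F24.iso'.toEquiv).trans H41.card_commutator24))
    simp only [X3Concl, h, true_or, or_true, and_true, List.mem_singleton.1 this]
  · exact no (fact_of hx h H68.HN.card_G) (by decide +kernel) (by decide +kernel)
  · have := cube_mem hp [5] (by decide +kernel) (by decide +kernel) (fact_of hx h H90.ThO.card)
    simp only [X3Concl, h, true_or, or_true, and_true, List.mem_singleton.1 this]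
  · exact no (fact_of hx h (H97.Yt.bEquiv.elim fun e => (Nat.card_congr e.toEquiv).trans H97.Gr.isB_BB.2))
      (by decide +kernel) (by decide +kernel)
  · have := cube_mem hp [13] (by decide +kernel) (by decide +kernel)
      (fact_of hx h (H97.Yt.mEquiv.elim fun e => (Nat.card_congr e.toEquiv).trans H97.Gr.isM_real.2))
    simp only [X3Concl, h, true_or, or_true, and_true, List.mem_singleton.1 this]

end Cfsg.Agent.H32.X3
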