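import Cfsg.Agent.H97.XSDefs
import Cfsg.Agent.H31.FieldInv
import Cfsg.Agent.S0278

/-!
Piece MSU of S5177: the relations `R22` in `SU₄(p)`.
-/

set_option autoImplicit false

namespace Cfsg.Agent.H32.XsU4

open Cfsg Matrix Cfsg.Agent.H97.XS
open scoped MatrixGroups commutatorElement

theorem r22_iff {G H : Type*} [Group G] [Group H] (f : G →* H) (hf : Function.Injective f)
    {p : ℕ} {r : ℤ} {a b c : G} : R22 p r (f a) (f b) (f c) ↔ R22 p r a b c := by
  have k : ∀ x y, Commute (f x) (f y) ↔ Commute x y :=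
    fun x y => ⟨Commute.of_map hf, fun h => h.map f⟩
  constructor <;> rintro ⟨h1, h2, h3, h4, h5, h6, h7, h8, h9, h10, h11, h12, h13, h14, h15⟩ <;>
    refine ⟨?_, ?_, ?_, ?_, ?_, ?_, ?_, ?_, ?_, ?_, ?_, ?_, ?_, ?_, h15⟩ <;>
    simp only [← map_commutatorElement, ← map_pow, ← map_zpow, k, hf.eq_iff,
      map_eq_one_iff f hf, ne_eq] at * <;> assumption

variable {K : Type*} [Field K]

/-- upper unitriangular matrices -/
def uu (a b c d e f : K) : SL(4, K) :=
  ⟨!![1, a, b, c; 0, 1, d, e; 0, 0, 1, f; 0, 0, 0, 1], by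
    rw [det_of_upperTriangular]
    · simp [Fin.prod_univ_four]
    · intro i j h
      fin_cases i <;> fin_cases j <;> simp_all⟩

theorem uu_mul (a b c d e f a' b' c' d' e' f' : K) :
    uu a b c d e f * uu a' b' c' d' e' f' = uu (a + a') (b + a * d' + b')
      (c + a * e' + b * f' + c') (d + d') (e + d * f' + e') (f + f') := by
  apply Subtype.ext
  change (uu a b c d e f).1 * (uu a' b' c' d' e' f').1 = _
  ext i j
  fin_cases i <;> fin_cases j <;> simp [uu, mul_apply, Fin.sum_univ_four] <;> ring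

theorem uu_zero : uu (0 : K) 0 0 0 0 0 = 1 := by
  apply Subtype.ext
  ext i j
  fin_cases i <;> fin_cases j <;> simp [uu]

theorem uu_congr {a b c d e f a' b' c' d' e' f' : K} (h1 : a = a') (h2 : b = b') (h3 : c = c')
    (h4 : d = d') (h5 : e = e') (h6 : f = f') : uu a b c d e f = uu a' b' c' d' e' f' := by
  rw [h1, h2, h3, h4, h5, h6]

theorem zpow_of_add {G : Type*} [Group G] (g : K → G) (hg : ∀ s t, g (s + t) = g s * g t) (n : ℤ) :
    g 1 ^ n = g n := by
  have := map_zpow (MonoidHom.mk' (fun x : Multiplicative K => g x.toAdd) fun _ _ => hg _ _)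
    (Multiplicative.ofAdd 1) n
  simpa using this.symm

theorem comm_eq {G : Type*} [Group G] {a b c : G} (h : a * b = c * b * a) : ⁅a, b⁆ = c := by
  rw [commutatorElement_def, h]
  group

theorem comm_ye (a b t : K) :
    ⁅uu a 0 0 0 0 b, uu 0 0 0 t 0 0⁆ = uu 0 (a * t) (-(a * b * t)) 0 (-(b * t)) 0 :=
  comm_eq (by simp only [uu_mul]; exact uu_congr (by ring) (by ring) (by ring) (by ring) (by ring) (by ring))

theorem comm_yh (a b x y w : K) :
    ⁅uu a 0 0 0 0 b, uu 0 x y 0 w 0⁆ = uu 0 0 (a * w - x * b) 0 0 0 :=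
  comm_eq (by simp only [uu_mul]; exact uu_congr (by ring) (by ring) (by ring) (by ring) (by ring) (by ring))

theorem r22_sl {p : ℕ} [CharP K p] {θ : K} {r : ℤ} (hr : (r : K) = -(θ * θ)) (h0 : θ ≠ 0)
    (h2 : (2 : K) ≠ 0) (hr0 : (r : ZMod p) ≠ 0) :
    R22 p r (uu 1 0 0 0 0 (-1)) (uu θ 0 0 0 0 θ) (uu 0 0 0 θ 0 0) := by
  have py : ∀ a b d : K, a * d = 0 → d * b = 0 → uu a 0 0 d 0 b ^ p = 1 := fun a b d h h' => by
    have := zpow_of_add (fun t => uu (t * a) 0 0 (t * d) 0 (t * b)) (fun s t => by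
      simp only [uu_mul]
      exact uu_congr (by ring) (by linear_combination (-s * t) * h) (by ring) (by ring)
        (by linear_combination (-s * t) * h') (by ring)) p
    simpa [uu_zero] using this
  refine ⟨py _ _ _ (by ring) (by ring), py _ _ _ (by ring) (by ring), py _ _ _ (by ring) (by ring),
    ?_, ?_, ?_, ?_, ?_, ?_, ?_, ?_, ?_, ?_, ?_, hr0⟩
  all_goals try simp only [comm_ye, comm_yh]
  iterate 6
    change _ * _ = _ * _
    simp only [uu_mul]
    exact uu_congr (by ring) (by ring) (by ring) (by ring) (by ring) (by ring)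
  · have := zpow_of_add (fun t => uu 0 0 (t * (2 * θ)) 0 0 0) (fun s t => by
      simp only [uu_mul]
      exact uu_congr (by ring) (by ring) (by ring) (by ring) (by ring) (by ring)) r
    rw [show (1 : K) * -(-1 * θ) - 1 * θ * -1 = 1 * (2 * θ) by ring, this, hr]
    exact uu_congr rfl rfl (by ring) rfl rfl rfl
  iterate 3
    change _ * _ = _ * _
    simp only [uu_mul]
    exact uu_congr (by ring) (by ring) (by ring) (by ring) (by ring) (by ring)
  intro h
  have := congrFun (congrFun (congrArg Subtype.val h) 0) 3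
  simp [uu, ← two_mul, h2, h0] at this

/-- the antidiagonal form -/
def fJ (σ : K →+* K) (u v : Fin 4 → K) : K :=
  u 0 * σ (v 3) + u 1 * σ (v 2) + u 2 * σ (v 1) + u 3 * σ (v 0)

/-- the change of basis -/
def pm (c : K) : Matrix (Fin 4) (Fin 4) K := !![1, 0, 0, 1; c, 0, 0, -c; 0, 1, 1, 0; 0, c, -c, 0]

/-- the inverse of the change of basis -/
def pm' (i d : K) : Matrix (Fin 4) (Fin 4) K :=
  !![i, i * d, 0, 0; 0, 0, i, i * d; 0, 0, i, -(i * d); i, -(i * d), 0, 0]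

theorem pm_mul {c i d : K} (hi : 2 * i = 1) (hd : c * d = 1) : pm c * pm' i d = 1 := by
  ext j k
  fin_cases j <;> fin_cases k <;> simp [pm, pm', mul_apply, Fin.sum_univ_four] <;>
    first | linear_combination hi | linear_combination (c * d) * hi + hd

/-- conjugation -/
def cj (P P' : Matrix (Fin 4) (Fin 4) K) (h : P * P' = 1) : SL(4, K) →* SL(4, K) :=
  MonoidHom.mk' (fun M => ⟨P * M.1 * P', by
    rw [det_mul, det_mul, M.2, mul_one, ← det_mul, h, det_one]⟩) fun M N => Subtype.ext (by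
      change P * (M.1 * N.1) * P' = P * M.1 * P' * (P * N.1 * P')
      simp only [Matrix.mul_assoc]
      rw [← Matrix.mul_assoc P' P, mul_eq_one_comm.1 h, Matrix.one_mul])

theorem cj_inj (P P' : Matrix (Fin 4) (Fin 4) K) (h : P * P' = 1) :
    Function.Injective (cj P P' h) := fun M N e => Subtype.ext (by
  have h' := mul_eq_one_comm.1 h
  have e1 : P * M.1 * P' = P * N.1 * P' := congrArg Subtype.val e
  have e2 := congrArg (fun X => P' * X * P) e1
  simpa only [Matrix.mul_assoc, h', Matrix.mul_one, ← Matrix.mul_assoc P' P, Matrix.one_mul]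
    using e2)

theorem herm_pm {q : ℕ} (σ : K →+* K) (hσ : ∀ x, σ x = x ^ q) {c : K} (hc : c * σ c = -1)
    (u v : Fin 4 → K) : hermForm 4 K q (pm c *ᵥ u) (pm c *ᵥ v) = 2 * fJ σ u v := by
  simp only [hermForm, ← hσ]
  simp [pm, fJ, mulVec, dotProduct, Fin.sum_univ_four]
  linear_combination ((u 0 - u 3) * (σ (v 0) - σ (v 3)) + (u 1 - u 2) * (σ (v 1) - σ (v 2))) * hc

theorem cj_mem {q : ℕ} (σ : K →+* K) (hσ : ∀ x, σ x = x ^ q) {c : K} (hc : c * σ c = -1)
    {P' : Matrix (Fin 4) (Fin 4) K} (h : pm c * P' = 1) (M : SL(4, K))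
    (hM : ∀ u v, fJ σ (M.1 *ᵥ u) (M.1 *ᵥ v) = fJ σ u v) : cj _ _ h M ∈ SU 4 K q := by
  intro u v
  change hermForm 4 K q ((pm c * M.1 * P') *ᵥ u) ((pm c * M.1 * P') *ᵥ v) = _
  simp only [← mulVec_mulVec]
  rw [herm_pm σ hσ hc, hM, ← herm_pm σ hσ hc, mulVec_mulVec, mulVec_mulVec, h, one_mulVec,
    one_mulVec]

theorem fJ_uu (σ : K →+* K) {a b d : K} (h1 : σ a = -b) (h2 : σ b = -a) (h3 : σ d = -d)
    (h4 : a * d = 0) (h5 : d * b = 0) (u v : Fin 4 → K) :
    fJ σ ((uu a 0 0 d 0 b).1 *ᵥ u) ((uu a 0 0 d 0 b).1 *ᵥ v) = fJ σ u v := by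
  simp [uu, fJ, mulVec, dotProduct, Fin.sum_univ_four, h1, h2, h3]
  linear_combination (-(u 2 * σ (v 3))) * h4 - (u 3 * σ (v 2)) * h5

theorem fact_su {p : ℕ} (hp : p.Prime) [Fintype K] (hK : Fintype.card K = p ^ 2) :
    (Nat.card (SU 4 K p)).factorization p = 6 := by
  have h := S0278.result hK 4 (by norm_num)
  simp only [Finset.prod_range_succ, Finset.range_zero, Finset.prod_empty, Even.zero, if_true,
    show ¬ Even 1 by decide, show Even 2 by decide, show ¬ Even 3 by decide, if_false] at h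
  have h1 : Nat.card (SU 4 K p) = p ^ 6 * ((p ^ 2 - 1) * (p ^ 3 + 1) * (p ^ 4 - 1)) := by
    apply Nat.eq_of_mul_eq_mul_left (Nat.succ_pos p)
    rw [Nat.succ_eq_add_one, h]
    ring
  have a1 : ∀ k, ¬ p ∣ p ^ (k + 1) + 1 := fun k e =>
    hp.not_dvd_one ((Nat.dvd_add_right (dvd_pow_self p k.succ_ne_zero)).1 e)
  have a2 : ∀ k, ¬ p ∣ p ^ (k + 1) - 1 := fun k e => by
    have := Nat.dvd_sub (dvd_pow_self p k.succ_ne_zero) e
    rw [Nat.sub_sub_self (Nat.one_le_pow _ _ hp.pos)] at this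
    exact hp.not_dvd_one this
  have h2 : ¬ p ∣ (p ^ 2 - 1) * (p ^ 3 + 1) * (p ^ 4 - 1) := by
    simp only [hp.dvd_mul, not_or]
    exact ⟨⟨a2 1, a1 2⟩, a2 3⟩
  rw [h1, Nat.factorization_mul (pow_ne_zero _ hp.ne_zero) (fun e => h2 (by rw [e]; exact dvd_zero p)),
    Finsupp.add_apply, Nat.factorization_eq_zero_of_not_dvd h2, hp.factorization_pow]
  simp

theorem msu : MSUStmt := by
  intro p hp hp2
  let K := GaloisField p 2
  let _ : Fintype K := Fintype.ofFinite _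
  have hK : Fintype.card K = p ^ 2 := by
    rw [← Nat.card_eq_fintype_card, GaloisField.card p 2 (by norm_num)]
  refine ⟨K, inferInstance, inferInstance, hK, ?_, fact_su hp.out hK⟩
  let σ := H31.frobQ hK
  have hσ : ∀ x, σ x = x ^ p := fun _ => rfl
  have hI : H31.IsInvol σ := H31.isInvol_frobQ hK
  have h2 : (2 : K) ≠ 0 := fun e => hp2 ((Nat.prime_dvd_prime_iff_eq hp.out Nat.prime_two).1
    ((CharP.cast_eq_zero_iff K p 2).1 (by exact_mod_cast e)))
  obtain ⟨θ, h0, hθ⟩ := hI.exists_skew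
  obtain ⟨c, hc⟩ := hI.exists_norm_eq (a := -1) (by simp)
  obtain ⟨r, hr⟩ := (mem_bot_iff_intCast p K).1 ((Subfield.mem_bot_iff_pow_eq_self K p).2
    (show (-(θ * θ)) ^ p = -(θ * θ) by rw [← hσ, map_neg, map_mul, hθ]; ring))
  let φ := ZMod.castHom (dvd_refl p) K
  have hr0 : (r : ZMod p) ≠ 0 := fun e => by
    have := congrArg φ e
    rw [map_intCast, map_zero, hr] at this
    simp [h0] at this
  have hns : ¬ IsSquare (-(r : ZMod p)) := by
    rintro ⟨t, ht⟩
    have e1 := congrArg φ ht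
    rw [map_neg, map_intCast, hr, neg_neg, map_mul] at e1
    have e2 : σ (φ t) = φ t := by rw [hσ, ← map_pow, ZMod.pow_card]
    have e3 : σ θ = θ := by
      rcases mul_self_eq_mul_self_iff.1 e1 with e | e <;> rw [e]
      exacts [e2, by rw [map_neg, e2]]
    rw [hθ] at e3
    exact mul_ne_zero h2 h0 (by linear_combination -e3)
  have hP : pm c * pm' 2⁻¹ (-σ c) = 1 := pm_mul (mul_inv_cancel₀ h2) (by linear_combination -hc)
  refine ⟨r, ⟨_, cj_mem σ hσ hc hP (uu 1 0 0 0 0 (-1)) (fJ_uu σ ?_ ?_ ?_ ?_ ?_)⟩,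
    ⟨_, cj_mem σ hσ hc hP (uu θ 0 0 0 0 θ) (fJ_uu σ hθ hθ ?_ ?_ ?_)⟩,
    ⟨_, cj_mem σ hσ hc hP (uu 0 0 0 θ 0 0) (fJ_uu σ ?_ ?_ hθ ?_ ?_)⟩, hns, ?_⟩
  · exact (map_one σ).trans (neg_neg _).symm
  iterate 11 exact (by simp)
  exact (r22_iff (SU 4 K p).subtype (Subgroup.subtype_injective _)).1
    ((r22_iff _ (cj_inj _ _ hP)).2 (r22_sl hr h0 h2 hr0))

end Cfsg.Agent.H32.XsU4
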